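import Groth.Agent.DimLib.Morphism
import Groth.Agent.DimLib.BaseChange
import Groth.Agent.EGA43.FlatDescent.SchemeOpen
import Groth.Agent.AlgSpLib.FppfLocal
import Groth.Agent.H8Lim.FinitePresentation
import Mathlib.AlgebraicGeometry.AlgClosed.Basic
import Mathlib.AlgebraicGeometry.ZariskisMainTheorem
import Mathlib.AlgebraicGeometry.Geometrically.Integral
import Mathlib.AlgebraicGeometry.FunctionField
import Mathlib.CategoryTheory.Monoidal.Cartesian.Over
import Mathlib.CategoryTheory.Monoidal.Cartesian.Grp

/-!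
# Homomorphisms of group varieties: flatness, finiteness, dimensions
-/

universe u

open CategoryTheory CategoryTheory.Limits AlgebraicGeometry MonoidalCategory CartesianMonoidalCategory MonObj

namespace Groth.Agent.AbVarLib

open Groth.Agent.DimLib

section General

theorem map_genericPoint_of_surjective {X Y : Scheme.{u}} [IrreducibleSpace X] [IrreducibleSpace Y] (f : X ⟶ Y)
    [Surjective f] : f (genericPoint X) = genericPoint Y := by
  obtain ⟨x, hx⟩ := f.surjective (genericPoint Y)
  have h1 : f (genericPoint X) ⤳ genericPoint Y := hx ▸ (genericPoint_specializes x).map f.continuous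
  exact (h1.antisymm (genericPoint_specializes _)).eq

theorem flat_stalkMap_iso_left {X X' Y : Scheme.{u}} (e : X' ⟶ X) [IsIso e] (f : X ⟶ Y) (x : X') :
    ((e ≫ f).stalkMap x).hom.Flat ↔ (f.stalkMap (e x)).hom.Flat := by
  have hb : Function.Bijective (e.stalkMap x).hom := ConcreteCategory.bijective_of_isIso (e.stalkMap x)
  rw [Scheme.Hom.stalkMap_comp]
  show ((e.stalkMap x).hom.comp (f.stalkMap (e x)).hom).Flat ↔ _
  refine ⟨fun h => ?_, fun h => h.comp (RingHom.Flat.of_bijective hb)⟩
  have hb' : Function.Bijective (inv (e.stalkMap x)).hom := ConcreteCategory.bijective_of_isIso _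
  have h' := h.comp (RingHom.Flat.of_bijective hb')
  rwa [← RingHom.comp_assoc, ← CommRingCat.hom_comp (e.stalkMap x), IsIso.hom_inv_id, CommRingCat.hom_id,
    RingHom.id_comp] at h'

theorem flat_stalkMap_iso_right {X Y Y' : Scheme.{u}} (f : X ⟶ Y) (e : Y ⟶ Y') [IsIso e] (x : X)
    (h : (f.stalkMap x).hom.Flat) : ((f ≫ e).stalkMap x).hom.Flat := by
  rw [Scheme.Hom.stalkMap_comp]
  show ((f.stalkMap x).hom.comp (e.stalkMap (f x)).hom).Flat
  exact (RingHom.Flat.of_bijective (ConcreteCategory.bijective_of_isIso (e.stalkMap (f x)))).comp h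

theorem flat_stalkMap_of_eq_genericPoint {X Y : Scheme.{u}} [IsIntegral Y] (f : X ⟶ Y) (x : X)
    (h : f x = genericPoint Y) : (f.stalkMap x).hom.Flat := by
  have hf : IsField (Y.presheaf.stalk (f x)) := by
    rw [h]
    exact Field.toIsField Y.functionField
  letI := hf.toField
  algebraize [(f.stalkMap x).hom]
  exact Module.Flat.of_free

end General

section AlgClosed

variable {K : Type u} [Field K] [IsAlgClosed K] {X Y : Over (Spec (CommRingCat.of K))} [GrpObj X] [GrpObj Y]

/-- translation by a rational point -/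
noncomputable def translate (a : 𝟙_ (Over (Spec (CommRingCat.of K))) ⟶ X) : X ≅ X where
  hom := (toUnit X ≫ a) * 𝟙 X
  inv := (toUnit X ≫ a⁻¹) * 𝟙 X
  hom_inv_id := by
    rw [MonObj.comp_mul, Category.comp_id, ← Category.assoc,
      toUnit_unique (((toUnit X ≫ a) * 𝟙 X) ≫ toUnit X) (toUnit X), GrpObj.comp_inv, ← _root_.mul_assoc,
      inv_mul_cancel, _root_.one_mul]
  inv_hom_id := by
    rw [MonObj.comp_mul, Category.comp_id, ← Category.assoc,
      toUnit_unique (((toUnit X ≫ a⁻¹) * 𝟙 X) ≫ toUnit X) (toUnit X), GrpObj.comp_inv, ← _root_.mul_assoc,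
      mul_inv_cancel, _root_.one_mul]

theorem translate_comp (f : X ⟶ Y) [IsMonHom f] (a : 𝟙_ (Over (Spec (CommRingCat.of K))) ⟶ X) :
    (translate a).hom ≫ f = f ≫ (translate (a ≫ f)).hom := by
  simp only [translate, MonObj.mul_comp, MonObj.comp_mul, Category.id_comp, Category.comp_id, Category.assoc]
  rw [← Category.assoc f, toUnit_unique (f ≫ toUnit Y) (toUnit X)]

variable [LocallyOfFiniteType X.hom]

/-- Translations act transitively on closed points. -/
theorem exists_translate (f : X ⟶ Y) [IsMonHom f] (u x : X.left) (hu : IsClosed ({u} : Set X.left))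
    (hx : IsClosed ({x} : Set X.left)) :
    ∃ (θ : X.left ≅ X.left) (η' : Y.left ≅ Y.left),
      θ.hom ≫ f.left = f.left ≫ η'.hom ∧ θ.hom u = x := by
  let u' : 𝟙_ (Over (Spec (CommRingCat.of K))) ⟶ X :=
    Over.homMk (pointOfClosedPoint X.hom u hu) (pointOfClosedPoint_comp X.hom u hu)
  let x' : 𝟙_ (Over (Spec (CommRingCat.of K))) ⟶ X :=
    Over.homMk (pointOfClosedPoint X.hom x hx) (pointOfClosedPoint_comp X.hom x hx)
  let a := x' * u'⁻¹
  refine ⟨(Over.forget _).mapIso (translate a), (Over.forget _).mapIso (translate (a ≫ f)), ?_, ?_⟩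
  · exact congrArg CommaMorphism.left (translate_comp f a)
  · have h : u' ≫ (translate a).hom = x' := by
      simp only [translate, MonObj.comp_mul, Category.comp_id, ← Category.assoc]
      rw [toUnit_unique (u' ≫ toUnit X) (𝟙 _), Category.id_comp, _root_.mul_assoc, inv_mul_cancel, _root_.mul_one]
    have h' := congrArg (fun k : _ ⟶ X => k.left (IsLocalRing.closedPoint K)) h
    change (translate a).hom.left (pointOfClosedPoint X.hom u hu _) = pointOfClosedPoint X.hom x hx _ at h'
    rwa [pointOfClosedPoint_apply, pointOfClosedPoint_apply] at h'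

theorem flat_of_surjective_algClosed [IsIntegral X.left] [IsIntegral Y.left] [LocallyOfFiniteType Y.hom]
    (f : X ⟶ Y) [IsMonHom f] [Surjective f.left] : Flat f.left := by
  have : LocallyOfFinitePresentation X.hom := inferInstance
  have : LocallyOfFinitePresentation f.left := by
    have : LocallyOfFinitePresentation (f.left ≫ Y.hom) := by rw [Over.w f]; infer_instance
    exact Groth.Agent.H8Lim.lfp_cancel_right f.left Y.hom
  have := LocallyOfFiniteType.jacobsonSpace X.hom
  have hopen := Groth.Agent.EGA43.FlatDescent.isOpen_flat_stalkMap f.left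
  obtain ⟨u, hu, huc⟩ := nonempty_inter_closedPoints
    (Z := {x : X.left | (f.left.stalkMap x).hom.Flat})
    ⟨genericPoint X.left, flat_stalkMap_of_eq_genericPoint f.left _ (map_genericPoint_of_surjective f.left)⟩
    hopen.isLocallyClosed
  rw [Flat.iff_flat_stalkMap]
  by_contra hne
  push Not at hne
  obtain ⟨x, hx, hxc⟩ := nonempty_inter_closedPoints (Z := {x : X.left | (f.left.stalkMap x).hom.Flat}ᶜ)
    hne hopen.isClosed_compl.isLocallyClosed
  obtain ⟨θ, η', hcomm, hθ⟩ := exists_translate f u x huc hxc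
  have h2 : ((θ.hom ≫ f.left).stalkMap u).hom.Flat := by
    rw [hcomm]
    exact flat_stalkMap_iso_right f.left η'.hom u hu
  rw [flat_stalkMap_iso_left θ.hom f.left u, hθ] at h2
  exact hx h2

theorem locallyQuasiFinite_of_finite_fibre_algClosed (f : X ⟶ Y) [IsMonHom f] [LocallyOfFiniteType f.left]
    [QuasiCompact f.left] (u : X.left) (huc : IsClosed ({u} : Set X.left))
    (hfin : (f.left ⁻¹' {f.left u}).Finite) : LocallyQuasiFinite f.left := by
  have := LocallyOfFiniteType.jacobsonSpace X.hom
  rw [← Scheme.Hom.quasiFiniteLocus_eq_top_iff, ← TopologicalSpace.Opens.coe_eq_univ, ← not_ne_iff, ← Set.nonempty_compl]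
  intro H
  obtain ⟨x, hx, hxc⟩ := nonempty_inter_closedPoints H f.left.quasiFiniteLocus.2.isClosed_compl.isLocallyClosed
  obtain ⟨θ, η', hcomm, hθ⟩ := exists_translate f u x huc hxc
  apply hx
  have hcomm' : ∀ z, f.left (θ.hom z) = η'.hom (f.left z) := fun z => by
    rw [← Scheme.Hom.comp_apply, hcomm, Scheme.Hom.comp_apply]
  have hfin' : (f.left ⁻¹' {f.left x}).Finite := by
    refine (hfin.image θ.hom).subset fun z hz => ⟨θ.inv z, ?_, ?_⟩
    · have hz' : θ.hom (θ.inv z) = z := by
        rw [← Scheme.Hom.comp_apply, θ.inv_hom_id]; rfl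
      have e := hcomm' (θ.inv z)
      rw [hz', Set.mem_singleton_iff.1 hz, ← hθ, hcomm'] at e
      exact η'.hom.isOpenEmbedding.injective e.symm
    · rw [← Scheme.Hom.comp_apply, θ.inv_hom_id]; rfl
  have : Finite (f.left.fiber (f.left x)) := (f.left.fiberHomeo (f.left x)).finite_iff.mpr hfin'
  exact Scheme.Hom.quasiFiniteAt_iff_isOpen_singleton_asFiber.mpr (isOpen_discrete _)

end AlgClosed

section Field

variable {k : Type u} [Field k] {X Y : Over (Spec (CommRingCat.of k))}

variable (k) in
/-- the geometric point of the base -/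
noncomputable abbrev algPt : Spec (CommRingCat.of (AlgebraicClosure k)) ⟶ Spec (CommRingCat.of k) :=
  Spec.map (CommRingCat.ofHom (algebraMap k (AlgebraicClosure k)))

theorem isPullback_pullback_map {S T : Scheme.{u}} {X Y : Over S} (g : T ⟶ S) (f : X ⟶ Y) :
    IsPullback (pullback.fst X.hom g) ((Over.pullback g).map f).left f.left (pullback.fst Y.hom g) := by
  refine (IsPullback.of_bot ?_ (pullback.lift_fst _ _ _).symm (IsPullback.of_hasPullback Y.hom g))
  have e1 : f.left ≫ Y.hom = X.hom := Over.w f
  have e2 : ((Over.pullback g).map f).left ≫ pullback.snd Y.hom g = pullback.snd X.hom g := pullback.lift_snd _ _ _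
  rw [e1, e2]
  exact IsPullback.of_hasPullback X.hom g

theorem fpqc_pullback_algPt (Y : Over (Spec (CommRingCat.of k))) :
    Et18.FPQC.{u} (pullback.fst Y.hom (algPt k)) := by
  refine ⟨⟨?_, ?_⟩, ?_⟩ <;> infer_instance

variable [GrpObj X] [GrpObj Y] [GeometricallyIntegral X.hom] [GeometricallyIntegral Y.hom]
  [LocallyOfFiniteType X.hom] [LocallyOfFiniteType Y.hom]

theorem flat_of_surjective (f : X ⟶ Y) [IsMonHom f] [Surjective f.left] : Flat f.left := by
  let G := Over.pullback (algPt k)
  letI : GrpObj (G.obj X) := Functor.grpObjObj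
  letI : GrpObj (G.obj Y) := Functor.grpObjObj
  have hP := isPullback_pullback_map (algPt k) f
  have : Surjective (G.map f).left := MorphismProperty.of_isPullback hP inferInstance
  have : IsIntegral (G.obj X).left :=
    GeometricallyIntegral.geometrically_isIntegral (f := X.hom) (algPt k) _ _ (IsPullback.of_hasPullback X.hom _)
  have : IsIntegral (G.obj Y).left :=
    GeometricallyIntegral.geometrically_isIntegral (f := Y.hom) (algPt k) _ _ (IsPullback.of_hasPullback Y.hom _)
  have : LocallyOfFiniteType (G.obj X).hom := inferInstanceAs (LocallyOfFiniteType (pullback.snd _ _))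
  have : LocallyOfFiniteType (G.obj Y).hom := inferInstanceAs (LocallyOfFiniteType (pullback.snd _ _))
  haveI := AlgSpLib.descends_flat.{u}
  exact MorphismProperty.of_isPullback_of_descendsAlong (Q := Et18.FPQC.{u}) hP.flip (fpqc_pullback_algPt Y)
    (flat_of_surjective_algClosed (G.map f))

theorem locallyQuasiFinite_of_finite_preimage (f : X ⟶ Y) [IsMonHom f] [IsProper f.left] (y : Y.left)
    (hy : y ∈ Set.range f.left) (hfin : (f.left ⁻¹' {y}).Finite) : LocallyQuasiFinite f.left := by
  let G := Over.pullback (algPt k)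
  letI : GrpObj (G.obj X) := Functor.grpObjObj
  letI : GrpObj (G.obj Y) := Functor.grpObjObj
  have hP := isPullback_pullback_map (algPt k) f
  have : LocallyOfFiniteType (G.obj X).hom := inferInstanceAs (LocallyOfFiniteType (pullback.snd _ _))
  have : IsProper (G.map f).left := MorphismProperty.of_isPullback hP inferInstance
  obtain ⟨V, hyV, hV⟩ := exists_isFinite_morphismRestrict_of_finite_preimage_singleton f.left y hfin
  obtain ⟨x, hxy⟩ := hy
  obtain ⟨z, hz⟩ := (pullback.fst X.hom (algPt k)).surjective x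
  have hne : (((G.map f).left ≫ pullback.fst Y.hom (algPt k)) ⁻¹' (V : Set Y.left)).Nonempty := by
    refine ⟨z, ?_⟩
    show ((G.map f).left ≫ pullback.fst Y.hom (algPt k)) z ∈ V
    rw [show (G.map f).left ≫ pullback.fst Y.hom (algPt k) = pullback.fst X.hom (algPt k) ≫ f.left from hP.w.symm,
      Scheme.Hom.comp_apply, hz, hxy]
    exact hyV
  have := LocallyOfFiniteType.jacobsonSpace (G.obj X).hom
  obtain ⟨u, huV, huc⟩ := nonempty_inter_closedPoints hne
    (V.2.preimage ((G.map f).left ≫ pullback.fst Y.hom (algPt k)).continuous).isLocallyClosed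
  let V' : ((G.obj Y).left).Opens := pullback.fst Y.hom (algPt k) ⁻¹ᵁ V
  have hfV : IsFinite ((G.map f).left ∣_ V') := by
    have h := (isPullback_morphismRestrict f.left V)
    have h' := isPullback_morphismRestrict (G.map f).left V'
    let r : ((G.map f).left ⁻¹ᵁ V').toScheme ⟶ (f.left ⁻¹ᵁ V).toScheme :=
      IsOpenImmersion.lift (f.left ⁻¹ᵁ V).ι (((G.map f).left ⁻¹ᵁ V').ι ≫ pullback.fst X.hom (algPt k)) (by
        rintro _ ⟨w, rfl⟩
        rw [Scheme.Opens.range_ι]
        show f.left (pullback.fst X.hom (algPt k) (((G.map f).left ⁻¹ᵁ V').ι w)) ∈ V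
        rw [← Scheme.Hom.comp_apply, hP.w, Scheme.Hom.comp_apply]
        exact w.2)
    have hr : r ≫ (f.left ⁻¹ᵁ V).ι = ((G.map f).left ⁻¹ᵁ V').ι ≫ pullback.fst X.hom (algPt k) :=
      IsOpenImmersion.lift_fac _ _ _
    have hbig := h'.flip.paste_horiz hP
    rw [← hr, ← morphismRestrict_ι] at hbig
    exact MorphismProperty.of_isPullback (IsPullback.of_right hbig (by
      rw [← cancel_mono V.ι, Category.assoc, Category.assoc, morphismRestrict_ι, ← Category.assoc r, hr,
        Category.assoc, hP.w, morphismRestrict_ι, ← Category.assoc, ← morphismRestrict_ι, Category.assoc]) h.flip) hV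
  have hfin' : ((G.map f).left ⁻¹' {(G.map f).left u}).Finite := by
    refine ((((G.map f).left ∣_ V').finite_preimage_singleton ⟨(G.map f).left u, huV⟩).image Subtype.val).subset ?_
    intro w hw
    have hwV : (G.map f).left w ∈ V' := by rw [Set.mem_singleton_iff.1 hw]; exact huV
    exact ⟨⟨w, hwV⟩, Subtype.ext ((morphismRestrict_base_coe _ _ _).trans hw), rfl⟩
  have h := locallyQuasiFinite_of_finite_fibre_algClosed (G.map f) u huc hfin'
  haveI := Et18.descends_locallyQuasiFinite.{u}
  exact (MorphismProperty.of_isPullback_of_descendsAlong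
    (P := (@LocallyQuasiFinite ⊓ @LocallyOfFiniteType : MorphismProperty Scheme.{u})) (Q := Et18.FPQC.{u}) hP.flip (fpqc_pullback_algPt Y) ⟨h, inferInstance⟩).1

end Field

end Groth.Agent.AbVarLib
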