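import Mathlib.AlgebraicGeometry.Morphisms.SchemeTheoreticallyDominant
import Mathlib.AlgebraicGeometry.Morphisms.ClosedImmersion
import Mathlib.AlgebraicGeometry.Morphisms.Separated
import Mathlib.AlgebraicGeometry.Morphisms.Flat
import Mathlib.RingTheory.Localization.FractionRing
import Groth.Agent.LieSLib.Epi

/-!
# Morphisms into separated schemes are determined on a scheme theoretically dense subscheme
-/

universe u

open CategoryTheory Limits AlgebraicGeometry

namespace Groth.Agent.AbVarLib

theorem ext_of_isSchemeTheoreticallyDominant {W U G S : Scheme.{u}} (f : W ⟶ U) [IsSchemeTheoreticallyDominant f]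
    (p : U ⟶ S) (q : G ⟶ S) [IsSeparated q] (a b : U ⟶ G) (ha : a ≫ q = p) (hb : b ≫ q = p)
    (h : f ≫ a = f ≫ b) : a = b := by
  let ab : U ⟶ pullback q q := pullback.lift a b (ha.trans hb.symm)
  let i := pullback.fst ab (pullback.diagonal q)
  have : IsClosedImmersion i := MorphismProperty.pullback_fst (P := @IsClosedImmersion) _ _ inferInstance
  have hf : f ≫ ab = (f ≫ a) ≫ pullback.diagonal q := by
    apply pullback.hom_ext
    · rw [Category.assoc, Category.assoc, pullback.diagonal_fst, Category.comp_id, pullback.lift_fst]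
    · rw [Category.assoc, Category.assoc, pullback.diagonal_snd, Category.comp_id, pullback.lift_snd, h]
  let l : W ⟶ pullback ab (pullback.diagonal q) := pullback.lift f (f ≫ a) hf
  have hker : i.ker = ⊥ := by
    rw [eq_bot_iff, ← f.ker_eq_bot, show f = l ≫ i from (pullback.lift_fst _ _ _).symm]
    exact Scheme.Hom.le_ker_comp _ _
  have : IsIso i := IsClosedImmersion.isIso_iff_ker_eq_bot.2 hker
  have h1 := congrArg (fun k => k ≫ pullback.fst q q) (pullback.condition (f := ab) (g := pullback.diagonal q))
  have h2 := congrArg (fun k => k ≫ pullback.snd q q) (pullback.condition (f := ab) (g := pullback.diagonal q))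
  simp only [ab, Category.assoc, pullback.lift_fst, pullback.lift_snd, pullback.diagonal_fst, pullback.diagonal_snd,
    Category.comp_id] at h1 h2
  exact (cancel_epi i).1 (h1.trans h2.symm)

/-- On a flat scheme over a domain, morphisms to a separated scheme are determined by the generic fibre. -/
theorem eq_of_generic (R : Type u) [CommRing R] [IsDomain R] (K : Type u) [Field K] [Algebra R K] [IsFractionRing R K]
    {U G : Over (Spec (CommRingCat.of R))} [Flat U.hom] [IsSeparated G.hom] {a b : U ⟶ G}
    (h : (Over.pullback (Spec.map (CommRingCat.ofHom (algebraMap R K)))).map a =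
      (Over.pullback (Spec.map (CommRingCat.ofHom (algebraMap R K)))).map b) : a = b := by
  let g := Spec.map (CommRingCat.ofHom (algebraMap R K))
  have : IsSchemeTheoreticallyDominant g :=
    Groth.Agent.LieSLib.isSchemeTheoreticallyDominant_spec _ (IsFractionRing.injective R K)
  refine Over.OverMorphism.ext (ext_of_isSchemeTheoreticallyDominant (pullback.fst U.hom g) U.hom G.hom
    a.left b.left (Over.w a) (Over.w b) ?_)
  have e : ∀ c : U ⟶ G,
      ((Over.pullback g).map c).left ≫ pullback.fst G.hom g = pullback.fst U.hom g ≫ c.left := fun c =>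
    pullback.lift_fst _ _ _
  rw [← e, ← e]
  exact congrArg (fun k : (Over.pullback g).obj U ⟶ (Over.pullback g).obj G => k.left ≫ pullback.fst G.hom g) h

/-- Two rational points with the same image coincide. -/
theorem specMap_residue_ext {R : Type u} [CommRing R] [IsLocalRing R] {X : Scheme.{u}}
    (f : X ⟶ Spec (CommRingCat.of R)) (a b : Spec (CommRingCat.of (IsLocalRing.ResidueField R)) ⟶ X)
    (ha : a ≫ f = Spec.map (CommRingCat.ofHom (IsLocalRing.residue R)))
    (hb : b ≫ f = Spec.map (CommRingCat.ofHom (IsLocalRing.residue R)))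
    (h : a (IsLocalRing.closedPoint _) = b (IsLocalRing.closedPoint _)) : a = b := by
  obtain ⟨U, hU, hxU, -⟩ := exists_isAffineOpen_mem_and_subset (x := a (IsLocalRing.closedPoint _)) (U := ⊤) trivial
  have hr : ∀ t : Spec (CommRingCat.of (IsLocalRing.ResidueField R)) ⟶ X, t (IsLocalRing.closedPoint _) ∈ U →
      Set.range t ⊆ Set.range hU.fromSpec := fun t ht => by
    rintro _ ⟨y, rfl⟩
    rw [hU.range_fromSpec, Subsingleton.elim y (IsLocalRing.closedPoint _)]
    exact ht
  obtain ⟨α, hα⟩ := Spec.map_surjective (IsOpenImmersion.lift hU.fromSpec a (hr a hxU))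
  obtain ⟨β, hβ⟩ := Spec.map_surjective (IsOpenImmersion.lift hU.fromSpec b (hr b (h ▸ hxU)))
  obtain ⟨φ, hφ⟩ := Spec.map_surjective (hU.fromSpec ≫ f)
  have hc : φ ≫ α = CommRingCat.ofHom (IsLocalRing.residue R) := Spec.map_injective (by
    rw [Spec.map_comp, hα, hφ, ← Category.assoc, IsOpenImmersion.lift_fac, ha])
  have hc' : φ ≫ β = CommRingCat.ofHom (IsLocalRing.residue R) := Spec.map_injective (by
    rw [Spec.map_comp, hβ, hφ, ← Category.assoc, IsOpenImmersion.lift_fac, hb])
  have hpt : (Spec.map α) (IsLocalRing.closedPoint _) = (Spec.map β) (IsLocalRing.closedPoint _) := by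
    apply hU.fromSpec.isOpenEmbedding.injective
    rw [hα, hβ, ← Scheme.Hom.comp_apply, ← Scheme.Hom.comp_apply, IsOpenImmersion.lift_fac, IsOpenImmersion.lift_fac, h]
  have hker : RingHom.ker α.hom = RingHom.ker β.hom := by
    have := congrArg PrimeSpectrum.asIdeal hpt
    change (IsLocalRing.maximalIdeal _).comap α.hom = (IsLocalRing.maximalIdeal _).comap β.hom at this
    rwa [IsLocalRing.maximalIdeal_eq_bot] at this
  have : α = β := by
    refine CommRingCat.hom_ext (RingHom.ext fun z => ?_)
    obtain ⟨r, hr'⟩ := IsLocalRing.residue_surjective (α.hom z)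
    have e1 : α.hom (φ.hom r) = IsLocalRing.residue R r := congr($(congrArg CommRingCat.Hom.hom hc) r)
    have e2 : β.hom (φ.hom r) = IsLocalRing.residue R r := congr($(congrArg CommRingCat.Hom.hom hc') r)
    have hm : z - φ.hom r ∈ RingHom.ker α.hom := by
      rw [RingHom.mem_ker, map_sub, e1, hr', sub_self]
    rw [hker, RingHom.mem_ker, map_sub, sub_eq_zero, e2, hr'] at hm
    exact hm.symm
  rw [← IsOpenImmersion.lift_fac hU.fromSpec a (hr a hxU), ← IsOpenImmersion.lift_fac hU.fromSpec b (hr b (h ▸ hxU)),
    ← hα, ← hβ, this]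

end Groth.Agent.AbVarLib
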