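import Groth.Agent.LieSLib.Basic
import Groth.Agent.H8Lim.FinitePresentation
import Mathlib.RingTheory.Spectrum.Prime.RingHom
import Mathlib.AlgebraicGeometry.Morphisms.Etale
import Mathlib.AlgebraicGeometry.Morphisms.Smooth
import Mathlib.CategoryTheory.Monoidal.Cartesian.Over
import Mathlib.CategoryTheory.Monoidal.Cartesian.Grp
import Mathlib.RingTheory.Smooth.Basic

/-!
# Multiplication by an invertible integer on a smooth commutative group scheme is étale

The infinitesimal lifting criterion is checked directly: the kernel of `X(A) → X(A/I)` for a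
square-zero ideal `I` is uniquely divisible by every invertible integer.
-/

universe u

open CategoryTheory CategoryTheory.Limits AlgebraicGeometry MonoidalCategory CartesianMonoidalCategory MonObj GrpObj

namespace Groth.Agent.AbVarLib

open Groth.Agent.LieSLib

variable {S : Scheme.{u}} {B : Type u} [CommRing B] (f : Spec (CommRingCat.of B) ⟶ S)
  {M : Type u} [AddCommGroup M] [Module B M] [Module Bᵐᵒᵖ M] [IsCentralScalar B M]

/-- The zero section of `Spec (B ⊕ M)`. -/
noncomputable def zsec : LieS.pt B f ⟶ tpt f M :=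
  Over.homMk (Spec.map (CommRingCat.ofHom (TrivSqZeroExt.fstHom B B M).toRingHom)) (by
    change Spec.map _ ≫ Spec.map _ ≫ f = f
    rw [← Category.assoc, LieS.specMap_comp,
      show (TrivSqZeroExt.fstHom B B M).toRingHom.comp (algebraMap B (TrivSqZeroExt B M)) = RingHom.id B from
        RingHom.ext fun b => by simp [TrivSqZeroExt.algebraMap_eq_inl'],
      CommRingCat.ofHom_id]
    erw [Spec.map_id]; exact Category.id_comp f)

/-- The projection `Spec (B ⊕ M) ⟶ Spec B`. -/
noncomputable def tproj : tpt f M ⟶ LieS.pt B f :=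
  Over.homMk (Spec.map (CommRingCat.ofHom (algebraMap B (TrivSqZeroExt B M)))) rfl

theorem tmap_zero : tmap f (0 : M →ₗ[B] M) = tproj f ≫ zsec f := by
  refine Over.OverMorphism.ext ?_
  change Spec.map _ = Spec.map _ ≫ Spec.map _
  rw [LieS.specMap_comp]
  congr 2
  refine RingHom.ext fun x => TrivSqZeroExt.ext ?_ ?_ <;>
    simp [TrivSqZeroExt.algebraMap_eq_inl']

theorem tpt_prod_hom_ext {X : Over S} {g h : tpt f (M × M) ⟶ X}
    (e₁ : tmap f (LinearMap.fst B M M) ≫ g = tmap f (LinearMap.fst B M M) ≫ h)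
    (e₂ : tmap f (LinearMap.snd B M M) ≫ g = tmap f (LinearMap.snd B M M) ≫ h) : g = h := by
  refine Over.OverMorphism.ext (hom_eq_of_pair (TrivSqZeroExt.map (LinearMap.fst B M M)).toRingHom
    (TrivSqZeroExt.map (LinearMap.snd B M M)).toRingHom ?_ ?_ (congrArg CommaMorphism.left e₁)
    (congrArg CommaMorphism.left e₂))
  · intro x y hxy
    have h₁ := congrArg Prod.fst hxy
    have h₂ := congrArg Prod.snd hxy
    refine TrivSqZeroExt.ext ?_ (Prod.ext ?_ ?_)
    · simpa using congrArg TrivSqZeroExt.fst h₁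
    · simpa using congrArg TrivSqZeroExt.snd h₁
    · simpa using congrArg TrivSqZeroExt.snd h₂
  · intro p
    obtain ⟨q, rfl⟩ := comap_fstHom_surjective p
    refine ⟨PrimeSpectrum.comap (TrivSqZeroExt.fstHom B B M).toRingHom q, ?_⟩
    rw [← PrimeSpectrum.comap_comp_apply]
    congr 1
    exact RingHom.ext fun x => by simp

variable {X : Over S} [GrpObj X]

theorem tmap_add_comp {w : tpt f M ⟶ X} (hw : zsec f ≫ w = 1) (l m : M →ₗ[B] M) :
    tmap f (l + m) ≫ w = (tmap f l ≫ w) * (tmap f m ≫ w) := by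
  have h0 : tmap f (0 : M →ₗ[B] M) ≫ w = 1 := by
    rw [tmap_zero, Category.assoc, hw, MonObj.comp_one]
  let inl := LinearMap.inl B M M
  let inr := LinearMap.inr B M M
  have key : tmap f (inl + inr) ≫ w = (tmap f inl ≫ w) * (tmap f inr ≫ w) := by
    refine tpt_prod_hom_ext f ?_ ?_
    · rw [MonObj.comp_mul, ← Category.assoc, ← Category.assoc, ← Category.assoc, tmap_comp, tmap_comp, tmap_comp,
        show LinearMap.fst B M M ∘ₗ (inl + inr) = LinearMap.id from by ext; simp [inl, inr],
        show LinearMap.fst B M M ∘ₗ inl = LinearMap.id from by ext; simp [inl],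
        show LinearMap.fst B M M ∘ₗ inr = 0 from by ext; simp [inr], h0, _root_.mul_one]
    · rw [MonObj.comp_mul, ← Category.assoc, ← Category.assoc, ← Category.assoc, tmap_comp, tmap_comp, tmap_comp,
        show LinearMap.snd B M M ∘ₗ (inl + inr) = LinearMap.id from by ext; simp [inl, inr],
        show LinearMap.snd B M M ∘ₗ inl = 0 from by ext; simp [inl],
        show LinearMap.snd B M M ∘ₗ inr = LinearMap.id from by ext; simp [inr], h0, _root_.one_mul]
  have := congrArg (fun k => tmap f (l.coprod m) ≫ k) key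
  simp only [MonObj.comp_mul, ← Category.assoc, tmap_comp] at this
  rwa [show l.coprod m ∘ₗ (inl + inr) = l + m from by ext; simp [inl, inr],
    show l.coprod m ∘ₗ inl = l from by ext; simp [inl],
    show l.coprod m ∘ₗ inr = m from by ext; simp [inr]] at this

/-- Powers of a tangent vector are rescalings. -/
theorem zpow_eq_tmap_comp {w : tpt f M ⟶ X} (hw : zsec f ≫ w = 1) (n : ℤ) :
    w ^ n = tmap f (n • LinearMap.id : M →ₗ[B] M) ≫ w := by
  let φ : Multiplicative (M →ₗ[B] M) →* (tpt f M ⟶ X) :=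
    MonoidHom.mk' (fun l => tmap f l.toAdd ≫ w) fun l m => tmap_add_comp f hw l.toAdd m.toAdd
  have h := map_zpow φ (Multiplicative.ofAdd (LinearMap.id : M →ₗ[B] M)) n
  rw [← ofAdd_zsmul] at h
  simp only [φ, MonoidHom.mk'_apply, toAdd_ofAdd, tmap_id, Category.id_comp] at h
  exact h.symm

section SquareZero

variable {C : Type u} [CommRing C] (I : Ideal C) (hI : I ^ 2 = ⊥)

include hI in
theorem mul_eq_zero_of_mem {x y : C} (hx : x ∈ I) (hy : y ∈ I) : x * y = 0 := by
  rw [← Ideal.mem_bot, ← hI, pow_two]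
  exact Ideal.mul_mem_mul hx hy

/-- the ring map `(c, i) ↦ c + i` -/
noncomputable def addHom : TrivSqZeroExt C I →+* C where
  toFun x := x.fst + (x.snd : C)
  map_one' := by simp
  map_mul' x y := by
    have := mul_eq_zero_of_mem I hI x.snd.2 y.snd.2
    simp only [TrivSqZeroExt.fst_mul, TrivSqZeroExt.snd_mul, op_smul_eq_smul, Submodule.coe_add, SetLike.val_smul,
      smul_eq_mul]
    linear_combination -this
  map_zero' := by simp
  map_add' x y := by simp only [TrivSqZeroExt.fst_add, TrivSqZeroExt.snd_add, Submodule.coe_add]; ring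

variable {P : Type u} [CommRing P] (α β : P →+* C) (h : ∀ x, α x - β x ∈ I)

/-- the pair of two congruent ring maps -/
noncomputable def pairHom : P →+* TrivSqZeroExt C I where
  toFun x := (TrivSqZeroExt.inl (β x) + TrivSqZeroExt.inr ⟨α x - β x, h x⟩)
  map_one' := by ext <;> simp
  map_mul' x y := by
    refine TrivSqZeroExt.ext (by simp) (Subtype.ext ?_)
    have := mul_eq_zero_of_mem I hI (h x) (h y)
    simp only [TrivSqZeroExt.snd_add, TrivSqZeroExt.snd_inl, TrivSqZeroExt.snd_inr, zero_add, TrivSqZeroExt.snd_mul,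
      TrivSqZeroExt.fst_add, TrivSqZeroExt.fst_inl, TrivSqZeroExt.fst_inr, add_zero, op_smul_eq_smul,
      Submodule.coe_add, SetLike.val_smul, smul_eq_mul, map_mul]
    linear_combination this
  map_zero' := by ext <;> simp
  map_add' x y := by
    refine TrivSqZeroExt.ext (by simp) (Subtype.ext ?_)
    simp only [TrivSqZeroExt.snd_add, TrivSqZeroExt.snd_inl, TrivSqZeroExt.snd_inr, zero_add, Submodule.coe_add, map_add]
    ring

theorem fstHom_comp_pairHom : (TrivSqZeroExt.fstHom C C I).toRingHom.comp (pairHom I hI α β h) = β :=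
  RingHom.ext fun x => by simp [pairHom]

theorem addHom_comp_pairHom : (addHom I hI).comp (pairHom I hI α β h) = α :=
  RingHom.ext fun x => by simp [pairHom, addHom]

variable (g : Spec (CommRingCat.of C) ⟶ S)

/-- the second restriction -/
noncomputable def asec : LieS.pt C g ⟶ tpt g I :=
  Over.homMk (Spec.map (CommRingCat.ofHom (addHom I hI))) (by
    change Spec.map _ ≫ Spec.map _ ≫ g = g
    rw [← Category.assoc, LieS.specMap_comp,
      show (addHom I hI).comp (algebraMap C (TrivSqZeroExt C I)) = RingHom.id C from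
        RingHom.ext fun b => by simp [addHom, TrivSqZeroExt.algebraMap_eq_inl'],
      CommRingCat.ofHom_id]
    erw [Spec.map_id]; exact Category.id_comp g)

theorem asec_tproj : asec I hI g ≫ tproj g = 𝟙 _ := by
  refine Over.OverMorphism.ext ?_
  change Spec.map _ ≫ Spec.map _ = 𝟙 _
  rw [LieS.specMap_comp, show (addHom I hI).comp (algebraMap C (TrivSqZeroExt C I)) = RingHom.id C from
        RingHom.ext fun b => by simp [addHom, TrivSqZeroExt.algebraMap_eq_inl'], CommRingCat.ofHom_id]
  erw [Spec.map_id]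

theorem zsec_tproj : zsec g (M := I) ≫ tproj g = 𝟙 _ := by
  refine Over.OverMorphism.ext ?_
  change Spec.map _ ≫ Spec.map _ = 𝟙 _
  rw [LieS.specMap_comp, show (TrivSqZeroExt.fstHom C C I).toRingHom.comp (algebraMap C (TrivSqZeroExt C I)) =
      RingHom.id C from RingHom.ext fun b => by simp [TrivSqZeroExt.algebraMap_eq_inl'], CommRingCat.ofHom_id]
  erw [Spec.map_id]

variable {X : Over S} [GrpObj X]

include hI in
/-- Two infinitesimally close points in an affine chart differ by a tangent vector. -/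
theorem exists_tangent {V : X.left.Opens} (hV : IsAffineOpen V) (α β : Γ(X.left, V) →+* C)
    (h : ∀ x, α x - β x ∈ I) (a b : LieS.pt C g ⟶ X)
    (ha : a.left = Spec.map (CommRingCat.ofHom α) ≫ hV.fromSpec)
    (hb : b.left = Spec.map (CommRingCat.ofHom β) ≫ hV.fromSpec)
    (hover : Spec.map (CommRingCat.ofHom (pairHom I hI α β h)) ≫ hV.fromSpec ≫ X.hom =
      Spec.map (CommRingCat.ofHom (algebraMap C (TrivSqZeroExt C I))) ≫ g) :
    ∃ w : tpt g I ⟶ X, zsec g ≫ w = 1 ∧ asec I hI g ≫ w = a * b⁻¹ := by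
  let v : tpt g I ⟶ X := Over.homMk (Spec.map (CommRingCat.ofHom (pairHom I hI α β h)) ≫ hV.fromSpec)
    ((Category.assoc _ _ _).trans hover)
  have h1 : zsec g ≫ v = b := by
    refine Over.OverMorphism.ext ?_
    change Spec.map _ ≫ Spec.map _ ≫ _ = b.left
    rw [← Category.assoc, LieS.specMap_comp, fstHom_comp_pairHom, hb]
  have h2 : asec I hI g ≫ v = a := by
    refine Over.OverMorphism.ext ?_
    change Spec.map _ ≫ Spec.map _ ≫ _ = a.left
    rw [← Category.assoc, LieS.specMap_comp, addHom_comp_pairHom, ha]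
  refine ⟨v * (tproj g ≫ b)⁻¹, ?_, ?_⟩
  · rw [MonObj.comp_mul, GrpObj.comp_inv, ← Category.assoc, zsec_tproj, Category.id_comp, h1, _root_.mul_inv_cancel]
  · rw [MonObj.comp_mul, GrpObj.comp_inv, ← Category.assoc, asec_tproj, Category.id_comp, h2]

end SquareZero

section Main

variable {C : Type u} [CommRing C]

/-- the reduction map -/
noncomputable def redMap (I : Ideal C) (g : Spec (CommRingCat.of C) ⟶ S) :
    LieS.pt (C ⧸ I) (Spec.map (CommRingCat.ofHom (Ideal.Quotient.mk I)) ≫ g) ⟶ LieS.pt C g :=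
  Over.homMk (Spec.map (CommRingCat.ofHom (Ideal.Quotient.mk I))) rfl

theorem redMap_asec (I : Ideal C) (hI : I ^ 2 = ⊥) (g : Spec (CommRingCat.of C) ⟶ S) :
    redMap I g ≫ asec I hI g = redMap I g ≫ zsec g := by
  refine Over.OverMorphism.ext ?_
  change Spec.map _ ≫ Spec.map _ = Spec.map _ ≫ Spec.map _
  rw [LieS.specMap_comp, LieS.specMap_comp]
  congr 2
  refine RingHom.ext fun x => ?_
  simp [addHom, Ideal.Quotient.eq_zero_iff_mem.2 x.snd.2]

theorem range_subset_of_comp {Z : Scheme.{u}} (I : Ideal C) (hI : I ^ 2 = ⊥) (U : Z.Opens)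
    (z : Spec (CommRingCat.of C) ⟶ Z)
    (h : Set.range (Spec.map (CommRingCat.ofHom (Ideal.Quotient.mk I)) ≫ z) ⊆ U) : Set.range z ⊆ U := by
  rintro _ ⟨p, rfl⟩
  obtain ⟨q, hq⟩ : ∃ q, Spec.map (CommRingCat.ofHom (Ideal.Quotient.mk I)) q = p := by
    have hle : I ≤ p.asIdeal := fun x hx =>
      p.2.mem_of_pow_mem 2 (by rw [pow_two, mul_eq_zero_of_mem I hI hx hx]; exact zero_mem _)
    obtain ⟨q, hq⟩ : p ∈ Set.range (PrimeSpectrum.comap (Ideal.Quotient.mk I)) := by
      rw [range_comap_of_surjective _ _ Ideal.Quotient.mk_surjective, Ideal.mk_ker]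
      exact hle
    exact ⟨q, hq⟩
  rw [← hq, ← Scheme.Hom.comp_apply]
  exact h ⟨q, rfl⟩

theorem exists_factor {Z : Scheme.{u}} {U : Z.Opens} (hU : IsAffineOpen U) (z : Spec (CommRingCat.of C) ⟶ Z)
    (h : Set.range z ⊆ U) : ∃ ζ : Γ(Z, U) →+* C, z = Spec.map (CommRingCat.ofHom ζ) ≫ hU.fromSpec := by
  refine ⟨(Spec.preimage (IsOpenImmersion.lift hU.fromSpec z (by rwa [hU.range_fromSpec]))).hom, ?_⟩
  rw [CommRingCat.ofHom_hom, Spec.map_preimage, IsOpenImmersion.lift_fac]

theorem specMap_fromSpec_injective {Z : Scheme.{u}} {U : Z.Opens} (hU : IsAffineOpen U) {a b : Γ(Z, U) →+* C}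
    (h : Spec.map (CommRingCat.ofHom a) ≫ hU.fromSpec = Spec.map (CommRingCat.ofHom b) ≫ hU.fromSpec) : a = b :=
  congrArg CommRingCat.Hom.hom (Spec.map_injective ((cancel_mono hU.fromSpec).1 h))

variable (X : Over S) [GrpObj X] [IsCommMonObj X] [Smooth X.hom]

/-- `[n]` is étale on a smooth commutative group scheme if `n` is invertible on the base. -/
theorem etale_zpow (n : ℤ) (hn : IsUnit (n : Γ(S, ⊤))) : Etale (𝟙 X ^ n).left := by
  set N := (𝟙 X ^ n).left with hN
  have hNw : N ≫ X.hom = X.hom := Over.w _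
  have hlfp : LocallyOfFinitePresentation N := by
    have : LocallyOfFinitePresentation (N ≫ X.hom) := by rw [hNw]; infer_instance
    exact Groth.Agent.H8Lim.lfp_cancel_right N X.hom
  rw [HasRingHomProperty.iff_exists_appLE (P := @Etale)
    (RingHom.Etale.stableUnderComposition.stableUnderCompositionWithLocalizationAway
      fun R T _ _ _ r _ => RingHom.etale_algebraMap.2 (Algebra.Etale.of_isLocalizationAway r)).1]
  intro x
  obtain ⟨_, ⟨W, hW, rfl⟩, hxW, -⟩ :=
    S.isBasis_affineOpens.exists_subset_of_mem_open (Set.mem_univ (X.hom x)) isOpen_univ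
  have hxW' : N x ∈ X.hom ⁻¹ᵁ W := by
    show X.hom (N x) ∈ W
    rw [← Scheme.Hom.comp_apply, hNw]
    exact hxW
  obtain ⟨_, ⟨U, hU, rfl⟩, hxU, hUW⟩ := X.left.isBasis_affineOpens.exists_subset_of_mem_open hxW' (X.hom ⁻¹ᵁ W).2
  obtain ⟨_, ⟨V, hV, rfl⟩, hxV, hVU⟩ := X.left.isBasis_affineOpens.exists_subset_of_mem_open
    (show x ∈ N ⁻¹ᵁ U from hxU) (N ⁻¹ᵁ U).2
  refine ⟨⟨U, hU⟩, ⟨V, hV⟩, hxV, hVU, ?_⟩
  have hVW : V ≤ X.hom ⁻¹ᵁ W := fun y hy => by
    have := hUW (hVU hy)
    change X.hom (N y) ∈ W at this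
    rwa [← Scheme.Hom.comp_apply, hNw] at this
  set ν := (N.appLE U V hVU).hom with hν
  set ρA := (X.hom.appLE W U hUW).hom with hρA
  set ρB := (X.hom.appLE W V hVW).hom with hρB
  have hρ : ν.comp ρA = ρB := by
    rw [hν, hρA, hρB, ← CommRingCat.hom_comp, Scheme.Hom.appLE_comp_appLE]
    congr 2
  have hfp : ν.FinitePresentation := N.finitePresentation_appLE hU hV hVU
  have hsm : ρB.Smooth := X.hom.smooth_appLE hW hV hVW
  letI := ν.toAlgebra
  letI := ρA.toAlgebra
  letI := ρB.toAlgebra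
  haveI : IsScalarTower Γ(S, W) Γ(X.left, U) Γ(X.left, V) := IsScalarTower.of_algebraMap_eq' hρ.symm
  haveI : Algebra.Smooth Γ(S, W) Γ(X.left, V) := hsm
  haveI : Algebra.FinitePresentation Γ(X.left, U) Γ(X.left, V) := hfp
  suffices Algebra.FormallyEtale Γ(X.left, U) Γ(X.left, V) from
    show Algebra.Etale Γ(X.left, U) Γ(X.left, V) from ⟨this, inferInstance⟩
  rw [Algebra.FormallyEtale.iff_comp_bijective]
  intro C _ _ I hI
  let γ : Γ(S, W) →+* C := (algebraMap Γ(X.left, U) C).comp ρA
  letI : Algebra Γ(S, W) C := γ.toAlgebra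
  haveI : IsScalarTower Γ(S, W) Γ(X.left, U) C := IsScalarTower.of_algebraMap_eq' rfl
  let g : Spec (CommRingCat.of C) ⟶ S := Spec.map (CommRingCat.ofHom γ) ≫ hW.fromSpec
  have hoverV : ∀ {D : Type u} [CommRing D] (δ : Γ(X.left, V) →+* D),
      (Spec.map (CommRingCat.ofHom δ) ≫ hV.fromSpec) ≫ X.hom =
        Spec.map (CommRingCat.ofHom (δ.comp ρB)) ≫ hW.fromSpec := fun δ => by
    rw [Category.assoc, ← IsAffineOpen.SpecMap_appLE_fromSpec X.hom hW hV hVW, ← Category.assoc, ← Spec.map_comp]
    rfl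
  have hoverU : ∀ {D : Type u} [CommRing D] (δ : Γ(X.left, U) →+* D),
      (Spec.map (CommRingCat.ofHom δ) ≫ hU.fromSpec) ≫ X.hom =
        Spec.map (CommRingCat.ofHom (δ.comp ρA)) ≫ hW.fromSpec := fun δ => by
    rw [Category.assoc, ← IsAffineOpen.SpecMap_appLE_fromSpec X.hom hW hU hUW, ← Category.assoc, ← Spec.map_comp]
    rfl
  have hNfac : ∀ (δ : Γ(X.left, V) →+* C),
      (Spec.map (CommRingCat.ofHom δ) ≫ hV.fromSpec) ≫ N =
        Spec.map (CommRingCat.ofHom (δ.comp ν)) ≫ hU.fromSpec := fun δ => by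
    rw [Category.assoc, ← IsAffineOpen.SpecMap_appLE_fromSpec N hU hV hVU, ← Category.assoc, ← Spec.map_comp]
    rfl
  have hnpow : ∀ {T : Over S} (p : T ⟶ X), (p ^ n).left = p.left ≫ N := fun p => by
    rw [hN, ← Over.comp_left, GrpObj.comp_zpow, Category.comp_id]
  -- `n` is invertible in `C`
  obtain ⟨r, hr⟩ : ∃ r : C, (n : C) * r = 1 := by
    have := (hn.map (S.presheaf.map (homOfLE (le_top (a := W))).op).hom).map γ
    rw [map_intCast, map_intCast] at this
    exact ⟨_, this.mul_val_inv⟩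
  have hl0 : n • (r • LinearMap.id : I →ₗ[C] I) = LinearMap.id := by
    rw [← Int.cast_smul_eq_zsmul C, smul_smul, hr, one_smul]
  have hroot : ∀ (w : tpt g I ⟶ X), zsec g ≫ w = 1 →
      (tmap g (r • LinearMap.id : I →ₗ[C] I) ≫ w) ^ n = w := fun w hw => by
    rw [← GrpObj.comp_zpow, zpow_eq_tmap_comp g hw, ← Category.assoc, tmap_comp,
      show (r • LinearMap.id : I →ₗ[C] I) ∘ₗ (n • LinearMap.id) = n • (r • LinearMap.id : I →ₗ[C] I) from
        by rw [LinearMap.comp_smul, LinearMap.comp_id], hl0, tmap_id, Category.id_comp]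
  refine ⟨fun α β hαβ => ?_, fun β₀ => ?_⟩
  · -- uniqueness
    have hmem : ∀ x, α x - β x ∈ I := fun x => Ideal.Quotient.eq.1 (AlgHom.congr_fun hαβ x)
    have hcong : ∀ δ : Γ(X.left, V) →ₐ[Γ(X.left, U)] C, δ.toRingHom.comp ρB = γ := fun δ => by
      rw [← hρ, ← RingHom.comp_assoc]
      exact congrArg (fun k => RingHom.comp k ρA) δ.comp_algebraMap
    let a : LieS.pt C g ⟶ X := Over.homMk (Spec.map (CommRingCat.ofHom α.toRingHom) ≫ hV.fromSpec)
      ((hoverV _).trans (by rw [hcong]; rfl))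
    let b : LieS.pt C g ⟶ X := Over.homMk (Spec.map (CommRingCat.ofHom β.toRingHom) ≫ hV.fromSpec)
      ((hoverV _).trans (by rw [hcong]; rfl))
    have hab : a ^ n = b ^ n := by
      refine Over.OverMorphism.ext ?_
      rw [hnpow, hnpow]
      show (Spec.map _ ≫ _) ≫ N = (Spec.map _ ≫ _) ≫ N
      rw [hNfac, hNfac, show α.toRingHom.comp ν = β.toRingHom.comp ν from α.comp_algebraMap.trans β.comp_algebraMap.symm]
    obtain ⟨w, hw0, hw1⟩ := exists_tangent I hI g hV α.toRingHom β.toRingHom hmem a b rfl rfl (by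
      rw [← Category.assoc, hoverV, show Spec.map (CommRingCat.ofHom (algebraMap C (TrivSqZeroExt C I))) ≫ g =
        Spec.map (CommRingCat.ofHom ((algebraMap C (TrivSqZeroExt C I)).comp γ)) ≫ hW.fromSpec by
          exact (Category.assoc _ _ _).symm.trans
            (congrArg (fun k => k ≫ hW.fromSpec) (LieS.specMap_comp γ (algebraMap C (TrivSqZeroExt C I))))]
      congr 3
      refine RingHom.ext fun s => ?_
      have e1 := RingHom.congr_fun (hcong α) s
      have e2 := RingHom.congr_fun (hcong β) s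
      simp only [RingHom.comp_apply] at e1 e2
      refine TrivSqZeroExt.ext ?_ (Subtype.ext ?_) <;>
        simp [pairHom, TrivSqZeroExt.algebraMap_eq_inl', e1, e2] at *)
    have hwn : w ^ n = 1 := by
      refine Over.OverMorphism.ext (hom_eq_of_pair (TrivSqZeroExt.fstHom C C I).toRingHom (addHom I hI) ?_
        comap_fstHom_surjective (congrArg CommaMorphism.left (show zsec g ≫ w ^ n = zsec g ≫ 1 from ?_))
        (congrArg CommaMorphism.left (show asec I hI g ≫ w ^ n = asec I hI g ≫ 1 from ?_)))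
      · intro p q hpq
        have h1 : p.fst = q.fst := (congrArg (fun z : C × C => z.1) hpq :)
        have h2 : p.fst + (p.snd : C) = q.fst + (q.snd : C) := (congrArg (fun z : C × C => z.2) hpq :)
        exact TrivSqZeroExt.ext h1 (Subtype.ext (by rw [h1] at h2; exact add_left_cancel h2))
      · rw [GrpObj.comp_zpow, hw0, one_zpow, MonObj.comp_one]
      · rw [GrpObj.comp_zpow, hw1, mul_zpow, inv_zpow, hab, _root_.mul_inv_cancel, MonObj.comp_one]
    have hw : w = 1 := by
      have := hroot w hw0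
      rw [← GrpObj.comp_zpow, hwn, MonObj.comp_one] at this
      exact this.symm
    rw [hw, MonObj.comp_one, eq_comm, mul_inv_eq_one] at hw1
    exact AlgHom.coe_ringHom_injective (specMap_fromSpec_injective hV (congrArg CommaMorphism.left hw1))
  · -- existence
    let α₁ : Γ(X.left, V) →ₐ[Γ(S, W)] C :=
      Algebra.FormallySmooth.lift I ⟨2, hI⟩ (β₀.restrictScalars Γ(S, W))
    have hα₁ : ∀ x, Ideal.Quotient.mk I (α₁ x) = β₀ x := fun x => Algebra.FormallySmooth.mk_lift _ _ _ x
    let a : LieS.pt C g ⟶ X := Over.homMk (Spec.map (CommRingCat.ofHom α₁.toRingHom) ≫ hV.fromSpec)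
      ((hoverV _).trans (by rw [show α₁.toRingHom.comp ρB = γ from α₁.comp_algebraMap]; rfl))
    let y : LieS.pt C g ⟶ X := Over.homMk (Spec.map (CommRingCat.ofHom (algebraMap Γ(X.left, U) C)) ≫ hU.fromSpec)
      (hoverU _)
    set ζ := α₁.toRingHom.comp ν with hζ
    have hz : (a ^ n).left = Spec.map (CommRingCat.ofHom ζ) ≫ hU.fromSpec := (hnpow a).trans (hNfac _)
    have hmem : ∀ u, algebraMap Γ(X.left, U) C u - ζ u ∈ I := fun u => by
      rw [← Ideal.Quotient.eq, hζ, RingHom.comp_apply]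
      exact ((hα₁ (ν u)).trans (β₀.commutes u)).symm
    obtain ⟨w, hw0, hw1⟩ := exists_tangent I hI g hU (algebraMap Γ(X.left, U) C) ζ hmem y (a ^ n) rfl hz (by
      rw [← Category.assoc, hoverU, show Spec.map (CommRingCat.ofHom (algebraMap C (TrivSqZeroExt C I))) ≫ g =
        Spec.map (CommRingCat.ofHom ((algebraMap C (TrivSqZeroExt C I)).comp γ)) ≫ hW.fromSpec by
          exact (Category.assoc _ _ _).symm.trans
            (congrArg (fun k => k ≫ hW.fromSpec) (LieS.specMap_comp γ (algebraMap C (TrivSqZeroExt C I))))]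
      congr 3
      refine RingHom.ext fun s => ?_
      have e1 : ζ (ρA s) = γ s := by
        rw [hζ, RingHom.comp_apply, ← RingHom.comp_apply ν ρA, hρ]
        exact α₁.commutes s
      refine TrivSqZeroExt.ext ?_ (Subtype.ext ?_) <;>
        simp [pairHom, TrivSqZeroExt.algebraMap_eq_inl', e1, γ] at *)
    let c : LieS.pt C g ⟶ X := asec I hI g ≫ tmap g (r • LinearMap.id : I →ₗ[C] I) ≫ w
    have hc : (a * c) ^ n = y := by
      rw [mul_zpow, show c ^ n = asec I hI g ≫ w by
        rw [← GrpObj.comp_zpow, hroot w hw0], hw1, mul_left_comm, _root_.mul_inv_cancel, _root_.mul_one]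
    have hred : redMap I g ≫ (a * c) = redMap I g ≫ a := by
      rw [MonObj.comp_mul, show redMap I g ≫ c = 1 from ?_, _root_.mul_one]
      show redMap I g ≫ asec I hI g ≫ tmap g _ ≫ w = 1
      rw [← Category.assoc (redMap I g), redMap_asec, Category.assoc, ← Category.assoc (zsec g),
        show zsec g ≫ tmap g (r • LinearMap.id : I →ₗ[C] I) = zsec g from by
          refine Over.OverMorphism.ext ?_
          change Spec.map _ ≫ Spec.map _ = Spec.map _
          rw [LieS.specMap_comp]
          congr 2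
          exact RingHom.ext fun p => by simp,
        hw0, MonObj.comp_one]
    have hredl := congrArg CommaMorphism.left hred
    obtain ⟨α, hα⟩ := exists_factor hV (a * c).left (range_subset_of_comp I hI V _ (by
      change Set.range ((redMap I g).left ≫ (a * c).left) ⊆ _
      rw [show (redMap I g).left ≫ (a * c).left = (redMap I g).left ≫ a.left from hredl]
      rintro _ ⟨q, rfl⟩
      show (Spec.map _ ≫ hV.fromSpec) ((redMap I g).left q) ∈ V
      rw [Scheme.Hom.comp_apply]
      exact hV.range_fromSpec.le ⟨_, rfl⟩))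
    have hαν : α.comp ν = algebraMap Γ(X.left, U) C := by
      refine specMap_fromSpec_injective hU ?_
      rw [← hNfac, ← hα, ← hnpow, hc]
      rfl
    refine ⟨⟨α, fun u => RingHom.congr_fun hαν u⟩, AlgHom.ext fun x => ?_⟩
    have h1 : (Ideal.Quotient.mk I).comp α = (Ideal.Quotient.mk I).comp α₁.toRingHom := by
      refine specMap_fromSpec_injective hV ?_
      rw [← LieS.specMap_comp, ← LieS.specMap_comp, Category.assoc, Category.assoc, ← hα]
      exact hredl
    exact (RingHom.congr_fun h1 x).trans (hα₁ x)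

end Main

end Groth.Agent.AbVarLib
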