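import Mathlib.CategoryTheory.Monoidal.Cartesian.Over
import Mathlib.CategoryTheory.Monoidal.Cartesian.Grp
import Mathlib.AlgebraicGeometry.Morphisms.LocalFlatDescent
import Mathlib.AlgebraicGeometry.Morphisms.FlatDescent
import Mathlib.AlgebraicGeometry.Morphisms.Finite
import Mathlib.CategoryTheory.Limits.Constructions.Over.Connected
import Groth.Prelude.Def_AlgGrp

/-!
# `X ×_Y X ≅ X × ker f`
-/

universe u

open CategoryTheory CategoryTheory.Limits MonoidalCategory CartesianMonoidalCategory MonObj GrpObj

namespace Groth.Agent.AbVarLib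

section General

variable {C : Type*} [Category C] [CartesianMonoidalCategory C] {X Y N : C} [GrpObj X] [GrpObj Y]
  (f : X ⟶ Y) [IsMonHom f] (i : N ⟶ X)

theorem isPullback_kernel (hN : IsPullback i (toUnit N) f η[Y]) :
    IsPullback (fst X N) (fst X N * (snd X N ≫ i)) f f := by
  have h1 : η[Y] = (1 : 𝟙_ C ⟶ Y) := by
    rw [Hom.one_def, toUnit_unique (toUnit (𝟙_ C)) (𝟙 _), Category.id_comp]
  have hi : i ≫ f = 1 := by rw [hN.w, h1, MonObj.comp_one]
  refine IsPullback.of_isLimit' ⟨by rw [MonObj.mul_comp, Category.assoc, hi, MonObj.comp_one, _root_.mul_one]⟩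
    (PullbackCone.IsLimit.mk _ (fun s => CartesianMonoidalCategory.lift s.fst (hN.lift (s.fst⁻¹ * s.snd) (toUnit _) (by
      rw [MonObj.mul_comp, GrpObj.inv_comp, s.condition, inv_mul_cancel, h1, MonObj.comp_one]))) ?_ ?_ ?_)
  · intro s; exact lift_fst _ _
  · intro s
    rw [MonObj.comp_mul, lift_fst, ← Category.assoc, lift_snd, hN.lift_fst, mul_inv_cancel_left]
  · intro s m hm1 hm2
    apply CartesianMonoidalCategory.hom_ext
    · rw [lift_fst]; exact hm1
    · rw [lift_snd]
      apply hN.hom_ext
      · rw [hN.lift_fst, ← hm2, MonObj.comp_mul, hm1, Category.assoc, inv_mul_cancel_left]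
      · exact toUnit_unique _ _

end General

open AlgebraicGeometry

variable {S : Scheme.{u}} {X Y N : Over S} [GrpObj X] [GrpObj Y] (f : X ⟶ Y) [IsMonHom f] (i : N ⟶ X)

/-- A property stable under base change which holds for the kernel, descends to `f`. -/
theorem of_kernel (P : MorphismProperty Scheme.{u}) [P.IsStableUnderBaseChange]
    [P.DescendsAlong (@Surjective ⊓ @Flat ⊓ @QuasiCompact)] (hN : AlgGrp.IsKernel i f)
    [Surjective f.left] [Flat f.left] [QuasiCompact f.left] (h : P N.hom) : P f.left := by
  have h1 : P (fst X N).left := by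
    refine MorphismProperty.of_isPullback (IsPullback.of_hasPullback X.hom N.hom).flip h
  have h2 := (isPullback_kernel f i hN).map (Over.forget S)
  exact MorphismProperty.of_isPullback_of_descendsAlong (Q := @Surjective ⊓ @Flat ⊓ @QuasiCompact) h2
    ⟨⟨‹Surjective f.left›, ‹Flat f.left›⟩, ‹QuasiCompact f.left›⟩ h1

/-- A property stable under base change which holds for `f` holds for the kernel. -/
theorem kernel_of (P : MorphismProperty Scheme.{u}) [P.IsStableUnderBaseChange] (hN : AlgGrp.IsKernel i f)
    (h : P f.left) : P N.hom := by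
  have h1 : P (toUnit N).left := MorphismProperty.of_isPullback (hN.map (Over.forget S)) h
  have e : (toUnit N).left = N.hom := by
    have := Over.w (toUnit N)
    exact (Category.comp_id _).symm.trans this
  exact e ▸ h1

theorem isFinite_kernel (hN : AlgGrp.IsKernel i f) [IsFinite f.left] : IsFinite N.hom :=
  kernel_of f i @IsFinite hN inferInstance

end Groth.Agent.AbVarLib
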