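import Groth.Agent.AbVarLib.PowEtale
import Groth.Agent.AbSchLib.RigidityOver
import Groth.Agent.FlatMorWeight.Comp
import Mathlib.AlgebraicGeometry.Group.Smooth
import Mathlib.AlgebraicGeometry.Morphisms.SmoothFiber
import Mathlib.AlgebraicGeometry.ZariskisMainTheorem

/-!
# `[n]` on abelian schemes, `n` invertible
-/

universe u

open CategoryTheory CategoryTheory.Limits AlgebraicGeometry MonoidalCategory CartesianMonoidalCategory MonObj

namespace Groth.Agent.AbVarLib

variable {S : Scheme.{u}} (X : Over S) [GrpObj X]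

/-- finiteness and surjectivity of an étale endomorphism -/
theorem isFinite_and_surjective_of_etale [IsProper X.hom] [GeometricallyConnected X.hom] (f : X ⟶ X) [Etale f.left]
    (hf : η[X] ≫ f = η[X]) : IsFinite f.left ∧ Surjective f.left := by
  have : IsProper (f.left ≫ X.hom) := by rw [Over.w f]; infer_instance
  have hp : IsProper f.left := MorphismProperty.of_postcomp (W := @IsProper) (W' := @IsSeparated) f.left X.hom
    inferInstance this
  have := Groth.Agent.FlatMorWeight.locallyQuasiFinite_of_etale f.left
  refine ⟨IsFinite.of_isProper_of_locallyQuasiFinite f.left, ⟨fun y => ?_⟩⟩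
  have hopen : IsOpen (Set.range f.left) := f.left.isOpenMap.isOpen_range
  have hclosed : IsClosed (Set.range f.left) := f.left.isClosedMap.isClosed_range
  have he : X.hom ((η[X]).left (X.hom y)) = X.hom y := by
    rw [← Scheme.Hom.comp_apply, Over.w η[X]]; rfl
  exact (X.hom.isConnected_preimage_singleton (X.hom y)).isPreconnected.subset_isClopen ⟨hclosed, hopen⟩
    ⟨(η[X]).left (X.hom y), he, ⟨(η[X]).left (X.hom y), by
      rw [← Scheme.Hom.comp_apply, ← Over.comp_left, hf]⟩⟩ rfl

/-- A flat lfp group scheme with geometrically reduced fibres is smooth. -/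
theorem smooth_of_geometricallyReduced [Flat X.hom] [LocallyOfFinitePresentation X.hom] [GeometricallyReduced X.hom] :
    Smooth X.hom := by
  refine Smooth.of_smooth_fiberToSpecResidueField _ fun s => ?_
  let f := S.fromSpecResidueField s
  let G' : Over (Spec (CommRingCat.of (S.residueField s))) := (Over.pullback f).obj X
  letI : GrpObj G' := Functor.grpObjObj
  letI : GrpObj (Over.mk (Limits.pullback.snd X.hom f)) := (inferInstance : GrpObj G')
  exact smooth_of_grpObj (K := S.residueField s) (Limits.pullback.snd X.hom f)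

theorem one_comp_zpow (n : ℤ) : η[X] ≫ (𝟙 X ^ n) = η[X] := by
  have h1 : η[X] = (1 : 𝟙_ (Over S) ⟶ X) := by
    rw [Hom.one_def, toUnit_unique (toUnit (𝟙_ (Over S))) (𝟙 _), Category.id_comp]
  rw [GrpObj.comp_zpow, Category.comp_id, h1, one_zpow]

theorem mul_isFinite_etale_surjective [IsProper X.hom] [Flat X.hom] [LocallyOfFinitePresentation X.hom]
    [GeometricallyReduced X.hom] [GeometricallyConnected X.hom] (n : ℤ) (hn : IsUnit (n : Γ(S, ⊤))) :
    IsFinite (𝟙 X ^ n).left ∧ Etale (𝟙 X ^ n).left ∧ Surjective (𝟙 X ^ n).left := by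
  have := Groth.Agent.AbSchLib.isCommMonObj_of_proper X
  have := smooth_of_geometricallyReduced X
  have := etale_zpow X n hn
  obtain ⟨h1, h2⟩ := isFinite_and_surjective_of_etale X (𝟙 X ^ n) (one_comp_zpow X n)
  exact ⟨h1, inferInstance, h2⟩

end Groth.Agent.AbVarLib
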