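import Groth.Agent.CAlgH.GRingRegular
import Groth.Agent.CAlgH.RegularSmooth
import Groth.Agent.CAlgH.RegularLocalField
import Mathlib.AlgebraicGeometry.Geometrically.Reduced
import Mathlib.AlgebraicGeometry.Pullbacks

/-!
# Reduced schemes over perfect fields are geometrically reduced
-/

universe u

open CategoryTheory Limits AlgebraicGeometry TensorProduct

namespace Groth.Agent.AbVarLib

theorem isReduced_field_tensor_field (k K L : Type u) [Field k] [PerfectField k] [Field K] [Algebra k K] [Field L]
    [Algebra k L] [Algebra.EssFiniteType k L] : IsReduced (K ⊗[k] L) := by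
  have hL : CAlg.IsGeometricallyRegular k L := CAlgH.isGeometricallyRegular_of_perfectField k L
  haveI : IsNoetherianRing (K ⊗[k] L) := Algebra.EssFiniteType.isNoetherianRing K _
  haveI := CAlgH.isRegularRing_geomRegular_of_isNoetherian k K L hL
  exact CAlgH.isReduced_of_isRegularRing _

theorem isReduced_field_tensor_of_finiteType (k K A : Type u) [Field k] [PerfectField k] [Field K] [Algebra k K]
    [CommRing A] [IsReduced A] [Algebra k A] [Algebra.FiniteType k A] : IsReduced (K ⊗[k] A) := by
  haveI : IsNoetherianRing A := Algebra.FiniteType.isNoetherianRing k A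
  haveI : Fintype (minimalPrimes A) := (minimalPrimes.finite_of_isNoetherianRing A).fintype
  haveI (p : minimalPrimes A) : p.1.IsPrime := p.2.1.1
  haveI (p : minimalPrimes A) : IsReduced (K ⊗[k] p.1.ResidueField) :=
    haveI : Algebra.EssFiniteType k p.1.ResidueField := Algebra.EssFiniteType.comp k A p.1.ResidueField
    isReduced_field_tensor_field k K p.1.ResidueField
  let φ : A →ₐ[k] ∀ p : minimalPrimes A, p.1.ResidueField :=
    AlgHom.pi fun p => IsScalarTower.toAlgHom k A p.1.ResidueField
  have hφ : Function.Injective φ := by
    rw [injective_iff_map_eq_zero]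
    intro a ha
    have hmem : a ∈ sInf (minimalPrimes A) := Submodule.mem_sInf.2 fun p hp => by
      haveI : Ideal.IsPrime p := hp.1.1
      exact Ideal.algebraMap_residueField_eq_zero.1 (congrFun ha ⟨p, hp⟩)
    rwa [show sInf (minimalPrimes A) = (⊥ : Ideal A).radical from Ideal.sInf_minimalPrimes, Ideal.radical_eq_iff.2
      (by rwa [Ideal.isRadical_bot_iff]), Submodule.mem_bot] at hmem
  classical
  exact isReduced_of_injective
    ((Algebra.TensorProduct.piRight k k K fun p : minimalPrimes A => p.1.ResidueField).toAlgHom.comp
      (Algebra.TensorProduct.map (AlgHom.id k K) φ))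
    ((Algebra.TensorProduct.piRight k k K fun p : minimalPrimes A => p.1.ResidueField).injective.comp
      (Module.Flat.lTensor_preserves_injective_linearMap φ.toLinearMap hφ))

/-- A reduced algebra over a perfect field stays reduced after any field extension. -/
theorem isReduced_field_tensor_perfect (k K A : Type u) [Field k] [PerfectField k] [Field K] [Algebra k K]
    [CommRing A] [IsReduced A] [Algebra k A] : IsReduced (K ⊗[k] A) :=
  IsReduced.tensorProduct_of_flat_of_forall_fg fun B hB => by
    haveI : Algebra.FiniteType k B := B.fg_iff_finiteType.mp hB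
    haveI : IsReduced B := isReduced_of_injective B.val Subtype.val_injective
    exact isReduced_field_tensor_of_finiteType k K B

set_option backward.isDefEq.respectTransparency false in
theorem aux {k : Type u} [Field k] [PerfectField k] (K : Type u) [Field K] [Algebra k K] {R : CommRingCat.{u}}
    (g : Spec R ⟶ Spec (CommRingCat.of k)) (hred : IsReduced (Spec R)) :
    IsReduced (pullback g (Spec.map (CommRingCat.ofHom (algebraMap k K)))) := by
  obtain ⟨φ, rfl⟩ := Spec.map_surjective g
  algebraize [φ.hom]
  haveI : _root_.IsReduced R :=
    isReduced_of_injective (Scheme.ΓSpecIso R).inv.hom (Scheme.ΓSpecIso R).commRingCatIsoToRingEquiv.symm.injective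
  haveI := isReduced_field_tensor_perfect k K R
  haveI : _root_.IsReduced (R ⊗[k] K) :=
    isReduced_of_injective (Algebra.TensorProduct.comm k R K) (Algebra.TensorProduct.comm k R K).injective
  haveI : IsReduced (Spec (CommRingCat.of (R ⊗[k] K))) := inferInstance
  exact isReduced_of_isOpenImmersion (pullbackSpecIso k R K).hom

set_option backward.isDefEq.respectTransparency false in
/-- A reduced scheme over a perfect field is geometrically reduced. -/
theorem geometricallyReduced_of_perfectField {k : Type u} [Field k] [PerfectField k] {X : Scheme.{u}}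
    (f : X ⟶ Spec (CommRingCat.of k)) [IsReduced X] : GeometricallyReduced f := by
  rw [geometricallyReduced_iff, geometrically_iff_of_commRing_of_isClosedUnderIsomorphisms]
  intro K _ _
  refine @IsReduced.of_openCover _
    (Scheme.Pullback.openCoverOfLeft X.affineCover f (Spec.map (CommRingCat.ofHom (algebraMap k K)))) fun i => ?_
  show IsReduced (pullback (X.affineCover.f i ≫ f) _)
  have hred : IsReduced (X.affineCover.X i) := isReduced_of_isOpenImmersion (X.affineCover.f i)
  exact aux K (X.affineCover.f i ≫ f) hred

end Groth.Agent.AbVarLib
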