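import Groth.Agent.VarietyLib.SmoothStalk
import Groth.Agent.Props12.Components
import Groth.Agent.WeilLib.Geom
import Mathlib.AlgebraicGeometry.Geometrically.Integral
import Mathlib.AlgebraicGeometry.Geometrically.Connected

/-!
# Smooth geometrically connected ⇒ geometrically integral
-/

universe u

open CategoryTheory CategoryTheory.Limits AlgebraicGeometry TopologicalSpace

namespace Groth.Agent.AbVarLib

/-- A connected smooth qc scheme over a field is integral. -/
theorem isIntegral_of_smooth_connected {k : Type u} [Field k] {X : Scheme.{u}} (f : X ⟶ Spec (CommRingCat.of k))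
    [Smooth f] [QuasiCompact f] [ConnectedSpace X] : IsIntegral X := by
  have := Groth.Agent.WeilLib.isReduced_of_smooth f
  have hd : ∀ x : X, IsDomain (X.presheaf.stalk x) := fun x =>
    have := Groth.Agent.VarietyLib.isRegularLocalRing_stalk_of_smooth k X f x
    CAlgH3.isDomain_of_isRegularLocalRing _
  have : IsLocallyNoetherian X := LocallyOfFiniteType.isLocallyNoetherian f
  have : CompactSpace X := QuasiCompact.compactSpace_of_compactSpace f
  have : IsNoetherian X := {}
  obtain ⟨x⟩ := (inferInstance : Nonempty X)
  have ho : IsOpen (irreducibleComponent x) :=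
    Props12.isOpen_component hd (fun y => ⟨⊤, trivial, (NoetherianSpace.finite_irreducibleComponents).subset fun C hC => hC.1⟩)
      (irreducibleComponent_mem_irreducibleComponents x)
  have hc : IsClopen (irreducibleComponent x) := ⟨isClosed_irreducibleComponent, ho⟩
  rcases isClopen_iff.1 hc with h | h
  · exact absurd (mem_irreducibleComponent (x := x)) (h ▸ Set.notMem_empty x)
  have : IrreducibleSpace X := by
    rw [irreducibleSpace_def, Set.top_eq_univ, ← h]
    exact isIrreducible_irreducibleComponent
  exact isIntegral_of_irreducibleSpace_of_isReduced X

theorem geometricallyIntegral_of_smooth {X S : Scheme.{u}} (f : X ⟶ S) [Smooth f] [QuasiCompact f]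
    [GeometricallyConnected f] : GeometricallyIntegral f := by
  refine ⟨fun K _ y Z fst snd hP => ?_⟩
  have : Smooth snd := MorphismProperty.of_isPullback hP inferInstance
  have : QuasiCompact snd := MorphismProperty.of_isPullback hP inferInstance
  have : ConnectedSpace Z := GeometricallyConnected.geometrically_connectedSpace (f := f) _ _ _ hP
  exact isIntegral_of_smooth_connected snd

end Groth.Agent.AbVarLib
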