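import Groth.Agent.AbVarLib.HomFlat
import Mathlib.AlgebraicGeometry.Morphisms.QuasiFinite

/-!
# Dimensions and homomorphisms of proper group varieties
-/

universe u

open CategoryTheory CategoryTheory.Limits AlgebraicGeometry MonObj

namespace Groth.Agent.AbVarLib

open Groth.Agent.DimLib

section General

variable {k : Type u} [Field k] {X Y : Scheme.{u}} (p : Y ⟶ Spec (CommRingCat.of k)) (f : X ⟶ Y)
  [LocallyOfFiniteType p] [LocallyOfFiniteType (f ≫ p)]

theorem ptDim_eq_of_lqf [LocallyQuasiFinite f] (x : X) : ptDim (f ≫ p) x = ptDim p (f x) := by
  have : LocallyOfFiniteType f := locallyOfFiniteType_of_comp f p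
  have : LocallyOfFiniteType (f.fiberToSpecResidueField (f x)) :=
    inferInstanceAs (LocallyOfFiniteType (Limits.pullback.snd f (Y.fromSpecResidueField (f x))))
  have : DiscreteTopology ↥(f.fiber (f x)) := by
    have h := (f.isDiscrete_preimage_singleton (f x))
    exact (f.fiberHomeo (f x)).symm.discreteTopology_iff.1 h.to_subtype
  have h0 := (ptDim_eq_zero_iff (k := Y.residueField (f x)) (f.fiberToSpecResidueField (f x)) (f.asFiber x)).2 (isClosed_discrete _)
  rw [ptDim_eq_add_of_mem_fiber p f x, h0, add_zero]

variable [IrreducibleSpace X] [IrreducibleSpace Y]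

include p

theorem finite_fibre_genericPoint [Surjective f] (h : topologicalKrullDim X = topologicalKrullDim Y) :
    (f ⁻¹' {genericPoint Y}).Finite := by
  refine (Set.finite_singleton (genericPoint X)).subset fun x hx => ?_
  by_contra hne
  have h1 := ptDim_lt_of_specializes (f ≫ p) (genericPoint_specializes x) (Ne.symm hne)
  have h2 := ptDim_apply_le p f x
  rw [Set.mem_preimage, Set.mem_singleton_iff] at hx
  rw [hx] at h2
  rw [topologicalKrullDim_eq_ptDim_genericPoint (f ≫ p), topologicalKrullDim_eq_ptDim_genericPoint p] at h
  have h3 : ptDim (f ≫ p) (genericPoint X) = ptDim p (genericPoint Y) := by exact_mod_cast h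
  omega

theorem topologicalKrullDim_eq_of_lqf [LocallyQuasiFinite f] [Surjective f] :
    topologicalKrullDim X = topologicalKrullDim Y := by
  rw [topologicalKrullDim_eq_ptDim_genericPoint (f ≫ p), topologicalKrullDim_eq_ptDim_genericPoint p,
    ptDim_eq_of_lqf p f, map_genericPoint_of_surjective f]

theorem surjective_of_lqf [LocallyQuasiFinite f] [IsProper f]
    (h : topologicalKrullDim X = topologicalKrullDim Y) : Surjective f := by
  rw [topologicalKrullDim_eq_ptDim_genericPoint (f ≫ p), topologicalKrullDim_eq_ptDim_genericPoint p,
    ptDim_eq_of_lqf p f] at h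
  have h' : ptDim p (f (genericPoint X)) = ptDim p (genericPoint Y) := by exact_mod_cast h
  have he : genericPoint Y = f (genericPoint X) := by
    by_contra hne
    have := ptDim_lt_of_specializes p (genericPoint_specializes (f (genericPoint X))) hne
    omega
  have hcl : IsClosed (Set.range f) := f.isClosedMap.isClosed_range
  refine ⟨fun y => ?_⟩
  exact (genericPoint_specializes y).mem_closed hcl ⟨_, he.symm⟩

end General

section Grp

variable {k : Type u} [Field k] {X Y : Over (Spec (CommRingCat.of k))}
  [GrpObj X] [GrpObj Y] [GeometricallyIntegral X.hom] [GeometricallyIntegral Y.hom]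
  [IsProper X.hom] [IsProper Y.hom] (f : X ⟶ Y)

omit [GrpObj X] [GrpObj Y] [GeometricallyIntegral X.hom] [GeometricallyIntegral Y.hom] in
theorem isProper_left : IsProper f.left := by
  have : IsProper (f.left ≫ Y.hom) := by rw [Over.w f]; infer_instance
  exact MorphismProperty.of_postcomp (W := @IsProper) (W' := @IsSeparated) f.left Y.hom inferInstance this

omit [GrpObj X] [GrpObj Y] in
theorem lft_comp : LocallyOfFiniteType (f.left ≫ Y.hom) := by rw [Over.w f]; infer_instance

variable [IsMonHom f]

theorem surjective_of_flat [Flat f.left] : Surjective f.left := by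
  have := isProper_left f
  have := lft_comp f
  have : IsIntegral X.left := GeometricallyIntegral.isIntegral_of_subsingleton X.hom
  have : IsIntegral Y.left := GeometricallyIntegral.isIntegral_of_subsingleton Y.hom
  have : LocallyOfFinitePresentation f.left := by
    have : LocallyOfFinitePresentation (f.left ≫ Y.hom) := by rw [Over.w f]; infer_instance
    exact Groth.Agent.H8Lim.lfp_cancel_right f.left Y.hom
  have hopen : IsOpen (Set.range f.left) := f.left.isOpenMap.isOpen_range
  have hclosed : IsClosed (Set.range f.left) := f.left.isClosedMap.isClosed_range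
  refine ⟨fun y => ?_⟩
  rcases isClopen_iff.1 ⟨hclosed, hopen⟩ with h | h
  · exact absurd h (Set.range_nonempty _).ne_empty
  · show y ∈ Set.range f.left
    rw [h]; trivial

theorem isFinite_and_flat_of_surjective [Surjective f.left]
    (h : topologicalKrullDim X.left = topologicalKrullDim Y.left) : IsFinite f.left ∧ Flat f.left := by
  have := isProper_left f
  have := lft_comp f
  have : IsIntegral X.left := GeometricallyIntegral.isIntegral_of_subsingleton X.hom
  have : IsIntegral Y.left := GeometricallyIntegral.isIntegral_of_subsingleton Y.hom
  have hq : LocallyQuasiFinite f.left :=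
    locallyQuasiFinite_of_finite_preimage f (genericPoint Y.left) (f.left.surjective _)
      (finite_fibre_genericPoint Y.hom f.left h)
  exact ⟨IsFinite.of_isProper_of_locallyQuasiFinite f.left, flat_of_surjective f⟩

theorem surjective_and_flat_of_isFinite [IsFinite f.left]
    (h : topologicalKrullDim X.left = topologicalKrullDim Y.left) : Surjective f.left ∧ Flat f.left := by
  have := isProper_left f
  have := lft_comp f
  have : IsIntegral X.left := GeometricallyIntegral.isIntegral_of_subsingleton X.hom
  have : IsIntegral Y.left := GeometricallyIntegral.isIntegral_of_subsingleton Y.hom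
  have := surjective_of_lqf Y.hom f.left h
  exact ⟨this, flat_of_surjective f⟩

theorem dim_eq_of_isFinite [IsFinite f.left] [Surjective f.left] :
    topologicalKrullDim X.left = topologicalKrullDim Y.left := by
  have := lft_comp f
  have : IsIntegral X.left := GeometricallyIntegral.isIntegral_of_subsingleton X.hom
  have : IsIntegral Y.left := GeometricallyIntegral.isIntegral_of_subsingleton Y.hom
  exact topologicalKrullDim_eq_of_lqf Y.hom f.left

end Grp

end Groth.Agent.AbVarLib
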