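import Groth.Agent.VarietyLib.GeomField
import Mathlib.AlgebraicGeometry.Geometrically.Integral
import Mathlib.AlgebraicGeometry.Morphisms.Flat

/-!
# Over an algebraically closed field, integral implies geometrically integral
-/

universe u

open CategoryTheory CategoryTheory.Limits AlgebraicGeometry
open scoped TensorProduct

namespace Groth.Agent.AbVarLib

variable {k : Type u} [Field k] [IsAlgClosed k]

instance : ObjectProperty.IsClosedUnderIsomorphisms AlgebraicGeometry.IsIntegral.{u} :=
  ⟨fun e h => IsIntegral.of_isIso (h := h) e.hom⟩

theorem geometricallyIntegral_algSpec (K : Type u) [Field K] [Algebra k K] :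
    GeometricallyIntegral (Spec.map (CommRingCat.ofHom (algebraMap k K))) := by
  refine ⟨geometrically_iff_of_commRing_of_isClosedUnderIsomorphisms.2 fun L _ _ => ?_⟩
  have := Groth.Agent.VarietyLib.isDomain_tensor_of_isAlgClosed k K L
  exact IsIntegral.of_isIso (pullbackSpecIso k K L).inv

theorem geometricallyIntegral_of_isAlgClosed {X : Scheme.{u}} (f : X ⟶ Spec (CommRingCat.of k))
    [IsIntegral X] [LocallyOfFiniteType f] : GeometricallyIntegral f := by
  refine ⟨geometrically_iff_of_commRing_of_isClosedUnderIsomorphisms.2 fun L _ _ => ?_⟩
  have := geometricallyIntegral_algSpec (k := k) L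
  have : IsLocallyNoetherian X := LocallyOfFiniteType.isLocallyNoetherian f
  infer_instance

end Groth.Agent.AbVarLib
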