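import Groth.Agent.AbVarLib.AffineConstant
import Groth.Agent.CurveLib.ProjLine
import Groth.Agent.FlatMor12.GeomDescent
import Groth.Agent.AbSchLib.RigidityGeneral

/-!
# Morphisms from families of projective spaces to abelian schemes
-/

set_option autoImplicit false
set_option backward.isDefEq.respectTransparency.types false

universe u

open CategoryTheory CategoryTheory.Limits MonoidalCategory CartesianMonoidalCategory AlgebraicGeometry MonObj
  TopologicalSpace MvPolynomial HomogeneousLocalization

namespace Groth.Agent.AbVarLib.ProjSpaceConstant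

variable (k : Type u) [Field k] (n : ℕ)

/-- `k[X₀, …, Xₙ]/(X₀ - 1) ≅ k[t₁, …, tₙ]`. -/
noncomputable def dehomEquiv :
    (MvPolynomial (Fin (n + 1)) k ⧸ Ideal.span {(X 0 : MvPolynomial (Fin (n + 1)) k) - 1}) ≃ₐ[k]
      MvPolynomial (Fin n) k :=
  AlgEquiv.ofAlgHom
    (Ideal.Quotient.liftₐ _ (aeval (Fin.cases (1 : MvPolynomial (Fin n) k) X)) (by
      intro a ha
      obtain ⟨c, rfl⟩ := Ideal.mem_span_singleton.mp ha
      simp))
    (aeval fun j => Ideal.Quotient.mk _ (X j.succ))
    (by
      refine MvPolynomial.algHom_ext fun j => ?_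
      simp)
    (by
      refine Ideal.Quotient.algHom_ext _ (MvPolynomial.algHom_ext fun j => ?_)
      refine Fin.cases ?_ (fun i => ?_) j
      · simp only [AlgHom.comp_apply, AlgHom.id_apply, Ideal.Quotient.mkₐ_eq_mk, Ideal.Quotient.liftₐ_apply,
          Ideal.Quotient.lift_mk, aeval_X, RingHom.coe_coe, Fin.cases_zero, map_one]
        exact (Ideal.Quotient.eq.mpr (Ideal.mem_span_singleton_self _)).symm.trans rfl
      · simp)

/-- The chart `k[X₀, …, Xₙ]_(X₀) ≅ k[t₁, …, tₙ]`. -/
noncomputable def chartEquiv :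
    Away (CohB1.polyGrading n k) (X 0 : MvPolynomial (Fin (n + 1)) k) ≃+* MvPolynomial (Fin n) k :=
  (ProjLib.awayEquivQuotient (ProjLib.X_mem_polyGrading n k 0)).trans (dehomEquiv k n).toRingEquiv

theorem chartEquiv_toAway (r : k) : chartEquiv k n (ProjLib.toAway n k (X 0) r) = C r := by
  show dehomEquiv k n (ProjLib.evalOne (algebraMap _ _ (ProjLib.toAway n k (X 0) r))) = _
  rw [HomogeneousLocalization.algebraMap_apply, ProjLib.val_toAway]
  have : ProjLib.evalOne (f := (X 0 : MvPolynomial (Fin (n + 1)) k)) (algebraMap _ (Localization.Away (X 0 : MvPolynomial (Fin (n + 1)) k)) (C r)) =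
      Ideal.Quotient.mk _ (C r) := IsLocalization.Away.lift_eq _ _ _
  rw [this]
  exact (dehomEquiv k n).commutes r

/-- The chart of projective space. -/
noncomputable def chart : Spec (CommRingCat.of (MvPolynomial (Fin n) k)) ⟶ CohB1.ProjSpace n k :=
  Spec.map (CommRingCat.ofHom (chartEquiv k n).toRingHom) ≫
    Proj.awayι (CohB1.polyGrading n k) (X 0) (ProjLib.X_mem_polyGrading n k 0) one_pos

theorem chart_toSpec : chart k n ≫ CohB1.ProjSpace.toSpec n k =
    Spec.map (CommRingCat.ofHom (algebraMap k (MvPolynomial (Fin n) k))) := by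
  refine (Category.assoc _ _ _).trans ?_
  refine (congrArg (_ ≫ ·) (ProjLib.awayι_toSpec n k (ProjLib.X_mem_polyGrading n k 0) one_pos)).trans ?_
  rw [← Spec.map_comp]
  congr 1
  exact CommRingCat.hom_ext (RingHom.ext fun r => chartEquiv_toAway k n r)

instance : IsOpenImmersion (chart k n) := by
  have : IsIso (CommRingCat.ofHom (chartEquiv k n).toRingHom) :=
    (ConcreteCategory.isIso_iff_bijective _).mpr (chartEquiv k n).bijective
  exact @IsOpenImmersion.comp _ _ _ (Spec.map (CommRingCat.ofHom (chartEquiv k n).toRingHom))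
    (Proj.awayι (CohB1.polyGrading n k) (X 0) (ProjLib.X_mem_polyGrading n k 0) one_pos) inferInstance inferInstance

variable {k} in
/-- A morphism from projective space to an abelian variety is constant. -/
theorem apply_eq {A : Over (Spec (CommRingCat.of k))} [GrpObj A] [IsProper A.hom]
    (f : CohB1.ProjSpace n k ⟶ A.left) (hf : f ≫ A.hom = CohB1.ProjSpace.toSpec n k) (x y : ↥(CohB1.ProjSpace n k)) :
    f x = f y := by
  haveI : IsIntegral (CohB1.ProjSpace n k) := CurveLib.isIntegral_projSpace k n
  let g : AffineConstant.sp (k := k) (MvPolynomial (Fin n) k) ⟶ A := Over.homMk (chart k n ≫ f)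
    (by rw [Category.assoc, hf]; exact chart_toSpec k n)
  have hg := congrArg CommaMorphism.left (AffineConstant.eq_const (A := A) (Fin n) g)
  have hconst : chart k n ≫ f = chart k n ≫ CohB1.ProjSpace.toSpec n k ≫ (AffineConstant.origin (Fin n) ≫ g).left := by
    refine hg.trans ((AffineConstant.toUnit_sp _ _).trans ?_)
    rw [← chart_toSpec, Category.assoc]
  haveI : Nonempty ↥(Spec (CommRingCat.of (MvPolynomial (Fin n) k))) :=
    inferInstanceAs (Nonempty (PrimeSpectrum (MvPolynomial (Fin n) k)))
  haveI : IsDominant (chart k n) := ⟨(chart k n).isOpenEmbedding.isOpen_range.dense (Set.range_nonempty _)⟩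
  have h := ext_of_isDominant_of_isSeparated A.hom (by
    rw [hf, Category.assoc, Over.w (AffineConstant.origin (Fin n) ≫ g)]
    exact (Category.comp_id _).symm) (chart k n) hconst
  rw [h, Scheme.Hom.comp_apply, Scheme.Hom.comp_apply]
  exact congrArg _ (Subsingleton.elim _ _)

variable {S : Scheme.{u}} {P : Over S}

/-- Geometric fibres which are projective spaces give geometrically connected and reduced fibres. -/
theorem geometricallyConnected_and_reduced (hP : ∀ (K : Type u) [Field K] [IsAlgClosed K] (s : Spec (CommRingCat.of K) ⟶ S),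
      ∃ (n : ℕ) (e : pullback P.hom s ≅ CohB1.ProjSpace n K), e.hom ≫ CohB1.ProjSpace.toSpec n K = pullback.snd P.hom s) :
    GeometricallyConnected P.hom ∧ GeometricallyReduced P.hom := by
  have key : ∀ (L : Type u) [Field L] (t : Spec (CommRingCat.of L) ⟶ S) (Y : Scheme.{u}) (a : Y ⟶ P.left)
      (b : Y ⟶ Spec (CommRingCat.of L)), IsPullback a b P.hom t → ConnectedSpace Y ∧ AlgebraicGeometry.IsReduced Y := by
    intro L _ t Y a b H
    let j : Spec (CommRingCat.of (AlgebraicClosure L)) ⟶ Spec (CommRingCat.of L) :=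
      Spec.map (CommRingCat.ofHom (algebraMap L (AlgebraicClosure L)))
    haveI : Flat j := (Flat.SpecMap_iff).2 ((RingHom.flat_algebraMap_iff (R := L) (S := AlgebraicClosure L)).2 inferInstance)
    haveI : Surjective j := ⟨fun _ => ⟨IsLocalRing.closedPoint _, Subsingleton.elim _ _⟩⟩
    obtain ⟨n, e, -⟩ := hP (AlgebraicClosure L) (j ≫ t)
    have H' := (IsPullback.of_hasPullback b j).paste_horiz H
    let e' : pullback b j ≅ CohB1.ProjSpace n (AlgebraicClosure L) := H'.isoPullback ≪≫ e
    haveI := CurveLib.isIntegral_projSpace (AlgebraicClosure L) n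
    haveI : IsIntegral (pullback b j) := IsIntegral.of_isIso e'.inv
    haveI : Surjective (pullback.fst b j) := MorphismProperty.pullback_fst (P := @Surjective) _ _ inferInstance
    haveI : Flat (pullback.fst b j) := MorphismProperty.pullback_fst (P := @Flat) _ _ inferInstance
    exact ⟨(pullback.fst b j).surjective.connectedSpace (pullback.fst b j).continuous,
      FlatMor12.isReduced_of_flat_surjective (pullback.fst b j)⟩
  exact ⟨⟨fun K _ y Q a b h => (key K y Q a b h).1⟩, ⟨fun K _ y Q a b h => (key K y Q a b h).2⟩⟩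

/-- A morphism from a family of projective spaces to an abelian scheme contracts all fibres. -/
theorem collapsed (A : Over S) [GrpObj A] [IsProper A.hom]
    (hP : ∀ (K : Type u) [Field K] [IsAlgClosed K] (s : Spec (CommRingCat.of K) ⟶ S),
      ∃ (n : ℕ) (e : pullback P.hom s ≅ CohB1.ProjSpace n K), e.hom ≫ CohB1.ProjSpace.toSpec n K = pullback.snd P.hom s)
    (φ : P ⟶ A) (t : S) : t ∈ AbSchLib.collapsedLocus P.hom φ.left := by
  let K := AlgebraicClosure (S.residueField t)
  let s : Spec (CommRingCat.of K) ⟶ S :=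
    Spec.map (CommRingCat.ofHom (algebraMap (S.residueField t) K)) ≫ S.fromSpecResidueField t
  obtain ⟨n, e, he⟩ := hP K s
  have hs : ∀ z, s z = t := fun z => by
    rw [Scheme.Hom.comp_apply]; exact Scheme.fromSpecResidueField_apply _ _
  let AK : Over (Spec (CommRingCat.of K)) := (Over.pullback s).obj A
  letI : GrpObj AK := Functor.grpObjObj
  haveI : IsProper AK.hom := inferInstanceAs (IsProper (pullback.snd A.hom s))
  let f : CohB1.ProjSpace n K ⟶ AK.left :=
    e.inv ≫ pullback.lift (pullback.fst P.hom s ≫ φ.left) (pullback.snd P.hom s)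
      (by rw [Category.assoc, Over.w, pullback.condition])
  have hf : f ≫ AK.hom = CohB1.ProjSpace.toSpec n K := by
    show (e.inv ≫ pullback.lift _ _ _) ≫ pullback.snd A.hom s = _
    rw [Category.assoc, pullback.lift_snd, ← he, Iso.inv_hom_id_assoc]
  have hx : ∀ x, P.hom x = t → ∃ w : ↥(CohB1.ProjSpace n K), φ.left x = pullback.fst A.hom s (f w) := fun x hx => by
    obtain ⟨v, hv, -⟩ := Scheme.Pullback.exists_preimage_pullback (f := P.hom) (g := s) x (IsLocalRing.closedPoint K)
      (by rw [hs, hx])
    refine ⟨e.hom v, ?_⟩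
    rw [← Scheme.Hom.comp_apply, ← Scheme.Hom.comp_apply]
    simp only [f, Category.assoc, Iso.hom_inv_id_assoc]
    rw [← hv, ← Scheme.Hom.comp_apply]
    exact congrArg (fun (q : pullback P.hom s ⟶ A.left) => q v) (pullback.lift_fst _ _ _).symm
  rintro _ ⟨x, hxt, rfl⟩ _ ⟨y, hyt, rfl⟩
  obtain ⟨w, hw⟩ := hx x hxt
  obtain ⟨w', hw'⟩ := hx y hyt
  rw [hw, hw', apply_eq (A := AK) n f hf w w']

end Groth.Agent.AbVarLib.ProjSpaceConstant
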