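import Groth.Agent.AbVarLib.KernelTorsor
import Mathlib.AlgebraicGeometry.Sites.Fpqc
import Mathlib.AlgebraicGeometry.Morphisms.Flat

/-!
# The universal property of a faithfully flat homomorphism
-/

universe u

open CategoryTheory CategoryTheory.Limits MonoidalCategory CartesianMonoidalCategory MonObj GrpObj AlgebraicGeometry

namespace Groth.Agent.AbVarLib

variable {S : Scheme.{u}} {X Y Z : Over S}

theorem epi_tensor_self (f : X ⟶ Y) [Surjective f.left] [Flat f.left] [QuasiCompact f.left] :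
    Epi (f ⊗ₘ f) := by
  have key : ∀ (P : MorphismProperty Scheme.{u}) [P.IsStableUnderBaseChange] [P.IsStableUnderComposition],
      P f.left → P (f ⊗ₘ f).left := fun P _ _ h => by
    rw [Over.tensorHom_left]
    exact MorphismProperty.pullbackMap (P := P) h h (Over.w f).symm (Over.w f).symm
  have := key @Surjective inferInstance
  have := key @Flat inferInstance
  have := key @QuasiCompact inferInstance
  exact Over.epi_of_epi_left _

theorem existsUnique_lift_of_kernel [GrpObj X] [GrpObj Y] [GrpObj Z] (f : X ⟶ Y) [IsMonHom f]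
    [Surjective f.left] [Flat f.left] [QuasiCompact f.left] {N : Over S} (i : N ⟶ X) (hN : AlgGrp.IsKernel i f)
    (ψ : X ⟶ Z) [IsMonHom ψ] (hψ : i ≫ ψ = 1) : ∃! ρ : Y ⟶ Z, IsMonHom ρ ∧ f ≫ ρ = ψ := by
  have hsq := isPullback_kernel f i hN
  have h2 := hsq.map (Over.forget S)
  have e : fst X N ≫ ψ = (fst X N * (snd X N ≫ i)) ≫ ψ := by
    rw [MonObj.mul_comp, Category.assoc, hψ, MonObj.comp_one, _root_.mul_one]
  have hd : ∀ {W : Scheme.{u}} (g₁ g₂ : W ⟶ X.left), g₁ ≫ f.left = g₂ ≫ f.left →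
      g₁ ≫ ψ.left = g₂ ≫ ψ.left := fun {W} g₁ g₂ h => by
    let l := h2.lift g₁ g₂ h
    have h3 : l ≫ (fst X N).left = g₁ := h2.lift_fst _ _ _
    have h4 : l ≫ (fst X N * (snd X N ≫ i)).left = g₂ := h2.lift_snd _ _ _
    have e' : (fst X N).left ≫ ψ.left = (fst X N * (snd X N ≫ i)).left ≫ ψ.left := congrArg Over.Hom.left e
    rw [← h3, ← h4]
    exact ((Category.assoc _ _ _).trans (congrArg (l ≫ ·) e')).trans (Category.assoc _ _ _).symm
  let r : Y.left ⟶ Z.left := EffectiveEpi.desc f.left ψ.left hd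
  have hr : f.left ≫ r = ψ.left := EffectiveEpi.fac f.left ψ.left hd
  have hw : r ≫ Z.hom = Y.hom := by
    rw [← cancel_epi f.left, reassoc_of% hr, Over.w ψ, Over.w f]
  let ρ : Y ⟶ Z := Over.homMk r hw
  have hρ : f ≫ ρ = ψ := Over.OverMorphism.ext hr
  have : Epi f := Over.epi_of_epi_left _
  have := epi_tensor_self f
  refine ⟨ρ, ⟨⟨?_, ?_⟩, hρ⟩, fun ρ' h => ?_⟩
  · rw [← IsMonHom.one_hom f, Category.assoc, hρ, IsMonHom.one_hom]
  · rw [← cancel_epi (f ⊗ₘ f), ← Category.assoc, ← IsMonHom.mul_hom f, Category.assoc, hρ, IsMonHom.mul_hom,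
      tensorHom_comp_tensorHom_assoc, hρ]
  · rw [← cancel_epi f, h.2, hρ]

end Groth.Agent.AbVarLib
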