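import Groth.Prelude.Def_W4bk6langav68Chow
import Groth.Prelude.Def_ActBC
import Mathlib.AlgebraicGeometry.Geometrically.Integral
import Mathlib.AlgebraicGeometry.Morphisms.Proper

/-!
# Chow image and trace: transitivity in towers
-/

universe u

noncomputable section

open CategoryTheory Limits MonoidalCategory CartesianMonoidalCategory MonObj GrpObj AlgebraicGeometry

namespace Groth.Agent.AbVarLib

theorem isPullback_map {S T : Scheme.{u}} (f : T ⟶ S) {A B : Over S} (a : A ⟶ B) :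
    IsPullback (pullback.fst A.hom f) ((Over.pullback f).map a).left a.left (pullback.fst B.hom f) := by
  refine IsPullback.of_bot (v₂₁ := pullback.snd B.hom f) (v₂₂ := B.hom) (h₃₁ := f) ?_ (pullback.lift_fst _ _ _).symm
    (IsPullback.of_hasPullback B.hom f)
  have e : ((Over.pullback f).map a).left ≫ pullback.snd B.hom f = pullback.snd A.hom f :=
    pullback.lift_snd _ _ _
  rw [e, Over.w]
  exact IsPullback.of_hasPullback A.hom f

theorem prop_map (P : MorphismProperty Scheme.{u}) [P.IsStableUnderBaseChange] {S T : Scheme.{u}} (f : T ⟶ S)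
    {A B : Over S} (a : A ⟶ B) (h : P a.left) : P ((Over.pullback f).map a).left :=
  MorphismProperty.of_isPullback (isPullback_map f a) h

section Aux

variable {C : Type*} [Category C] {P Q R R' U V : C}

theorem comp_aux₁ {l : P ⟶ Q} {m : Q ⟶ R} {c : R ⟶ R'} {a : R' ⟶ V} {a' : R ⟶ U} {cU : U ⟶ V} {F : Q ⟶ U}
    {α : P ⟶ V} {d : V ⟶ U} (nat : a' ≫ cU = c ≫ a) (hm : m ≫ a' = F) (hl : l ≫ F = α ≫ d) (hd : d ≫ cU = 𝟙 V) :
    (l ≫ m ≫ c) ≫ a = α := by
  rw [Category.assoc, Category.assoc, ← nat, reassoc_of% hm, reassoc_of% hl, hd, Category.comp_id]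

theorem comp_aux₂ {b : V ⟶ R'} {c : R' ⟶ R} {m : R ⟶ Q} {t : Q ⟶ P} {cV : V ⟶ U} {b' : U ⟶ R} {F : U ⟶ Q}
    {β : V ⟶ P} {d : U ⟶ V} (nat : b ≫ c = cV ≫ b') (hm : b' ≫ m = F) (ht : F ≫ t = d ≫ β) (hd : cV ≫ d = 𝟙 V) :
    b ≫ c ≫ m ≫ t = β := by
  rw [reassoc_of% nat, reassoc_of% hm, ht, reassoc_of% hd]

theorem comp_aux₁' {m : Q ⟶ R} {c : R ⟶ R'} {a : R' ⟶ V} {a' : R ⟶ U} {cU : U ⟶ V} {F : Q ⟶ U}
    {α : Q ⟶ V} {d : V ⟶ U} (nat : a' ≫ cU = c ≫ a) (hm : m ≫ a' = F) (hl : F = α ≫ d) (hd : d ≫ cU = 𝟙 V) :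
    (m ≫ c) ≫ a = α := by
  rw [Category.assoc, ← nat, reassoc_of% hm, hl, Category.assoc, hd, Category.comp_id]

theorem comp_aux₂' {b : V ⟶ R'} {c : R' ⟶ R} {m : R ⟶ Q} {cV : V ⟶ U} {b' : U ⟶ R} {F : U ⟶ Q}
    {β : V ⟶ Q} {d : U ⟶ V} (nat : b ≫ c = cV ≫ b') (hm : b' ≫ m = F) (ht : F = d ≫ β) (hd : cV ≫ d = 𝟙 V) :
    b ≫ c ≫ m = β := by
  rw [reassoc_of% nat, hm, ht, reassoc_of% hd]

end Aux

section Comp

variable {S S' S'' : Scheme.{u}} (f : S' ⟶ S) (g : S'' ⟶ S') (d : S'' ⟶ S) (h : g ≫ f = d)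

/-- The comparison of the two-step base change with the one-step one. -/
abbrev bcTwo (X : Over S) : Red.bc g (Red.bc f X) ≅ Red.bc d X := (Over.pullbackComp g f).symm.app X ≪≫
  eqToIso (congrArg (fun φ => Red.bc φ X) h)

theorem bcTwo_hom (X : Over S) : (bcTwo f g d h X).hom =
    (Over.pullbackComp g f).inv.app X ≫ eqToHom (congrArg (fun φ => Red.bc φ X) h) := rfl

theorem bcTwo_inv (X : Over S) : (bcTwo f g d h X).inv =
    eqToHom (congrArg (fun φ => Red.bc φ X) h.symm) ≫ (Over.pullbackComp g f).hom.app X := rfl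

theorem bcTwo_natural {X Y : Over S} (a : X ⟶ Y) :
    (Over.pullback g).map ((Over.pullback f).map a) ≫ (bcTwo f g d h Y).hom =
      (bcTwo f g d h X).hom ≫ (Over.pullback d).map a := by
  subst h
  simp only [bcTwo_hom, eqToHom_refl, Category.comp_id]
  exact (Over.pullbackComp g f).inv.naturality a

theorem bcTwo_inv_natural {X Y : Over S} (a : X ⟶ Y) :
    (Over.pullback d).map a ≫ (bcTwo f g d h Y).inv =
      (bcTwo f g d h X).inv ≫ (Over.pullback g).map ((Over.pullback f).map a) := by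
  rw [Iso.comp_inv_eq, Category.assoc, bcTwo_natural, Iso.inv_hom_id_assoc]

theorem isMonHom_bcTwo (X : Over S) [GrpObj X] : IsMonHom (bcTwo f g d h X).hom := by
  subst h
  rw [bcTwo_hom, eqToHom_refl, Category.comp_id]
  have e : (Over.pullbackComp g f).inv.app X = (ActBC.bcCompIso g f X (rfl : g ≫ f = g ≫ f)).hom :=
    (ActBC.bcCompIso_hom_eq_pullbackComp_inv g f X).symm
  rw [e]
  infer_instance

theorem isMonHom_bcTwo_inv (X : Over S) [GrpObj X] : IsMonHom (bcTwo f g d h X).inv := by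
  haveI := isMonHom_bcTwo f g d h X
  infer_instance

theorem fac_image {A' : Over S''} {A₁ : Over S'} {A₀ B : Over S} (lam₁ : A' ⟶ Red.bc g A₁)
    (lam : A₁ ⟶ Red.bc f A₀) (α : A' ⟶ Red.bc d B) (α₁ : A₁ ⟶ Red.bc f B) (α₀ : A₀ ⟶ B)
    (e₁ : lam₁ ≫ (Over.pullback g).map α₁ = α ≫ (bcTwo f g d h B).inv)
    (e₀ : lam ≫ (Over.pullback f).map α₀ = α₁) :
    (lam₁ ≫ (Over.pullback g).map lam ≫ (bcTwo f g d h A₀).hom) ≫ (Over.pullback d).map α₀ = α :=
  comp_aux₁ (bcTwo_natural f g d h α₀) ((Functor.map_comp _ _ _).symm.trans (congrArg _ e₀)) e₁ (Iso.inv_hom_id _)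

theorem fac_trace {A' : Over S''} {A₁ : Over S'} {A₀ B : Over S} (tau₁ : Red.bc g A₁ ⟶ A')
    (tau : Red.bc f A₀ ⟶ A₁) (β : Red.bc d B ⟶ A') (β₁ : Red.bc f B ⟶ A₁) (β₀ : B ⟶ A₀)
    (e₁ : (Over.pullback g).map β₁ ≫ tau₁ = (bcTwo f g d h B).hom ≫ β)
    (e₀ : (Over.pullback f).map β₀ ≫ tau = β₁) :
    (Over.pullback d).map β₀ ≫ @CategoryStruct.comp (Over S'') _ (Red.bc d A₀) (Red.bc g (Red.bc f A₀)) A'
      (bcTwo f g d h A₀).inv ((Over.pullback g).map tau ≫ tau₁) = β :=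
  comp_aux₂ (bcTwo_inv_natural f g d h β₀) ((Functor.map_comp _ _ _).symm.trans (congrArg _ e₀)) e₁ (Iso.inv_hom_id _)

theorem image_congr {A' : Over S''} {A₁ : Over S'} {A₀ : Over S} (lam₁ : A' ⟶ Red.bc g A₁) (lam : A₁ ⟶ Red.bc f A₀)
    {P : (A' ⟶ Red.bc d A₀) → Prop} (hP : P (lam₁ ≫ (Over.pullback g).map lam ≫ (bcTwo f g d h A₀).hom)) :
    P (lam₁ ≫ (Over.pullback g).map lam ≫ (Over.pullbackComp g f).inv.app A₀ ≫
      eqToHom (congrArg (fun φ => Red.bc φ A₀) h)) := hP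

theorem image_bc_congr {A : Over S'} {A₀ : Over S} (lam : A ⟶ Red.bc f A₀)
    {P : (Red.bc g A ⟶ Red.bc d A₀) → Prop} (hP : P ((Over.pullback g).map lam ≫ (bcTwo f g d h A₀).hom)) :
    P ((Over.pullback g).map lam ≫ (Over.pullbackComp g f).inv.app A₀ ≫
      eqToHom (congrArg (fun φ => Red.bc φ A₀) h)) := hP

theorem trace_bc_congr {A : Over S'} {A₀ : Over S} (tau : Red.bc f A₀ ⟶ A)
    {P : (Red.bc d A₀ ⟶ Red.bc g A) → Prop} (hP : P ((bcTwo f g d h A₀).inv ≫ (Over.pullback g).map tau)) :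
    P (eqToHom (congrArg (fun φ => Red.bc φ A₀) h.symm) ≫ (Over.pullbackComp g f).hom.app A₀ ≫
      (Over.pullback g).map tau) := by
  rw [← Category.assoc]
  exact hP

theorem fac_image_bc {A : Over S'} {A₀ B : Over S}
    (lam : A ⟶ Red.bc f A₀) (α : Red.bc g A ⟶ Red.bc d B) (α₁ : A ⟶ Red.bc f B) (α₀ : A₀ ⟶ B)
    (e₁ : (Over.pullback g).map α₁ = α ≫ (bcTwo f g d h B).inv)
    (e₀ : lam ≫ (Over.pullback f).map α₀ = α₁) :
    @Eq (Red.bc g A ⟶ (Over.pullback d).obj B)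
      (@CategoryStruct.comp (Over S'') _ (Red.bc g A) (Red.bc d A₀) ((Over.pullback d).obj B)
        (@CategoryStruct.comp (Over S'') _ (Red.bc g A) ((Over.pullback g).obj (Red.bc f A₀)) (Red.bc d A₀)
          ((Over.pullback g).map lam) (bcTwo f g d h A₀).hom) ((Over.pullback d).map α₀)) α :=
  comp_aux₁' (bcTwo_natural f g d h α₀) ((Functor.map_comp _ _ _).symm.trans (congrArg _ e₀)) e₁ (Iso.inv_hom_id _)

theorem fac_trace_bc {A : Over S'} {A₀ B : Over S}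
    (tau : Red.bc f A₀ ⟶ A) (β : Red.bc d B ⟶ Red.bc g A) (β₁ : Red.bc f B ⟶ A) (β₀ : B ⟶ A₀)
    (e₁ : (Over.pullback g).map β₁ = (bcTwo f g d h B).hom ≫ β)
    (e₀ : (Over.pullback f).map β₀ ≫ tau = β₁) :
    (Over.pullback d).map β₀ ≫ @CategoryStruct.comp (Over S'') _ (Red.bc d A₀) (Red.bc g (Red.bc f A₀)) (Red.bc g A)
      (bcTwo f g d h A₀).inv ((Over.pullback g).map tau) = β :=
  comp_aux₂' (bcTwo_inv_natural f g d h β₀) ((Functor.map_comp _ _ _).symm.trans (congrArg _ e₀)) e₁ (Iso.inv_hom_id _)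

end Comp

section Fields

variable {k K K' : Type u} [Field k] [Field K] [Field K'] [Algebra k K] [Algebra K K'] [Algebra k K']

theorem isProper_bc {S T : Scheme.{u}} (f : T ⟶ S) (B : Over S) [IsProper B.hom] : IsProper (Red.bc f B).hom :=
  inferInstanceAs (IsProper (pullback.snd B.hom f))

theorem geometricallyIntegral_bc {S T : Scheme.{u}} (f : T ⟶ S) (B : Over S) [GeometricallyIntegral B.hom] :
    GeometricallyIntegral (Red.bc f B).hom :=
  inferInstanceAs (GeometricallyIntegral (pullback.snd B.hom f))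

/-- Chow images compose in towers. -/
theorem isChowImage_comp (hc : AbVar.ext K K' ≫ AbVar.ext k K = AbVar.ext k K')
    (A' : Over (Spec (CommRingCat.of K'))) [GrpObj A']
    (A₁ : Over (Spec (CommRingCat.of K))) [GrpObj A₁]
    (A₀ : Over (Spec (CommRingCat.of k))) [GrpObj A₀]
    (lam₁ : A' ⟶ Red.bc (AbVar.ext K K') A₁) (h₁ : AbVar.IsChowImage K K' A' A₁ lam₁)
    (lam : A₁ ⟶ Red.bc (AbVar.ext k K) A₀) (h : AbVar.IsChowImage k K A₁ A₀ lam) :
    AbVar.IsChowImage k K' A' A₀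
      (lam₁ ≫ (Over.pullback (AbVar.ext K K')).map lam ≫ (bcTwo _ _ _ hc A₀).hom) := by
  have := h₁.isMonHom; have := h.isMonHom
  have : IsMonHom (bcTwo _ _ _ hc A₀).hom := isMonHom_bcTwo _ _ _ hc A₀
  refine ⟨inferInstance, ?_, ?_⟩
  · have := h₁.surjective; have := h.surjective
    have h2 : Surjective ((Over.pullback (AbVar.ext K K')).map lam).left := prop_map @Surjective _ lam h.surjective
    have h3 : IsIso (bcTwo _ _ _ hc A₀).hom.left :=
      inferInstanceAs (IsIso ((Over.forget (Spec (CommRingCat.of K'))).map (bcTwo _ _ _ hc A₀).hom))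
    simp only [Over.comp_left]
    infer_instance
  · intro B _ _ _ α _
    have := isProper_bc (AbVar.ext k K) B; have := geometricallyIntegral_bc (AbVar.ext k K) B
    have : IsMonHom (bcTwo _ _ _ hc B).inv := isMonHom_bcTwo_inv _ _ _ hc B
    obtain ⟨α₁, hα₁, e₁⟩ := h₁.fac (Red.bc (AbVar.ext k K) B) (α ≫ (bcTwo _ _ _ hc B).inv)
    obtain ⟨α₀, hα₀, e₀⟩ := h.fac B α₁
    refine ⟨α₀, hα₀, ?_⟩
    exact fac_image _ _ _ hc lam₁ lam α α₁ α₀ e₁ e₀

/-- Chow traces compose in towers. -/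
theorem isChowTrace_comp (hc : AbVar.ext K K' ≫ AbVar.ext k K = AbVar.ext k K')
    (A' : Over (Spec (CommRingCat.of K'))) [GrpObj A']
    (A₁ : Over (Spec (CommRingCat.of K))) [GrpObj A₁]
    (A₀ : Over (Spec (CommRingCat.of k))) [GrpObj A₀]
    (tau₁ : Red.bc (AbVar.ext K K') A₁ ⟶ A') (h₁ : AbVar.IsChowTrace K K' A' A₁ tau₁)
    (tau : Red.bc (AbVar.ext k K) A₀ ⟶ A₁) (h : AbVar.IsChowTrace k K A₁ A₀ tau) :
    AbVar.IsChowTrace k K' A' A₀
      ((bcTwo _ _ _ hc A₀).inv ≫ (Over.pullback (AbVar.ext K K')).map tau ≫ tau₁) := by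
  have := h₁.isMonHom; have := h.isMonHom
  have : IsMonHom (bcTwo _ _ _ hc A₀).inv := isMonHom_bcTwo_inv _ _ _ hc A₀
  refine ⟨inferInstance, ?_, ?_⟩
  · have := h₁.isFinite
    have h2 : IsFinite ((Over.pullback (AbVar.ext K K')).map tau).left := prop_map @IsFinite _ tau h.isFinite
    have h3 : IsIso (bcTwo _ _ _ hc A₀).inv.left :=
      inferInstanceAs (IsIso ((Over.forget (Spec (CommRingCat.of K'))).map (bcTwo _ _ _ hc A₀).inv))
    simp only [Over.comp_left]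
    infer_instance
  · intro B _ _ _ β _
    have := isProper_bc (AbVar.ext k K) B; have := geometricallyIntegral_bc (AbVar.ext k K) B
    have : IsMonHom (bcTwo _ _ _ hc B).hom := isMonHom_bcTwo _ _ _ hc B
    obtain ⟨β₁, hβ₁, e₁⟩ := h₁.fac (Red.bc (AbVar.ext k K) B) ((bcTwo _ _ _ hc B).hom ≫ β)
    obtain ⟨β₀, hβ₀, e₀⟩ := h.fac B β₁
    refine ⟨β₀, hβ₀, ?_⟩
    exact fac_trace _ _ _ hc tau₁ tau β β₁ β₀ e₁ e₀

end Fields

end Groth.Agent.AbVarLib
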