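import Mathlib.LinearAlgebra.QuadraticForm.Basic
import Mathlib.LinearAlgebra.Matrix.ToLin
import Mathlib.LinearAlgebra.Matrix.Charpoly.Minpoly
import Mathlib.LinearAlgebra.Matrix.ToLinearEquiv
import Mathlib.RingTheory.Artinian.Module
import Mathlib.FieldTheory.Separable
import Mathlib.FieldTheory.Perfect
import Mathlib.Algebra.Algebra.Hom.Rat
import Mathlib.Analysis.Complex.Polynomial.Basic
import Mathlib.Topology.Algebra.Order.Archimedean
import Mathlib.Data.Real.Archimedean

/-!
# Finite dimensional rational algebras with a positive involution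
-/

universe u

namespace Groth.Agent.AbVarLib

open Polynomial Matrix

variable {R : Type u} [Ring R] [Algebra ℚ R] [Module.Finite ℚ R] [StarRing R] [StarModule ℚ R]
  (σ : R →ₗ[ℚ] ℚ)

omit [Module.Finite ℚ R] [StarModule ℚ R] in
theorem sigma_mul_star_nonneg (hpos : ∀ x : R, x ≠ 0 → 0 < σ (x * star x)) (x : R) : 0 ≤ σ (x * star x) := by
  rcases eq_or_ne x 0 with rfl | h
  · simp
  · exact (hpos x h).le

omit [Module.Finite ℚ R] [StarModule ℚ R] in
theorem eq_zero_of_symm_nilpotent (hpos : ∀ x : R, x ≠ 0 → 0 < σ (x * star x)) (x : R) (hx : star x = x)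
    (h : IsNilpotent x) : x = 0 := by
  obtain ⟨n, hn⟩ := h
  have key : ∀ k, x ^ (2 ^ k) = 0 → x = 0 := by
    intro k
    induction k with
    | zero => simp
    | succ k ih =>
      intro hk
      apply ih
      by_contra hc
      have := hpos _ hc
      rw [star_pow, hx, ← sq, ← pow_mul, ← pow_succ, hk, map_zero] at this
      exact this.false
  exact key n (pow_eq_zero_of_le n.lt_two_pow_self.le hn)

theorem isSemisimpleRing_of_pos (hpos : ∀ x : R, x ≠ 0 → 0 < σ (x * star x)) : IsSemisimpleRing R := by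
  have : IsArtinianRing R := IsArtinianRing.of_finite ℚ R
  rw [IsArtinianRing.isSemisimpleRing_iff_jacobson, eq_bot_iff]
  intro x hx
  obtain ⟨n, hn⟩ := IsSemiprimaryRing.isNilpotent (R := R)
  by_contra hx0
  have hz : x * star x ∈ Ring.jacobson R := Ideal.mul_mem_right _ _ hx
  have hpow : (x * star x) ^ n ∈ Ring.jacobson R ^ n := Ideal.pow_mem_pow hz n
  rw [hn, Ideal.zero_eq_bot, Ideal.mem_bot] at hpow
  have := eq_zero_of_symm_nilpotent σ hpos _ (by simp) ⟨n, hpow⟩
  have h2 := hpos x hx0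
  rw [this, map_zero] at h2
  exact h2.false

/-- An orthogonal basis for `(a, b) ↦ σ(a b*) + σ(b a*)`, and the resulting matrix representation in which the
involution is the adjoint. -/
theorem exists_matrix_rep (hpos : ∀ x : R, x ≠ 0 → 0 < σ (x * star x)) :
    ∃ (n : ℕ) (e : Fin n → ℚ) (Φ : R →ₐ[ℚ] Matrix (Fin n) (Fin n) ℚ), (∀ i, 0 < e i) ∧ Function.Injective Φ ∧
      ∀ a, Matrix.diagonal e * Φ (star a) = (Φ a)ᵀ * Matrix.diagonal e := by
  classical
  let B : LinearMap.BilinForm ℚ R := LinearMap.mk₂ ℚ (fun a b => σ (a * star b) + σ (b * star a))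
    (fun a b c => by simp only [add_mul, star_add, mul_add, map_add]; ring)
    (fun t a b => by simp only [star_smul, star_trivial, smul_mul_assoc, mul_smul_comm, map_smul, smul_add])
    (fun a b c => by simp only [add_mul, star_add, mul_add, map_add]; ring)
    (fun t a b => by simp only [star_smul, star_trivial, smul_mul_assoc, mul_smul_comm, map_smul, smul_add])
  have hB : ∀ a b, B a b = σ (a * star b) + σ (b * star a) := fun _ _ => rfl
  have : Invertible (2 : ℚ) := invertibleOfNonzero two_ne_zero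
  obtain ⟨v, hv⟩ := LinearMap.BilinForm.exists_orthogonal_basis (B := B) ⟨fun a b => by simp [hB, add_comm]⟩
  set d := fun i => B (v i) (v i)
  have hd : ∀ i, 0 < d i := fun i => by
    have := hpos (v i) (v.ne_zero i)
    simp only [d, hB]; linarith
  have hBrepr : ∀ a i, B a (v i) = v.repr a i * d i := by
    intro a i
    conv_lhs => rw [← v.sum_repr a, map_sum, LinearMap.sum_apply]
    rw [Finset.sum_eq_single i (fun j _ hj => by simp [map_smul, hv hj]) (by simp)]
    simp [d]
  let M : R → Matrix (Fin _) (Fin _) ℚ := fun a => LinearMap.toMatrix v v (LinearMap.mulRight ℚ a)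
  have hMij : ∀ a i j, M a i j = v.repr (v j * a) i := fun a i j => by simp [M, LinearMap.toMatrix_apply]
  have hM1 : M 1 = 1 := by simp [M, LinearMap.mulRight_one]
  have hMmul : ∀ a b, M (a * b) = M b * M a := fun a b => by
    simp [M, LinearMap.mulRight_mul, LinearMap.toMatrix_comp v v v]
  have hMadd : ∀ a b, M (a + b) = M a + M b := fun a b => by
    ext i j; simp [hMij, mul_add]
  let Φ : R →+* Matrix (Fin _) (Fin _) ℚ :=
    { toFun := fun a => (M a)ᵀ
      map_one' := by simp [hM1]
      map_mul' := fun a b => by simp [hMmul]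
      map_zero' := by ext i j; simp [hMij]
      map_add' := fun a b => by simp [hMadd] }
  have hΦ : ∀ a i j, Φ.toRatAlgHom a i j = v.repr (v i * a) j := fun a i j => hMij a j i
  refine ⟨_, fun i => (d i)⁻¹, Φ.toRatAlgHom, fun i => inv_pos.2 (hd i), fun a b h => ?_, fun a => ?_⟩
  · have : ∀ i, v i * a = v i * b := fun i => v.repr.injective (Finsupp.ext fun j => by
      rw [← hΦ, ← hΦ, h])
    have h2 : LinearMap.mulRight ℚ a = LinearMap.mulRight ℚ b := v.ext fun i => this i
    simpa using congr($h2 (1 : R))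
  · ext i j
    rw [Matrix.diagonal_mul, Matrix.mul_diagonal, Matrix.transpose_apply, hΦ, hΦ]
    have key : B (v i * star a) (v j) = B (v j * a) (v i) := by
      simp only [hB, star_mul, star_star, mul_assoc, add_comm]
    rw [hBrepr, hBrepr] at key
    have := (hd i).ne'
    have := (hd j).ne'
    field_simp
    linear_combination key

section Matrix

variable {n : ℕ} {K : Type*} [Field K]

theorem exists_eigenvector (φ : ℚ →+* K) (M : Matrix (Fin n) (Fin n) ℚ) (z : K)
    (hz : (minpoly ℚ M).eval₂ φ z = 0) : ∃ v : Fin n → K, v ≠ 0 ∧ (M.map φ) *ᵥ v = z • v := by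
  obtain ⟨q, hq⟩ := Matrix.minpoly_dvd_charpoly M
  have h : (M.map φ).charpoly.eval z = 0 := by
    rw [Matrix.charpoly_map, Polynomial.eval_map, hq, Polynomial.eval₂_mul, hz, zero_mul]
  rw [Matrix.eval_charpoly] at h
  obtain ⟨v, hv, hv0⟩ := Matrix.exists_mulVec_eq_zero_iff.2 h
  refine ⟨v, hv, ?_⟩
  rw [Matrix.sub_mulVec, sub_eq_zero] at hv0
  rw [← hv0]
  ext i
  simp [Matrix.scalar_apply, Matrix.mulVec_diagonal]

theorem aeval_mulVec (M : Matrix (Fin n) (Fin n) K) (v : Fin n → K) (z : K) (h : M *ᵥ v = z • v) (p : K[X]) :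
    Polynomial.aeval M p *ᵥ v = p.eval z • v := by
  induction p using Polynomial.induction_on' with
  | add p q hp hq => rw [map_add, Matrix.add_mulVec, hp, hq, Polynomial.eval_add, add_smul]
  | monomial k a =>
    have hk : ∀ k, (M ^ k) *ᵥ v = z ^ k • v := by
      intro k
      induction k with
      | zero => simp
      | succ k ih => rw [pow_succ, ← Matrix.mulVec_mulVec, h, Matrix.mulVec_smul, ih, smul_smul, pow_succ']
    rw [Polynomial.aeval_monomial, Polynomial.eval_monomial, ← Algebra.smul_def, Matrix.smul_mulVec, hk, smul_smul]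

end Matrix

/-- Eigenvalues of an element whose adjoint is a polynomial in it: the adjoint acts by the conjugate. -/
theorem aeval_eq_conj_of_star_eq_aeval (hpos : ∀ x : R, x ≠ 0 → 0 < σ (x * star x)) (a : R) (p : ℚ[X])
    (ha : star a = Polynomial.aeval a p) (z : ℂ) (hz : Polynomial.aeval z (minpoly ℚ a) = 0) :
    Polynomial.aeval z p = starRingEnd ℂ z := by
  obtain ⟨n, e, Φ, he, hinj, hadj⟩ := exists_matrix_rep σ hpos
  let φ : ℚ →+* ℂ := algebraMap ℚ ℂ
  have hmin : minpoly ℚ (Φ a) = minpoly ℚ a := minpoly.algHom_eq Φ hinj a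
  obtain ⟨v, hv0, hv⟩ := exists_eigenvector φ (Φ a) z (by rw [hmin]; exact hz)
  let Φc : R →ₐ[ℚ] Matrix (Fin n) (Fin n) ℂ := (Algebra.ofId ℚ ℂ).mapMatrix.comp Φ
  have hMc : ∀ r, Φc r = (Φ r).map φ := fun r => rfl
  have hstar : Φc (star a) *ᵥ v = Polynomial.aeval z p • v := by
    rw [ha, ← Polynomial.aeval_algHom_apply, ← Polynomial.aeval_map_algebraMap ℂ, aeval_mulVec _ v z (by rw [hMc]; exact hv),
      Polynomial.eval_map, Polynomial.aeval_def]
  let E : Fin n → ℂ := fun i => φ (e i)
  have hadj' : Matrix.diagonal E * Φc (star a) = (Φc a)ᵀ * Matrix.diagonal E := by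
    have := congrArg (fun N => Matrix.map N φ) (hadj a)
    simp only [Matrix.map_mul, Matrix.diagonal_map (map_zero φ), Matrix.transpose_map] at this
    exact this
  let N : ℂ := star v ⬝ᵥ (Matrix.diagonal E *ᵥ v)
  have hN : N ≠ 0 := by
    have h1 : N = ((∑ i, (e i : ℝ) * Complex.normSq (v i) : ℝ) : ℂ) := by
      simp only [N, dotProduct, Matrix.mulVec_diagonal, Pi.star_apply, Complex.ofReal_sum, Complex.ofReal_mul]
      refine Finset.sum_congr rfl fun i _ => ?_
      rw [← mul_assoc, mul_comm (star (v i)), mul_assoc, Complex.normSq_eq_conj_mul_self]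
      simp [E, φ]
    rw [h1, Complex.ofReal_ne_zero]
    obtain ⟨i, hi⟩ := Function.ne_iff.1 hv0
    refine (Finset.sum_pos' (fun j _ => mul_nonneg (by exact_mod_cast (he j).le) (Complex.normSq_nonneg _))
      ⟨i, Finset.mem_univ _, mul_pos (by exact_mod_cast he i) (Complex.normSq_pos.2 hi)⟩).ne'
  have hreal : ∀ i j, star (Φc a i j) = Φc a i j := fun i j => by
    rw [hMc]; simp [φ]
  have hl : star v ᵥ* (Φc a)ᵀ = starRingEnd ℂ z • star v := by
    rw [Matrix.vecMul_transpose]
    have h2 := congrArg star (show Φc a *ᵥ v = z • v by rw [hMc]; exact hv)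
    rw [star_smul] at h2
    rw [starRingEnd_apply, ← h2]
    ext i
    simp only [Matrix.mulVec, dotProduct, Pi.star_apply, star_sum, star_mul', hreal]
  have key : Polynomial.aeval z p * N = starRingEnd ℂ z * N := by
    have e1 : star v ⬝ᵥ ((Matrix.diagonal E * Φc (star a)) *ᵥ v) = Polynomial.aeval z p * N := by
      rw [← Matrix.mulVec_mulVec, hstar, Matrix.mulVec_smul, dotProduct_smul, smul_eq_mul]
    rw [← e1, hadj', ← Matrix.mulVec_mulVec, Matrix.dotProduct_mulVec, hl, smul_dotProduct, smul_eq_mul]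
  exact mul_right_cancel₀ hN key

theorem symm_separable_and_real (hpos : ∀ x : R, x ≠ 0 → 0 < σ (x * star x)) (x : R) (hx : star x = x) :
    (minpoly ℚ x).Separable ∧ ∀ z : ℂ, Polynomial.aeval z (minpoly ℚ x) = 0 → z.im = 0 := by
  classical
  refine ⟨?_, fun z hz => ?_⟩
  · rw [PerfectField.separable_iff_squarefree]
    set P := minpoly ℚ x
    have hP0 : P ≠ 0 := minpoly.ne_zero (IsIntegral.of_finite ℚ x)
    intro q hq
    obtain ⟨r, hr⟩ := hq
    set y := Polynomial.aeval x (q * r)
    have hy : star y = y := by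
      have key : ∀ g : ℚ[X], star (Polynomial.aeval x g) = Polynomial.aeval x g := by
        intro g
        induction g using Polynomial.induction_on' with
        | add a b ha hb => rw [map_add, star_add, ha, hb]
        | monomial k c =>
          rw [Polynomial.aeval_monomial, star_mul, star_pow, hx, ← Algebra.smul_def]
          rw [show star (algebraMap ℚ R c) = algebraMap ℚ R c by
            rw [Algebra.algebraMap_eq_smul_one, star_smul, star_one, star_trivial]]
          rw [← Algebra.commutes, ← Algebra.smul_def]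
      exact key _
    have hy2 : y ^ 2 = 0 := by
      rw [← map_pow, show (q * r) ^ 2 = P * r by rw [hr]; ring, map_mul, minpoly.aeval, zero_mul]
    have hy0 : y = 0 := eq_zero_of_symm_nilpotent σ hpos y hy ⟨2, hy2⟩
    have h0 : q * r ≠ 0 := by
      intro h
      rw [mul_assoc, h, mul_zero] at hr
      exact hP0 hr
    have hdeg := minpoly.degree_le_of_ne_zero ℚ x h0 hy0
    rw [show minpoly ℚ x = q * (q * r) by rw [← mul_assoc]; exact hr, Polynomial.degree_mul,
      Polynomial.degree_eq_natDegree (left_ne_zero_of_mul h0), Polynomial.degree_eq_natDegree h0,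
      ← Nat.cast_add, Nat.cast_le] at hdeg
    exact Polynomial.isUnit_iff_degree_eq_zero.2
      (by rw [Polynomial.degree_eq_natDegree (left_ne_zero_of_mul h0)]; exact_mod_cast (by omega : q.natDegree = 0))
  · have := aeval_eq_conj_of_star_eq_aeval σ hpos x X (by simp [hx]) z hz
    rw [Polynomial.aeval_X] at this
    exact Complex.conj_eq_iff_im.1 this.symm

omit [StarModule ℚ R] in
theorem exists_sq_approx (m : ℕ) (r : Fin m → ℝ) (hr : Function.Injective r) (ε : ℝ) (hε : 0 < ε) (i : Fin m) :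
    ∃ y : ℚ[X], ∀ j, |(Polynomial.aeval (r j) y) ^ 2 - if j = i then 1 else 0| < ε := by
  classical
  let L : ℝ[X] := ∏ j ∈ Finset.univ.erase i, (X - C (r j))
  have hLi : L.eval (r i) ≠ 0 := by
    simp only [L, Polynomial.eval_prod, Finset.prod_ne_zero_iff]
    intro j hj
    simpa [sub_eq_zero] using hr.ne (Finset.ne_of_mem_erase hj).symm
  let ℓ : ℝ[X] := C (L.eval (r i))⁻¹ * L
  have hℓ : ∀ j, ℓ.eval (r j) = if j = i then 1 else 0 := by
    intro j
    split_ifs with h
    · subst h; simp [ℓ, hLi]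
    · have h0 : L.eval (r j) = 0 := by
        simp only [L, Polynomial.eval_prod]
        exact Finset.prod_eq_zero (Finset.mem_erase.2 ⟨h, Finset.mem_univ _⟩) (by simp)
      simp [ℓ, h0]
  let k := ℓ.natDegree + 1
  let F : (Fin k → ℝ) → Fin m → ℝ := fun c j => (∑ t, c t * r j ^ (t : ℕ)) ^ 2
  have hF : Continuous F := by fun_prop
  have hF0 : F (fun t => ℓ.coeff t) = fun j => if j = i then 1 else 0 := by
    ext j
    simp only [F]
    rw [show (∑ t : Fin k, ℓ.coeff t * r j ^ (t : ℕ)) = ℓ.eval (r j) from ?_, hℓ]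
    · split_ifs <;> simp
    · rw [Polynomial.eval_eq_sum_range, Finset.sum_range]
  have hd : DenseRange (Pi.map fun _ : Fin k => fun q : ℚ => (q : ℝ)) :=
    DenseRange.piMap fun _ => Rat.denseRange_cast
  obtain ⟨c, hc⟩ := hd.exists_mem_open
    ((Metric.isOpen_ball (x := fun j => if j = i then (1 : ℝ) else 0) (ε := ε)).preimage hF)
    ⟨fun t => ℓ.coeff t, by rw [Set.mem_preimage, hF0]; exact Metric.mem_ball_self hε⟩
  refine ⟨∑ t : Fin k, C (c t) * X ^ (t : ℕ), fun j => ?_⟩
  rw [Set.mem_preimage, Metric.mem_ball] at hc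
  have := (dist_le_pi_dist _ _ j).trans_lt hc
  simpa [F, Pi.map, Real.dist_eq] using this

/-- A rational polynomial positive at all roots of a separable totally real polynomial is, on these roots, a
nonnegative rational combination of squares. -/
theorem exists_sos_of_pos (m : ℕ) (r : Fin m → ℝ) (hr : Function.Injective r) (P : ℚ[X]) (hP : P.Monic)
    (hm : P.natDegree = m) (hroot : ∀ j, Polynomial.aeval (r j) P = 0) (f : ℚ[X])
    (hf : ∀ j, 0 < Polynomial.aeval (r j) f) :
    ∃ (c : Fin m → ℚ) (y : Fin m → ℚ[X]), (∀ i, 0 ≤ c i) ∧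
      ∀ j, Polynomial.aeval (r j) f = ∑ i, (c i : ℝ) * Polynomial.aeval (r j) (y i) ^ 2 := by
  classical
  rcases Nat.eq_zero_or_pos m with rfl | hm0
  · exact ⟨0, 0, fun _ => le_rfl, fun j => j.elim0⟩
  have : Nonempty (Fin m) := ⟨⟨0, hm0⟩⟩
  set x := fun j => Polynomial.aeval (r j) f
  obtain ⟨j₀, hj₀⟩ := Finite.exists_min x
  obtain ⟨j₁, hj₁⟩ := Finite.exists_max x
  let ε : ℝ := x j₀ / (4 * m * x j₁)
  have hx1 : 0 < x j₁ := hf j₁
  have hm' : (1 : ℝ) ≤ m := by exact_mod_cast hm0
  have hε : 0 < ε := by have := hf j₀; positivity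
  have hεm : (m : ℝ) * ε ≤ 1 / 4 := by
    have h1 : (m : ℝ) * ε = x j₀ / (4 * x j₁) := by simp only [ε]; field_simp
    rw [h1, div_le_iff₀ (by positivity)]
    linarith [hj₁ j₀]
  choose y hy using exists_sq_approx m r hr ε hε
  let V : Fin m → Fin m → ℝ := fun i j => Polynomial.aeval (r j) (y i) ^ 2
  have hbound : ∀ c : Fin m → ℝ, ∀ j, |(∑ i, c i * V i j) - c j| ≤ ε * ∑ i, |c i| := by
    intro c j
    have : (∑ i, c i * V i j) - c j = ∑ i, c i * (V i j - if j = i then 1 else 0) := by
      simp [mul_sub, Finset.sum_sub_distrib]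
    rw [this, Finset.mul_sum]
    refine (Finset.abs_sum_le_sum_abs _ _).trans (Finset.sum_le_sum fun i _ => ?_)
    rw [abs_mul, mul_comm ε]
    exact mul_le_mul_of_nonneg_left (hy i j).le (abs_nonneg _)
  let T : (Fin m → ℚ) →ₗ[ℚ] AdjoinRoot P :=
    Fintype.linearCombination ℚ (fun i => AdjoinRoot.mk P (y i ^ 2))
  have hev : ∀ (c : Fin m → ℚ) (j : Fin m), AdjoinRoot.liftAlgHom P (Algebra.ofId ℚ ℝ) (r j) (hroot j) (T c) = ∑ i, (c i : ℝ) * V i j := by
    intro c j
    simp only [T, Fintype.linearCombination_apply, map_sum, map_smul, V]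
    exact Finset.sum_congr rfl fun i _ => by rw [Algebra.smul_def]; simp [← Polynomial.aeval_def]
  have hTinj : Function.Injective T := by
    rw [← LinearMap.ker_eq_bot, eq_bot_iff]
    intro c hc
    have h0 : ∀ j, ∑ i, (c i : ℝ) * V i j = 0 := fun j => by rw [← hev, LinearMap.mem_ker.1 hc, map_zero]
    have h1 : ∀ j, |(c j : ℝ)| ≤ ε * ∑ i, |(c i : ℝ)| := fun j => by simpa [h0] using hbound (fun i => c i) j
    have h2 : ∑ j, |(c j : ℝ)| ≤ (m * ε) * ∑ i, |(c i : ℝ)| := by
      refine (Finset.sum_le_sum fun j _ => h1 j).trans_eq ?_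
      simp [mul_assoc]
    have h3 : ∑ j, |(c j : ℝ)| = 0 := by
      have := Finset.sum_nonneg (s := Finset.univ) fun j (_ : j ∈ Finset.univ) => abs_nonneg (c j : ℝ)
      nlinarith
    ext j
    simpa using (Finset.sum_eq_zero_iff_of_nonneg fun i _ => abs_nonneg _).1 h3 j (Finset.mem_univ _)
  have : Module.Finite ℚ (AdjoinRoot P) := hP.finite_adjoinRoot
  have hdim : Module.finrank ℚ (Fin m → ℚ) = Module.finrank ℚ (AdjoinRoot P) := by
    rw [(AdjoinRoot.powerBasis hP.ne_zero).finrank]
    simp [hm]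
  obtain ⟨c, hc⟩ := (LinearMap.injective_iff_surjective_of_finrank_eq_finrank hdim).1 hTinj (AdjoinRoot.mk P f)
  have hcx : ∀ j, ∑ i, (c i : ℝ) * V i j = x j := fun j => by
    rw [← hev, hc]; simp [x, ← Polynomial.aeval_def]
  refine ⟨c, y, fun j => ?_, fun j => (hcx j).symm⟩
  set S := ∑ i, |(c i : ℝ)|
  have h1 : ∀ j, |x j - c j| ≤ ε * S := fun j => hcx j ▸ hbound (fun i => c i) j
  have hS : S ≤ m * x j₁ + (m * ε) * S := by
    calc S ≤ ∑ j, (x j₁ + ε * S) := Finset.sum_le_sum fun j _ => by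
            have := abs_le.1 (h1 j)
            rw [abs_le]; constructor <;> linarith [hj₁ j, hf j]
      _ = _ := by simp [Finset.sum_add_distrib]; ring
  have hS0 : 0 ≤ S := Finset.sum_nonneg fun j _ => abs_nonneg _
  have h3 : ε * S ≤ x j₀ / 2 := by
    have h2 : S ≤ 2 * (m * x j₁) := by nlinarith
    calc ε * S ≤ ε * (2 * (m * x j₁)) := mul_le_mul_of_nonneg_left h2 hε.le
      _ = x j₀ / 2 := by simp only [ε]; field_simp; ring
  have := abs_le.1 (h1 j)
  have h4 : (0 : ℝ) ≤ c j := by linarith [hj₀ j, hf j₀]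
  exact_mod_cast h4

theorem sum_squares_of_trace_nonneg (hpos : ∀ x : R, x ≠ 0 → 0 < σ (x * star x)) (x : R) (hx : star x = x)
    (hnn : ∀ y ∈ Algebra.adjoin ℚ ({x} : Set R), 0 ≤ σ (y * x * y)) :
    ∃ (n : ℕ) (y : Fin n → R), (∀ i, y i ∈ Algebra.adjoin ℚ ({x} : Set R)) ∧ x = ∑ i, y i ^ 2 := by
  classical
  let A := Algebra.adjoin ℚ ({x} : Set R)
  let : CommRing A := Algebra.adjoinCommRingOfComm ℚ (by rintro _ rfl _ rfl; rfl)
  let xA : A := ⟨x, Algebra.self_mem_adjoin_singleton ℚ x⟩
  have hstarA : ∀ a ∈ A, star a = a := by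
    intro a ha
    induction ha using Algebra.adjoin_induction with
    | mem y hy => rw [Set.mem_singleton_iff.1 hy, hx]
    | algebraMap c => rw [Algebra.algebraMap_eq_smul_one, star_smul, star_one, star_trivial]
    | add a b _ _ ha hb => rw [star_add, ha, hb]
    | mul a b ha' hb' ha hb =>
      rw [star_mul, ha, hb]
      exact congrArg Subtype.val (mul_comm (⟨b, hb'⟩ : A) ⟨a, ha'⟩)
  have hsep := symm_separable_and_real σ hpos x hx
  set P := minpoly ℚ x
  have hPm : P.Monic := minpoly.monic (IsIntegral.of_finite ℚ x)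
  -- the symmetric form on `A`
  let B : LinearMap.BilinForm ℚ A := ((LinearMap.mul ℚ A).compr₂ (σ.comp A.val.toLinearMap))
  have hB : ∀ a b : A, B a b = σ ((a : R) * b) := fun _ _ => rfl
  have : Invertible (2 : ℚ) := invertibleOfNonzero two_ne_zero
  obtain ⟨v, hv⟩ := LinearMap.BilinForm.exists_orthogonal_basis (B := B) ⟨fun a b => by
    show B a b = B b a
    rw [hB, hB]
    exact congrArg σ (congrArg Subtype.val (mul_comm a b))⟩
  set d := fun i => B (v i) (v i)
  have hd : ∀ i, 0 < d i := fun i => by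
    have := hpos (v i : R) (fun h => v.ne_zero i (Subtype.ext h))
    rw [hstarA _ (v i).2] at this
    exact this
  let M := LinearMap.toMatrix v v (LinearMap.mulLeft ℚ xA)
  have hrootnn : ∀ r : ℝ, Polynomial.aeval r P = 0 → 0 ≤ r := by
    intro r hr
    have hmin : minpoly ℚ M = P := by
      have h1 : minpoly ℚ (LinearMap.mulLeft ℚ xA) = minpoly ℚ xA :=
        minpoly.algHom_eq (Algebra.lmul ℚ A) Algebra.lmul_injective xA
      have h2 : minpoly ℚ M = minpoly ℚ (LinearMap.mulLeft ℚ xA) :=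
        minpoly.algHom_eq (LinearMap.toMatrixAlgEquiv v).toAlgHom (LinearMap.toMatrixAlgEquiv v).injective _
      exact h2.trans (h1.trans (minpoly.algHom_eq A.val Subtype.val_injective xA).symm)
    obtain ⟨w, hw0, hw⟩ := exists_eigenvector (algebraMap ℚ ℝ) M r (by rw [hmin]; exact hr)
    let q : (Fin _ → ℝ) → ℝ := fun c => ∑ i, (d i : ℝ) * c i * ((M.map (algebraMap ℚ ℝ)) *ᵥ c) i
    have hq : ∀ c : Fin _ → ℝ, 0 ≤ q c := by
      have hqc : Continuous q := by simp only [q, Matrix.mulVec, dotProduct]; fun_prop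
      have hdr : DenseRange (Pi.map fun _ : Fin (Module.finrank ℚ A) => fun t : ℚ => (t : ℝ)) :=
        DenseRange.piMap fun _ => Rat.denseRange_cast
      intro c
      refine hdr.induction_on (p := fun c => 0 ≤ q c) c (isClosed_le continuous_const hqc) fun c => ?_
      have hcast : q (Pi.map (fun _ => fun t : ℚ => (t : ℝ)) c) = ((∑ i, d i * c i * (M *ᵥ c) i : ℚ) : ℝ) := by
        simp [q, Pi.map, Matrix.mulVec, dotProduct]
      rw [hcast]
      let a : A := ∑ i, c i • v i
      have hMc : ∀ i, (M *ᵥ c) i = v.repr (xA * a) i := fun i => by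
        have h := LinearMap.toMatrix_mulVec_repr v v (LinearMap.mulLeft ℚ xA) a
        rw [show ⇑(v.repr a) = c from v.repr_sum_self c] at h
        exact congrFun h i
      have hBv : ∀ b i, B b (v i) = v.repr b i * d i := by
        intro b i
        conv_lhs => rw [← v.sum_repr b, map_sum, LinearMap.sum_apply]
        rw [Finset.sum_eq_single i (fun j _ hj => by simp [map_smul, hv hj]) (by simp)]
        simp [d]
      have hsum : ∑ i, d i * c i * (M *ᵥ c) i = B (xA * a) a := by
        conv_rhs => arg 2; rw [show a = ∑ i, c i • v i from rfl]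
        rw [map_sum]
        exact Finset.sum_congr rfl fun i _ => by rw [map_smul, hBv, hMc, smul_eq_mul]; ring
      rw [hsum, hB]
      have := hnn (a : R) a.2
      have e : (a : R) * x * a = ((xA * a : A) : R) * a := congrArg (fun t : A => (t : R) * a) (mul_comm a xA)
      rw [e] at this
      exact_mod_cast this
    have h1 : q w = r * ∑ i, (d i : ℝ) * w i ^ 2 := by
      simp only [q, hw, Finset.mul_sum]
      exact Finset.sum_congr rfl fun i _ => by simp; ring
    obtain ⟨i, hi⟩ := Function.ne_iff.1 hw0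
    have h2 : 0 < ∑ i, (d i : ℝ) * w i ^ 2 :=
      Finset.sum_pos' (fun j _ => mul_nonneg (by exact_mod_cast (hd j).le) (sq_nonneg _))
        ⟨i, Finset.mem_univ _, mul_pos (by exact_mod_cast hd i) (lt_of_le_of_ne (sq_nonneg _) (Ne.symm (pow_ne_zero 2 hi)))⟩
    have := hq w
    rw [h1] at this
    exact nonneg_of_mul_nonneg_left this h2
  -- real roots
  have hcard : (P.aroots ℝ).card = P.natDegree ∧ (P.aroots ℝ).Nodup := by
    refine ⟨?_, Polynomial.nodup_roots hsep.1.map⟩
    have hC : (P.map (algebraMap ℚ ℂ)).roots.card = P.natDegree := by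
      rw [IsAlgClosed.card_roots_eq_natDegree, Polynomial.natDegree_map]
    have hnd : (P.map (algebraMap ℚ ℂ)).roots.Nodup := Polynomial.nodup_roots hsep.1.map
    refine le_antisymm ((Polynomial.card_roots' _).trans_eq (Polynomial.natDegree_map _)) ?_
    rw [← hC, ← Multiset.card_map Complex.ofReal (P.aroots ℝ)]
    refine Multiset.card_le_card ((Multiset.le_iff_subset hnd).2 fun z hz => Multiset.mem_map.2 ?_)
    have hz' : Polynomial.aeval z P = 0 := (Polynomial.mem_aroots.1 hz).2
    have him := hsep.2 z hz'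
    have hzr : z = (z.re : ℂ) := Complex.ext (by simp) (by simp [him])
    refine ⟨z.re, Polynomial.mem_aroots.2 ⟨hPm.ne_zero, ?_⟩, hzr.symm⟩
    rw [hzr] at hz'
    exact Complex.ofReal_injective (by
      rw [Complex.ofReal_zero, ← Complex.coe_algebraMap, ← Polynomial.aeval_algebraMap_apply]; exact hz')
  let s := (P.aroots ℝ).toFinset
  have hs : s.card = P.natDegree := (Multiset.toFinset_card_of_nodup hcard.2).trans hcard.1
  let r : Fin P.natDegree → ℝ := fun j => (s.equivFinOfCardEq hs).symm j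
  have hr : Function.Injective r := Subtype.val_injective.comp (Equiv.injective _)
  have hrroot : ∀ j, Polynomial.aeval (r j) P = 0 := fun j =>
    (Polynomial.mem_aroots.1 (Multiset.mem_toFinset.1 ((s.equivFinOfCardEq hs).symm j).2)).2
  have hrall : ∀ t, Polynomial.aeval t P = 0 → ∃ j, r j = t := fun t ht =>
    ⟨s.equivFinOfCardEq hs ⟨t, Multiset.mem_toFinset.2 (Polynomial.mem_aroots.2 ⟨hPm.ne_zero, ht⟩)⟩, by simp [r]⟩
  -- a polynomial equal to `1` at the nonzero roots and to `0` at a zero root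
  obtain ⟨g, hg0, hg1⟩ : ∃ g : ℚ[X], Polynomial.eval 0 g * (if P.eval 0 = 0 then 1 else 0) = 0 ∧
      ∀ t : ℝ, Polynomial.aeval t P = 0 → t ≠ 0 → Polynomial.aeval t g = 1 := by
    by_cases h : P.eval 0 = 0
    · obtain ⟨Q, hQ⟩ : X ∣ P := Polynomial.X_dvd_iff.2 (by rwa [Polynomial.coeff_zero_eq_eval_zero])
      have hcop : IsCoprime X Q := (hQ ▸ hsep.1).isCoprime
      obtain ⟨a, b, hab⟩ := hcop
      refine ⟨a * X, by simp, fun t ht ht0 => ?_⟩
      have hQt : Polynomial.aeval t Q = 0 := by
        rw [hQ, map_mul, Polynomial.aeval_X] at ht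
        exact (mul_eq_zero.1 ht).resolve_left ht0
      have := congrArg (Polynomial.aeval t) hab
      simpa [hQt] using this
    · exact ⟨1, by simp [h], fun t _ _ => by simp⟩
  have hgz : ∀ t : ℝ, Polynomial.aeval t P = 0 → t = 0 → Polynomial.aeval t g = 0 := by
    rintro t ht rfl
    rw [Polynomial.aeval_def, Polynomial.eval₂_at_zero, map_eq_zero] at ht ⊢
    rw [Polynomial.coeff_zero_eq_eval_zero] at ht ⊢
    simpa [ht] using hg0
  obtain ⟨c, y, hc, hcy⟩ := exists_sos_of_pos _ r hr P hPm rfl hrroot (X + (1 - g)) fun j => by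
    rw [map_add, map_sub, Polynomial.aeval_X, map_one]
    rcases (hrootnn _ (hrroot j)).eq_or_lt with h | h
    · rw [hgz _ (hrroot j) h.symm, ← h]; norm_num
    · rw [hg1 _ (hrroot j) h.ne']; linarith
  let D : ℚ[X] := X - ∑ i, C (c i) * (g * y i) ^ 2
  have hD : P ∣ D := by
    rw [← Polynomial.map_dvd_map' (algebraMap ℚ ℝ)]
    have hs' : P.map (algebraMap ℚ ℝ) = (P.aroots ℝ |>.map fun a => X - C a).prod :=
      (Polynomial.prod_multiset_X_sub_C_of_monic_of_roots_card_eq (hPm.map _)
        (by rw [Polynomial.natDegree_map]; exact hcard.1)).symm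
    rcases eq_or_ne (D.map (algebraMap ℚ ℝ)) 0 with h | h
    · rw [h]; exact dvd_zero _
    rw [hs', Multiset.prod_X_sub_C_dvd_iff_le_roots h, Multiset.le_iff_subset hcard.2]
    intro t ht
    have htP := (Polynomial.mem_aroots.1 ht).2
    obtain ⟨j, rfl⟩ := hrall t htP
    rw [Polynomial.mem_roots h, Polynomial.IsRoot.def, Polynomial.eval_map, ← Polynomial.aeval_def]
    have h3 := hcy j
    simp only [map_add, map_sub, Polynomial.aeval_X, map_one] at h3
    simp only [D, map_sub, Polynomial.aeval_X, map_sum, map_mul, map_pow, Polynomial.aeval_C, mul_pow]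
    rcases eq_or_ne (r j) 0 with h0 | h0
    · simp [h0, hgz 0 (h0 ▸ htP) rfl]
    · rw [hg1 _ htP h0] at h3 ⊢
      simp only [sub_self, add_zero] at h3
      rw [sub_eq_zero]
      conv_lhs => rw [h3]
      simp
  have hxeq : x = ∑ i, (c i) • (Polynomial.aeval x (g * y i)) ^ 2 := by
    obtain ⟨q, hq⟩ := hD
    have h4 := congrArg (Polynomial.aeval x) hq
    rw [map_mul, minpoly.aeval, zero_mul] at h4
    simp only [D, map_sub, Polynomial.aeval_X, map_sum, sub_eq_zero] at h4
    refine h4.trans (Finset.sum_congr rfl fun i _ => ?_)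
    rw [Algebra.smul_def, map_mul, Polynomial.aeval_C, map_pow]
  let ι := Σ i : Fin P.natDegree, Fin ((c i).num.toNat * (c i).den)
  let z : ι → R := fun p => ((c p.1).den : ℚ)⁻¹ • Polynomial.aeval x (g * y p.1)
  refine ⟨Fintype.card ι, fun k => z ((Fintype.equivFin ι).symm k), fun k => ?_, ?_⟩
  · exact Subalgebra.smul_mem _ (Polynomial.aeval_mem_adjoin_singleton ℚ x) _
  · rw [Equiv.sum_comp (Fintype.equivFin ι).symm (fun p => z p ^ 2), Fintype.sum_sigma]
    refine hxeq.trans (Finset.sum_congr rfl fun i _ => ?_)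
    simp only [z, smul_pow, Finset.sum_const, Finset.card_univ, Fintype.card_fin, ← Nat.cast_smul_eq_nsmul ℚ, smul_smul]
    congr 1
    have hn : (((c i).num.toNat : ℕ) : ℚ) = ((c i).num : ℚ) := by
      rw [← Int.cast_natCast, Int.toNat_of_nonneg (Rat.num_nonneg.2 (hc i))]
    rw [Nat.cast_mul, hn]
    conv_lhs => rw [← Rat.num_div_den (c i)]
    field_simp

end Groth.Agent.AbVarLib
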