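import Groth.Agent.AbVarLib.HomDim
import Groth.Agent.AbVarLib.GeomIntegralSmooth
import Groth.Agent.FlatMor12.FibreFlat

/-!
# Fibrewise criteria for homomorphisms of group schemes
-/

universe u

open CategoryTheory CategoryTheory.Limits AlgebraicGeometry MonObj

namespace Groth.Agent.AbVarLib

variable {S : Scheme.{u}} {X Y : Over S} (f : X ⟶ Y)

/-- the point of `S`, with source typed as `Spec (of κ(s))` -/
noncomputable abbrev fibPt (s : S) : Spec (CommRingCat.of (S.residueField s)) ⟶ S := S.fromSpecResidueField s

/-- the fibre of an object over `S` -/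
noncomputable abbrev fib (Z : Over S) (s : S) : Over (Spec (CommRingCat.of (S.residueField s))) :=
  (Over.pullback (fibPt s)).obj Z

noncomputable instance (Z : Over S) [GrpObj Z] (s : S) : GrpObj (fib Z s) := Functor.grpObjObj

instance (Z : Over S) [IsProper Z.hom] (s : S) : IsProper (fib Z s).hom :=
  inferInstanceAs (IsProper (pullback.snd _ _))

instance (Z : Over S) [GeometricallyIntegral Z.hom] (s : S) : GeometricallyIntegral (fib Z s).hom :=
  inferInstanceAs (GeometricallyIntegral (pullback.snd _ _))

/-- the fibre of a morphism over `S` -/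
noncomputable abbrev fibreMap (s : S) : fib X s ⟶ fib Y s :=
  (Over.pullback (fibPt s)).map f

theorem isProper_left' [IsProper X.hom] [IsSeparated Y.hom] : IsProper f.left := by
  have : IsProper (f.left ≫ Y.hom) := by rw [Over.w f]; infer_instance
  exact MorphismProperty.of_postcomp (W := @IsProper) (W' := @IsSeparated) f.left Y.hom inferInstance this

theorem exists_fibre_point (Z : Over S) (z : Z.left) :
    ∃ z' : ↥((Over.pullback (S.fromSpecResidueField (Z.hom z))).obj Z).left,
      pullback.fst Z.hom (S.fromSpecResidueField (Z.hom z)) z' = z :=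
  ⟨Z.hom.asFiber z, Z.hom.fiberι_asFiber z⟩

theorem surjective_of_fibreMap (h : ∀ s, Surjective (fibreMap f s).left) : Surjective f.left := by
  refine ⟨fun y => ?_⟩
  obtain ⟨y', hy'⟩ := exists_fibre_point Y y
  obtain ⟨x', hx'⟩ := (h (Y.hom y)).surj y'
  refine ⟨pullback.fst X.hom (S.fromSpecResidueField (Y.hom y)) x', ?_⟩
  rw [← Scheme.Hom.comp_apply, (isPullback_pullback_map _ f).w, Scheme.Hom.comp_apply, hx', hy']

theorem surjective_fibreMap [Surjective f.left] (s : S) : Surjective (fibreMap f s).left :=
  MorphismProperty.of_isPullback (isPullback_pullback_map _ f) inferInstance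

theorem flat_of_fibreMap [LocallyOfFinitePresentation X.hom] [LocallyOfFinitePresentation Y.hom] [Flat X.hom]
    (h : ∀ s, Flat (fibreMap f s).left) : Flat f.left := by
  have : LocallyOfFinitePresentation (f.left ≫ Y.hom) := by rw [Over.w f]; infer_instance
  have : Flat (f.left ≫ Y.hom) := by rw [Over.w f]; infer_instance
  refine FlatMor12.flat_of_fibres f.left Y.hom fun s => ?_
  have hP := isPullback_pullback_map (S.fromSpecResidueField s) f
  have := h s
  have e : hP.isoPullback.inv ≫ (fibreMap f s).left = pullback.snd f.left (Y.hom.fiberι s) :=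
    hP.isoPullback_inv_snd
  rw [← e]
  exact MorphismProperty.RespectsIso.precomp (P := @Flat) hP.isoPullback.inv (fibreMap f s).left (h s)

theorem flat_fibreMap [Flat f.left] (s : S) : Flat (fibreMap f s).left :=
  MorphismProperty.of_isPullback (isPullback_pullback_map _ f) inferInstance

theorem locallyQuasiFinite_of_fibreMap [LocallyOfFiniteType f.left] [QuasiCompact f.left]
    (h : ∀ s, LocallyQuasiFinite (fibreMap f s).left) : LocallyQuasiFinite f.left := by
  rw [locallyQuasiFinite_iff_finite_preimage_singleton]
  intro y
  obtain ⟨y', hy'⟩ := exists_fibre_point Y y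
  have hP := isPullback_pullback_map (S.fromSpecResidueField (Y.hom y)) f
  have : QuasiCompact (fibreMap f (Y.hom y)).left := MorphismProperty.of_isPullback hP inferInstance
  have := h (Y.hom y)
  refine (((fibreMap f (Y.hom y)).left.finite_preimage_singleton y').image
    (pullback.fst X.hom (S.fromSpecResidueField (Y.hom y)))).subset fun x hx => ?_
  have hs : X.hom x = Y.hom y := by
    rw [← Over.w f, Scheme.Hom.comp_apply, Set.mem_singleton_iff.1 hx]
  obtain ⟨x', hx'⟩ : x ∈ Set.range (pullback.fst X.hom (S.fromSpecResidueField (Y.hom y))) :=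
    (X.hom.range_fiberι (Y.hom y)).ge hs
  refine ⟨x', ?_, hx'⟩
  apply (Y.hom.fiberι (Y.hom y)).isEmbedding.injective
  show pullback.fst Y.hom (S.fromSpecResidueField (Y.hom y)) ((fibreMap f (Y.hom y)).left x') = pullback.fst Y.hom (S.fromSpecResidueField (Y.hom y)) y'
  rw [← Scheme.Hom.comp_apply, ← hP.w, Scheme.Hom.comp_apply, hx', hy']
  exact hx

theorem locallyQuasiFinite_fibreMap [LocallyQuasiFinite f.left] (s : S) : LocallyQuasiFinite (fibreMap f s).left :=
  MorphismProperty.of_isPullback (isPullback_pullback_map _ f) inferInstance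

theorem isFinite_fibreMap [IsFinite f.left] (s : S) : IsFinite (fibreMap f s).left :=
  MorphismProperty.of_isPullback (isPullback_pullback_map _ f) inferInstance

end Groth.Agent.AbVarLib
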