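import Groth.Agent.NeronLib.ProjLine
import Groth.Agent.NeronLib.Dedekind
import Groth.Agent.AbSchLib.RigidityOver
import Groth.Agent.AbSchLib.SmoothReduced
import Mathlib.AlgebraicGeometry.SpreadingOut
import Mathlib.AlgebraicGeometry.FunctionField

/-!
# Morphisms from affine spaces to abelian varieties are constant

The morphism `(x, y) ↦ f (x · y)` on `A¹ × Aⁿ` extends to `P¹ × Aⁿ` (Weil) and contracts `P¹ × {0}`, so by
rigidity it does not depend on `x`; putting `x = 0, 1` shows that `f` is constant.
-/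

set_option autoImplicit false
set_option backward.isDefEq.respectTransparency.types false

universe u

open CategoryTheory CategoryTheory.Limits MonoidalCategory CartesianMonoidalCategory AlgebraicGeometry MonObj
  TopologicalSpace MvPolynomial
open scoped TensorProduct

namespace Groth.Agent.AbVarLib.AffineConstant

variable {k : Type u} [Field k]

/-- Spectra of algebras as schemes over `Spec k`. -/
noncomputable abbrev sp (B : Type u) [CommRing B] [Algebra k B] : Over (Spec (CommRingCat.of k)) :=
  Over.mk (Spec.map (CommRingCat.ofHom (algebraMap k B)))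

theorem specMap_alg {B C : Type u} [CommRing B] [Algebra k B] [CommRing C] [Algebra k C] (φ : B →ₐ[k] C) :
    Spec.map (CommRingCat.ofHom φ.toRingHom) ≫ Spec.map (CommRingCat.ofHom (algebraMap k B)) =
      Spec.map (CommRingCat.ofHom (algebraMap k C)) :=
  (Spec.map_comp _ _).symm.trans (congrArg Spec.map (CommRingCat.hom_ext (RingHom.ext fun x => φ.commutes x)))

/-- The morphism of an algebra map. -/
noncomputable abbrev spMap {B C : Type u} [CommRing B] [Algebra k B] [CommRing C] [Algebra k C] (φ : B →ₐ[k] C) :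
    sp (k := k) C ⟶ sp B :=
  Over.homMk (Spec.map (CommRingCat.ofHom φ.toRingHom)) (specMap_alg φ)

theorem spMap_comp {B C D : Type u} [CommRing B] [Algebra k B] [CommRing C] [Algebra k C] [CommRing D] [Algebra k D]
    (φ : B →ₐ[k] C) (ψ : C →ₐ[k] D) : spMap ψ ≫ spMap φ = spMap (ψ.comp φ) :=
  Over.OverMorphism.ext (Spec.map_comp _ _).symm

theorem spMap_id (B : Type u) [CommRing B] [Algebra k B] : spMap (AlgHom.id k B) = 𝟙 (sp B) :=
  Over.OverMorphism.ext (Spec.map_id _)

/-- The structure morphism. -/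
theorem toUnit_sp (B : Type u) [CommRing B] [Algebra k B] {W : Over (Spec (CommRingCat.of k))}
    (w : 𝟙_ (Over (Spec (CommRingCat.of k))) ⟶ W) :
    (toUnit (sp (k := k) B) ≫ w).left = Spec.map (CommRingCat.ofHom (algebraMap k B)) ≫ w.left := by
  rw [Over.comp_left, Over.toUnit_left]; rfl

/-- The product of two spectra is the spectrum of the tensor product. -/
noncomputable def prodMap {B C D : Type u} [CommRing B] [Algebra k B] [CommRing C] [Algebra k C] [CommRing D]
    [Algebra k D] (φ : D →ₐ[k] B ⊗[k] C) : sp (k := k) B ⊗ sp C ⟶ sp D :=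
  Over.homMk ((pullbackSpecIso k B C).hom ≫ Spec.map (CommRingCat.ofHom φ.toRingHom)) (by
    show ((pullbackSpecIso k B C).hom ≫ Spec.map _) ≫ Spec.map _ =
      pullback.fst (Spec.map (CommRingCat.ofHom (algebraMap k B))) (Spec.map (CommRingCat.ofHom (algebraMap k C))) ≫
        Spec.map (CommRingCat.ofHom (algebraMap k B))
    rw [Category.assoc, specMap_alg, ← pullbackSpecIso_hom_fst, Category.assoc, ← Spec.map_comp]
    rfl)

theorem lift_prodMap {B C D E : Type u} [CommRing B] [Algebra k B] [CommRing C] [Algebra k C] [CommRing D]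
    [Algebra k D] [CommRing E] [Algebra k E] (φ : D →ₐ[k] B ⊗[k] C) (b : B →ₐ[k] E) (c : C →ₐ[k] E) :
    lift (spMap b) (spMap c) ≫ prodMap φ =
      spMap ((Algebra.TensorProduct.lift b c fun _ _ => Commute.all _ _).comp φ) := by
  refine Over.OverMorphism.ext ?_
  have h : (lift (spMap b) (spMap c)).left ≫ (pullbackSpecIso k B C).hom =
      Spec.map (CommRingCat.ofHom (Algebra.TensorProduct.lift b c fun _ _ => Commute.all _ _).toRingHom) := by
    rw [← Iso.eq_comp_inv]
    refine pullback.hom_ext ?_ ?_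
    · erw [Category.assoc, pullbackSpecIso_inv_fst, ← Spec.map_comp]
      show (lift (spMap b) (spMap c)).left ≫ (fst (sp (k := k) B) (sp C)).left = _
      rw [← Over.comp_left, lift_fst]
      refine congrArg Spec.map (CommRingCat.hom_ext (RingHom.ext fun x => ?_))
      exact (Algebra.TensorProduct.lift_tmul b c (fun _ _ => Commute.all _ _) x 1).trans (by simp) |>.symm
    · erw [Category.assoc, pullbackSpecIso_inv_snd, ← Spec.map_comp]
      show (lift (spMap b) (spMap c)).left ≫ (snd (sp (k := k) B) (sp C)).left = _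
      rw [← Over.comp_left, lift_snd]
      refine congrArg Spec.map (CommRingCat.hom_ext (RingHom.ext fun x => ?_))
      exact (Algebra.TensorProduct.lift_tmul b c (fun _ _ => Commute.all _ _) 1 x).trans (by simp) |>.symm
  show (lift (spMap b) (spMap c)).left ≫ (pullbackSpecIso k B C).hom ≫ Spec.map _ = Spec.map _
  rw [← Category.assoc, h, ← Spec.map_comp, ← CommRingCat.ofHom_comp]
  rfl

variable (k)

/-- The projective line over `k`. -/
noncomputable abbrev P1 : Over (Spec (CommRingCat.of k)) := Over.mk (CohB1.ProjSpace.toSpec 1 k)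

/-- The affine line in the projective line. -/
noncomputable abbrev jLine : sp (k := k) (MvPolynomial PUnit.{u + 1} k) ⟶ P1 k :=
  Over.homMk (NeronLib.chart k 1) (NeronLib.chart_toSpec k 1)

theorem smooth_sp (B : Type u) [CommRing B] [Algebra k B] [Algebra.Smooth k B] :
    Smooth (sp (k := k) B).hom := by
  show Smooth (Spec.map _)
  rw [HasRingHomProperty.Spec_iff (P := @Smooth)]
  show (algebraMap k B).Smooth
  rwa [RingHom.smooth_algebraMap]

theorem geometricallyIrreducible_sp (σ : Type) : GeometricallyIrreducible (sp (k := k) (MvPolynomial σ k)).hom := by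
  have h : GeometricallyIrreducible ((AffineSpace.SpecIso (ULift.{u} σ) (CommRingCat.of k)).inv ≫
      𝔸(ULift.{u} σ; Spec (CommRingCat.of k)) ↘ Spec (CommRingCat.of k)) :=
    (MorphismProperty.cancel_left_of_respectsIso @GeometricallyIrreducible _ _).2 inferInstance
  rw [AffineSpace.SpecIso_inv_over] at h
  let e := MvPolynomial.renameEquiv k (Equiv.ulift.{u, 0} (α := σ))
  haveI : IsIso (CommRingCat.ofHom e.toAlgHom.toRingHom) :=
    (ConcreteCategory.isIso_iff_bijective _).mpr e.bijective
  show GeometricallyIrreducible (Spec.map _)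
  rw [← specMap_alg e.toAlgHom]
  exact (MorphismProperty.cancel_left_of_respectsIso @GeometricallyIrreducible _ _).2 h

variable {k}

variable {A : Over (Spec (CommRingCat.of k))} [GrpObj A] [IsProper A.hom]

/-- The origin of affine space. -/
noncomputable abbrev origin (σ : Type) : 𝟙_ (Over (Spec (CommRingCat.of k))) ⟶ sp (k := k) (MvPolynomial σ k) :=
  Over.homMk (Spec.map (CommRingCat.ofHom (aeval fun _ : σ => (0 : k)).toRingHom)) (by
    exact (specMap_alg _).trans (Spec.map_id _))

theorem toUnit_origin (σ : Type) (B : Type u) [CommRing B] [Algebra k B] :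
    toUnit (sp (k := k) B) ≫ origin σ = spMap ((Algebra.ofId k B).comp (aeval fun _ : σ => (0 : k))) := by
  refine Over.OverMorphism.ext ((toUnit_sp B (origin σ)).trans ?_)
  show Spec.map _ ≫ Spec.map _ = Spec.map _
  rw [← Spec.map_comp, ← CommRingCat.ofHom_comp]
  rfl

/-- A rational point of the projective line. -/
noncomputable abbrev linePt (c : k) : 𝟙_ (Over (Spec (CommRingCat.of k))) ⟶ sp (k := k) (MvPolynomial PUnit.{u + 1} k) :=
  Over.homMk (Spec.map (CommRingCat.ofHom (aeval fun _ : PUnit.{u + 1} => c).toRingHom)) (by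
    exact (specMap_alg _).trans (Spec.map_id _))

theorem toUnit_linePt (c : k) (B : Type u) [CommRing B] [Algebra k B] :
    toUnit (sp (k := k) B) ≫ linePt c = spMap ((Algebra.ofId k B).comp (aeval fun _ : PUnit.{u + 1} => c)) := by
  refine Over.OverMorphism.ext ((toUnit_sp B (linePt c)).trans ?_)
  show Spec.map _ ≫ Spec.map _ = Spec.map _
  rw [← Spec.map_comp, ← CommRingCat.ofHom_comp]
  rfl

/-- **A morphism from affine space to an abelian variety is constant.** -/
theorem eq_const (σ : Type) [Finite σ] (f : sp (k := k) (MvPolynomial σ k) ⟶ A) :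
    f = toUnit _ ≫ origin σ ≫ f := by
  let L : Over (Spec (CommRingCat.of k)) := sp (MvPolynomial PUnit.{u + 1} k)
  let W : Over (Spec (CommRingCat.of k)) := sp (MvPolynomial σ k)
  let P : Over (Spec (CommRingCat.of k)) := P1 k
  let μm : MvPolynomial σ k →ₐ[k] MvPolynomial PUnit.{u + 1} k ⊗[k] MvPolynomial σ k :=
    aeval fun i => X PUnit.unit ⊗ₜ[k] X i
  let m : L ⊗ W ⟶ W := prodMap μm
  let j : L ⟶ P := jLine k
  haveI : GeometricallyIrreducible W.hom := geometricallyIrreducible_sp k σ
  haveI : GeometricallyConnected W.hom := AbSchLib.geometricallyConnected_of_irreducible W.hom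
  haveI : Algebra.Smooth k (MvPolynomial σ k) := ⟨inferInstance, inferInstance⟩
  haveI : Smooth W.hom := smooth_sp k (MvPolynomial σ k)
  haveI : Smooth P.hom := NeronLib.smooth_projLine k
  haveI : IsProper P.hom := NeronLib.isProper_projLine k
  haveI : GeometricallyIrreducible P.hom := NeronLib.geometricallyIrreducible_projLine k
  haveI : GeometricallyConnected P.hom := AbSchLib.geometricallyConnected_of_irreducible P.hom
  haveI : GeometricallyReduced P.hom := AbSchLib.geometricallyReduced_of_smooth P.hom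
  haveI : IsOpenImmersion (j ▷ W).left := by
    have h1 : (j ▷ W).left ≫ (snd P W).left = (snd L W).left := by rw [← Over.comp_left, whiskerRight_snd]
    have h2 : j.left ≫ P.hom = L.hom := Over.w j
    have e : IsPullback (fst L W).left (j ▷ W).left j.left (fst P W).left := by
      refine IsPullback.of_bot (v₂₁ := (snd P W).left) (v₂₂ := P.hom) (h₃₁ := W.hom) ?_ ?_
        (IsPullback.of_hasPullback P.hom W.hom)
      · rw [h1, h2]
        exact IsPullback.of_hasPullback L.hom W.hom
      · rw [← Over.comp_left, ← Over.comp_left, whiskerRight_fst]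
    exact MorphismProperty.of_isPullback e (inferInstanceAs (IsOpenImmersion (NeronLib.chart k 1)))
  haveI : Smooth (P ⊗ W).hom := inferInstanceAs (Smooth (pullback.fst P.hom W.hom ≫ P.hom))
  haveI : IrreducibleSpace W.left := inferInstanceAs (IrreducibleSpace (PrimeSpectrum (MvPolynomial σ k)))
  haveI : IrreducibleSpace (P ⊗ W).left := by
    haveI : Smooth (pullback.snd P.hom W.hom) := inferInstance
    exact GeometricallyIrreducible.irreducibleSpace (pullback.snd P.hom W.hom) (pullback.snd P.hom W.hom).isOpenMap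
  let U : (P ⊗ W).left.Opens := (j ▷ W).left.opensRange
  have hne : Nonempty U := ⟨⟨(lift (linePt (1 : k)) (origin σ) ≫ (j ▷ W)).left (IsLocalRing.closedPoint k), by
    rw [Over.comp_left, Scheme.Hom.comp_apply]; exact ⟨_, rfl⟩⟩⟩
  haveI : GrpObj (Over.mk A.hom) := ‹GrpObj A›
  obtain ⟨G, ⟨hG, hGU⟩, -⟩ := NeronLib.weil_extension_dedekind (P ⊗ W).hom A.hom U
    (U.isOpen.dense (Set.nonempty_coe_sort.1 hne))
    ((j ▷ W).left.isoOpensRange.inv ≫ (m ≫ f).left) (by
      rw [Category.assoc, Over.w (m ≫ f), Iso.inv_comp_eq, ← Category.assoc, Scheme.Hom.isoOpensRange_hom_ι, Over.w])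
  let d : P ⊗ W ⟶ A := Over.homMk G hG
  have hd : (j ▷ W) ≫ d = m ≫ f := by
    refine Over.OverMorphism.ext ?_
    show (j ▷ W).left ≫ G = (m ≫ f).left
    rw [← Scheme.Hom.isoOpensRange_hom_ι (j ▷ W).left, Category.assoc, hGU, Iso.hom_inv_id_assoc]
  have hpt : ∀ c : k, lift (toUnit W ≫ linePt c ≫ j) (𝟙 W) ≫ d =
      spMap ((aeval fun i => c • (X i : MvPolynomial σ k))) ≫ f := fun c => by
    have h1 : lift (toUnit W ≫ linePt c ≫ j) (𝟙 W) = lift (toUnit W ≫ linePt c) (𝟙 W) ≫ (j ▷ W) := by
      rw [lift_whiskerRight, Category.assoc]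
    rw [h1, Category.assoc, hd, ← Category.assoc, toUnit_linePt, ← spMap_id, lift_prodMap]
    congr 2
    refine MvPolynomial.algHom_ext fun i => ?_
    simp [μm, Algebra.smul_def]
  haveI : IsDominant j.left :=
    haveI : IrreducibleSpace ↥(CohB1.ProjSpace 1 k) :=
      GeometricallyIrreducible.irreducibleSpace_of_subsingleton P.hom
    ⟨(NeronLib.chart k 1).isOpenEmbedding.isOpen_range.dense ⟨_, ⟨(linePt (1 : k)).left (IsLocalRing.closedPoint k), rfl⟩⟩⟩
  have haxis : lift (𝟙 P) (toUnit P ≫ origin σ) ≫ d = toUnit P ≫ (origin σ ≫ f) := by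
    refine Over.OverMorphism.ext ?_
    haveI : IsReduced P.left := AbSchLib.isReduced_of_smooth P.hom
    refine ext_of_isDominant_of_isSeparated A.hom ?_ j.left ?_
    · rw [Over.w, Over.w]
    show (j ≫ lift (𝟙 P) (toUnit P ≫ origin σ) ≫ d).left = (j ≫ toUnit P ≫ origin σ ≫ f).left
    refine congrArg CommaMorphism.left ?_
    have h0 : j ≫ lift (𝟙 P) (toUnit P ≫ origin σ) = lift j (toUnit L ≫ origin σ) := by
      rw [comp_lift, Category.comp_id, ← Category.assoc, toUnit_unique (j ≫ toUnit P) (toUnit L)]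
    refine ((Category.assoc _ _ _).symm.trans (congrArg (· ≫ d) h0)).trans ?_
    refine Eq.trans ?_ ((congrArg (· ≫ origin σ ≫ f) (toUnit_unique (toUnit L) (j ≫ toUnit P))).trans (Category.assoc _ _ _))
    have h1 : lift j (toUnit L ≫ origin σ) = lift (𝟙 L) (toUnit L ≫ origin σ) ≫ (j ▷ W) := by
      rw [lift_whiskerRight, Category.id_comp]
    rw [h1]
    refine (Category.assoc _ _ _).trans ?_
    rw [hd]
    refine (Category.assoc _ _ _).symm.trans ((congrArg (· ≫ f) ?_).trans (Category.assoc _ _ _))
    show lift (𝟙 L) (toUnit L ≫ origin σ) ≫ m = toUnit L ≫ origin σ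
    rw [toUnit_origin, ← spMap_id, lift_prodMap]
    congr 1
    refine MvPolynomial.algHom_ext fun i => ?_
    simp [μm]
  have key := AbSchLib.eq_snd_comp_of_axis P W A (linePt (1 : k) ≫ j) (origin σ) (origin σ ≫ f) d haxis
  have h10 : lift (toUnit W ≫ linePt (0 : k) ≫ j) (𝟙 W) ≫ d = lift (toUnit W ≫ linePt (1 : k) ≫ j) (𝟙 W) ≫ d := by
    conv_lhs => rw [key]
    rw [lift_snd_assoc, Category.id_comp]
  rw [hpt, hpt] at h10
  have e1 : (aeval fun i => (1 : k) • (X i : MvPolynomial σ k)) = AlgHom.id k (MvPolynomial σ k) :=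
    MvPolynomial.algHom_ext fun i => by simp
  have e0 : (aeval fun i => (0 : k) • (X i : MvPolynomial σ k)) =
      (Algebra.ofId k (MvPolynomial σ k)).comp (aeval fun _ : σ => (0 : k)) :=
    MvPolynomial.algHom_ext fun i => by simp
  rw [e1, e0, spMap_id, Category.id_comp, ← toUnit_origin, Category.assoc] at h10
  exact h10.symm

omit [GrpObj A] in
/-- A point with values in the fraction field of an integral affine scheme spreads out to an open subset. -/
theorem exists_spread (R : CommRingCat.{u}) [IsDomain R] (c : CommRingCat.of k ⟶ R) (K : Type u) [Field K]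
    [Algebra R K] [IsFractionRing R K] (x : Spec (CommRingCat.of K) ⟶ A.left)
    (hx : x ≫ A.hom = Spec.map (CommRingCat.ofHom (algebraMap R K)) ≫ Spec.map c) :
    ∃ (U : (Spec R).Opens) (_ : (U : Set ↥(Spec R)).Nonempty) (f : U.toScheme ⟶ A.left),
      f ≫ A.hom = U.ι ≫ Spec.map c ∧
        ∀ g : Spec R ⟶ A.left, U.ι ≫ g = f → x = Spec.map (CommRingCat.ofHom (algebraMap R K)) ≫ g := by
  let η₀ : ↥(Spec R) := genericPoint (Spec R)
  let e : (Spec R).functionField ≃ₐ[R] K := IsLocalization.algEquiv (nonZeroDivisors R) _ _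
  let φ : Spec ((Spec R).presheaf.stalk η₀) ⟶ A.left := Spec.map (CommRingCat.ofHom e.symm.toRingEquiv.toRingHom) ≫ x
  have hstalk : (Spec R).fromSpecStalk η₀ = Spec.map (CommRingCat.ofHom (algebraMap R (Spec R).functionField)) :=
    (Spec.fromSpecStalk_eq' R η₀).trans rfl
  have hφ : φ ≫ A.hom = (Spec R).fromSpecStalk η₀ ≫ Spec.map c := by
    rw [hstalk]
    refine (Category.assoc _ _ _).trans ((congrArg (_ ≫ ·) hx).trans ?_)
    refine (Category.assoc _ _ _).symm.trans (congrArg (· ≫ Spec.map c) ?_)
    refine (Spec.map_comp _ _).symm.trans (congrArg Spec.map ?_)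
    exact CommRingCat.hom_ext (RingHom.ext fun r => e.symm.commutes r)
  obtain ⟨U, hηU, f, hf, hfA⟩ := spread_out_of_isGermInjective' (Spec.map c) A.hom φ hφ
  refine ⟨U, ⟨η₀, hηU⟩, f, hfA, fun g hgU => ?_⟩
  have h1 : Spec.map (CommRingCat.ofHom e.toRingEquiv.toRingHom) ≫ φ = x := by
    refine (Category.assoc _ _ _).symm.trans ((congrArg (· ≫ x) ?_).trans (Category.id_comp _))
    refine (Spec.map_comp _ _).symm.trans (Eq.trans (congrArg Spec.map ?_) (Spec.map_id _))
    exact CommRingCat.hom_ext (RingHom.ext fun z => e.apply_symm_apply z)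
  refine h1.symm.trans ?_
  rw [hf, ← hgU, Scheme.Opens.fromSpecStalkOfMem_ι_assoc, hstalk]
  refine (Category.assoc _ _ _).symm.trans (congrArg (· ≫ g) ?_)
  refine (Spec.map_comp _ _).symm.trans (congrArg Spec.map (CommRingCat.hom_ext (RingHom.ext fun z => ?_)))
  exact e.commutes z

/-- Points with values in a rational function field are rational. -/
theorem exists_eq_toUnit_comp (σ : Type) [Finite σ] (K : Type u) [Field K] [Algebra k K]
    [Algebra (MvPolynomial σ k) K] [IsFractionRing (MvPolynomial σ k) K] [IsScalarTower k (MvPolynomial σ k) K]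
    (x : sp (k := k) K ⟶ A) : ∃ a : 𝟙_ (Over (Spec (CommRingCat.of k))) ⟶ A, x = toUnit _ ≫ a := by
  let W : Over (Spec (CommRingCat.of k)) := sp (MvPolynomial σ k)
  haveI : Algebra.Smooth k (MvPolynomial σ k) := ⟨inferInstance, inferInstance⟩
  haveI : Smooth W.hom := smooth_sp k (MvPolynomial σ k)
  obtain ⟨U, hU, f, hfA, huniv⟩ := exists_spread (A := A) (CommRingCat.of (MvPolynomial σ k))
    (CommRingCat.ofHom (algebraMap k (MvPolynomial σ k))) K x.left (by
      refine (Over.w x).trans ?_
      refine (congrArg Spec.map ?_).trans (Spec.map_comp _ _)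
      exact CommRingCat.hom_ext (IsScalarTower.algebraMap_eq k (MvPolynomial σ k) K))
  haveI : GrpObj (Over.mk A.hom) := ‹GrpObj A›
  haveI : IrreducibleSpace W.left := inferInstanceAs (IrreducibleSpace (PrimeSpectrum (MvPolynomial σ k)))
  obtain ⟨g, ⟨hg, hgU⟩, -⟩ := NeronLib.weil_extension_dedekind W.hom A.hom U (U.isOpen.dense hU) f hfA
  let G : W ⟶ A := Over.homMk g hg
  refine ⟨origin σ ≫ G, ?_⟩
  have hx : x = spMap (IsScalarTower.toAlgHom k (MvPolynomial σ k) K) ≫ G :=
    Over.OverMorphism.ext (huniv g hgU)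
  rw [hx, eq_const σ G, ← Category.assoc, toUnit_unique (spMap _ ≫ toUnit _) (toUnit _)]
  rw [← eq_const σ G]

end Groth.Agent.AbVarLib.AffineConstant
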