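import Groth.Agent.CubeLib.OpenLocus
import Groth.Agent.CubeLib.FibreRankLoci
import Groth.Agent.AbDualLib.Basic
import Groth.Agent.PicLib.FlatTriv
import Groth.Agent.AbSchLib.ConnectedFibres
import Groth.Agent.AbSchLib.RigidityOver
import Mathlib.AlgebraicGeometry.Sites.Fpqc

/-!
# Theorem of the cube with a connected locally Noetherian parameter

A class on `(X × Y) × T` trivial on `{x₀} × Y × T`, on `X × {y₀} × T` and on one fibre over `T` is trivial:
the set of trivial fibres is closed by semicontinuity and, triviality spreading from closed points of affine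
pieces, open.
-/

set_option autoImplicit false
set_option linter.style.haveILetI false
set_option backward.isDefEq.respectTransparency.types false

universe u

open CategoryTheory CategoryTheory.Limits AlgebraicGeometry MonoidalCategory CartesianMonoidalCategory
  TopologicalSpace
open Groth.Agent.PicLib Groth.Agent.AmpleLib Groth.Agent.CubeLib

namespace Groth.Agent.AbVarLib

variable {k : Type u} [Field k] {X Y T : Over (Spec (CommRingCat.of k))}
  [IsProper X.hom] [IsProper Y.hom] [GeometricallyIntegral X.hom] [GeometricallyIntegral Y.hom]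
  [GeometricallyIntegral (X ⊗ Y).hom] [IsLocallyNoetherian T.left]

/-- The projection to the parameter. -/
noncomputable abbrev paramProj (X Y T : Over (Spec (CommRingCat.of k))) : ((X ⊗ Y) ⊗ T).left ⟶ T.left :=
  (snd (X ⊗ Y) T).left

omit [GeometricallyIntegral X.hom] [GeometricallyIntegral Y.hom] [IsLocallyNoetherian T.left] in
theorem paramProj_props : IsProper (paramProj X Y T) ∧ Flat (paramProj X Y T) ∧
    LocallyOfFinitePresentation (paramProj X Y T) ∧ GeometricallyIntegral (paramProj X Y T) := by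
  haveI : IsProper (X ⊗ Y).hom := by
    show IsProper (pullback.fst X.hom Y.hom ≫ X.hom)
    infer_instance
  exact ⟨inferInstanceAs (IsProper (pullback.snd (X ⊗ Y).hom T.hom)),
    inferInstanceAs (Flat (pullback.snd (X ⊗ Y).hom T.hom)),
    inferInstanceAs (LocallyOfFinitePresentation (pullback.snd (X ⊗ Y).hom T.hom)),
    inferInstanceAs (GeometricallyIntegral (pullback.snd (X ⊗ Y).hom T.hom))⟩

/-- Near a point with trivial fibre the class is trivial. -/
theorem exists_open_trivial (x₀ : 𝟙_ (Over (Spec (CommRingCat.of k))) ⟶ X) (y₀ : 𝟙_ (Over (Spec (CommRingCat.of k))) ⟶ Y)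
    (a : PicM ((X ⊗ Y) ⊗ T).left)
    (hx : PicM.pull (lift (lift (toUnit (Y ⊗ T) ≫ x₀) (fst Y T)) (snd Y T)).left a = 1)
    (hy : PicM.pull (lift (lift (fst X T) (toUnit (X ⊗ T) ≫ y₀)) (snd X T)).left a = 1)
    (hcl : IsClosed {t : T.left | PicM.pull ((paramProj X Y T).fiberι t) a = 1})
    (t : T.left) (ht : PicM.pull ((paramProj X Y T).fiberι t) a = 1) :
    ∃ (U : Scheme.{u}) (u : U ⟶ T.left) (_ : IsOpenImmersion u), t ∈ Set.range u ∧
      PicM.pull (pullback.fst (paramProj X Y T) u) a = 1 := by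
  obtain ⟨_, ⟨V, hV, rfl⟩, htV, -⟩ :=
    T.left.isBasis_affineOpens.exists_subset_of_mem_open (Set.mem_univ t) isOpen_univ
  replace hV : IsAffineOpen V := hV
  let B : Type u := Γ(T.left, V)
  haveI : IsNoetherianRing B := IsLocallyNoetherian.component_noetherian ⟨V, hV⟩
  let p : PrimeSpectrum B := hV.primeIdealOf ⟨t, htV⟩
  obtain ⟨I, hI, hpI⟩ := Ideal.exists_le_maximal p.asIdeal p.2.ne_top
  haveI := hI
  let qI : PrimeSpectrum B := ⟨I, hI.isPrime⟩
  let t' : T.left := hV.fromSpec qI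
  have hspec : t ⤳ t' := by
    rw [show t = hV.fromSpec p from (hV.fromSpec_primeIdealOf ⟨t, htV⟩).symm]
    exact ((PrimeSpectrum.le_iff_specializes p qI).1 hpI).map hV.fromSpec.continuous
  have ht' : PicM.pull ((paramProj X Y T).fiberι t') a = 1 :=
    hspec.mem_closed hcl (show t ∈ {z : T.left | PicM.pull ((paramProj X Y T).fiberι z) a = 1} from ht)
  let s : Spec (CommRingCat.of B) ⟶ Spec (CommRingCat.of k) := hV.fromSpec ≫ T.hom
  let j : Over.mk s ⟶ T := Over.homMk hV.fromSpec rfl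
  let rB : X ⊗ (Y ⊗ Over.mk s) ⟶ (X ⊗ Y) ⊗ T :=
    lift (lift (fst X (Y ⊗ Over.mk s)) (snd X (Y ⊗ Over.mk s) ≫ fst Y (Over.mk s)))
      (snd X (Y ⊗ Over.mk s) ≫ snd Y (Over.mk s) ≫ j)
  obtain ⟨L, hL, hLb⟩ := PicM.exists_eq_of (PicM.pull rB.left a)
  haveI := AbSchLib.geometricallyConnected_of_irreducible X.hom
  haveI := AbSchLib.geometricallyConnected_of_irreducible Y.hom
  have hX := AbSchLib.bijective_appTop_of_field k X.hom
  have hY := AbSchLib.bijective_appTop_of_field k Y.hom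
  have hbx : PicM.pull (lift (toUnit (Y ⊗ Over.mk s) ≫ x₀) (𝟙 (Y ⊗ Over.mk s))).left (PicM.of hL) = 1 := by
    have h := congrArg (PicM.pull (Y ◁ j).left) hx
    rw [map_one, PicM.pull_pull, ← Over.comp_left] at h
    rw [← hLb, PicM.pull_pull, ← Over.comp_left]
    refine Eq.trans ?_ h
    congr 3
    ext1
    · ext1 <;> simp [rB, comp_lift]
    · simp [rB, comp_lift]
  have hby : PicM.pull (X ◁ lift (toUnit (Over.mk s) ≫ y₀) (𝟙 (Over.mk s))).left (PicM.of hL) = 1 := by
    have h := congrArg (PicM.pull (X ◁ j).left) hy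
    rw [map_one, PicM.pull_pull, ← Over.comp_left] at h
    rw [← hLb, PicM.pull_pull, ← Over.comp_left]
    refine Eq.trans ?_ h
    congr 3
    ext1
    · ext1 <;> simp [rB, comp_lift]
    · simp [rB, comp_lift]
  have hb0 : PicM.pull (X ◁ (Y ◁ nbhdIncl B I s 0)).left (PicM.of hL) = 1 := by
    rw [← hLb, PicM.pull_pull, ← Over.comp_left]
    let m : X ⊗ (Y ⊗ nbhd B I s 0) ⟶ (X ⊗ Y) ⊗ T := (X ◁ (Y ◁ nbhdIncl B I s 0)) ≫ rB
    let ν : Spec (CommRingCat.of (B ⧸ I ^ (0 + 1))) ⟶ T.left :=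
      Spec.map (CommRingCat.ofHom (Ideal.Quotient.mk (I ^ (0 + 1)))) ≫ hV.fromSpec
    have hmax : (I ^ (0 + 1)).IsMaximal := by rw [zero_add, pow_one]; exact hI
    letI : Field (B ⧸ I ^ (0 + 1)) := @Ideal.Quotient.field B _ _ hmax
    have hν : ∀ z, ν z = t' := fun z => by
      show hV.fromSpec (PrimeSpectrum.comap (Ideal.Quotient.mk (I ^ (0 + 1))) z) = hV.fromSpec qI
      congr 1
      refine PrimeSpectrum.ext ?_
      have hle : I ^ (0 + 1) ≤ (PrimeSpectrum.comap (Ideal.Quotient.mk (I ^ (0 + 1))) z).asIdeal := fun x hx => by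
        show Ideal.Quotient.mk (I ^ (0 + 1)) x ∈ z.asIdeal
        rw [Ideal.Quotient.eq_zero_iff_mem.2 hx]
        exact zero_mem _
      exact (hI.eq_of_le (PrimeSpectrum.comap (Ideal.Quotient.mk (I ^ (0 + 1))) z).2.ne_top
        (by simpa using hle)).symm
    obtain ⟨q, hq⟩ : ∃ q : Spec (CommRingCat.of (B ⧸ I ^ (0 + 1))) ⟶ Spec (T.left.residueField t'),
        q ≫ T.left.fromSpecResidueField t' = ν := by
      let e := Scheme.SpecToEquivOfField (B ⧸ I ^ (0 + 1)) T.left
      obtain ⟨z, φ, hzφ⟩ : ∃ (z : T.left) (φ : T.left.residueField z ⟶ CommRingCat.of (B ⧸ I ^ (0 + 1))),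
          Spec.map φ ≫ T.left.fromSpecResidueField z = ν := ⟨(e ν).1, (e ν).2, e.left_inv ν⟩
      obtain rfl : z = t' := by
        rw [← hν (IsLocalRing.closedPoint _), ← hzφ, Scheme.Hom.comp_apply, Scheme.fromSpecResidueField_apply]
      exact ⟨_, hzφ⟩
    let pr : (X ⊗ (Y ⊗ nbhd B I s 0)).left ⟶ Spec (CommRingCat.of (B ⧸ I ^ (0 + 1))) :=
      (snd X (Y ⊗ nbhd B I s 0) ≫ snd Y (nbhd B I s 0)).left
    have hm : m.left ≫ paramProj X Y T = (pr ≫ q) ≫ T.left.fromSpecResidueField t' := by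
      rw [Category.assoc, hq, paramProj, ← Over.comp_left]
      have e : m ≫ snd (X ⊗ Y) T = (snd X (Y ⊗ nbhd B I s 0) ≫ snd Y (nbhd B I s 0)) ≫ nbhdIncl B I s 0 ≫ j := by
        simp [m, rB, Category.assoc]
      rw [e]
      rfl
    have hfac : pullback.lift m.left (pr ≫ q) hm ≫ (paramProj X Y T).fiberι t' = m.left := pullback.lift_fst _ _ _
    rw [show (X ◁ (Y ◁ nbhdIncl B I s 0)) ≫ rB = m from rfl, ← hfac, ← PicM.pull_pull]
    exact (congrArg _ ht').trans (map_one _)
  obtain ⟨W, hW, gen, hgen⟩ := exists_isGen_near B I s hX hY x₀ y₀ hL hb0 hbx hby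
  refine ⟨W.toScheme, W.ι ≫ hV.fromSpec, inferInstance, ?_, ?_⟩
  · have hpW : p ∈ W := ((PrimeSpectrum.le_iff_specializes p qI).1 hpI).mem_open W.2 hW
    exact ⟨⟨p, hpW⟩, hV.fromSpec_primeIdealOf ⟨t, htV⟩⟩
  · let u := W.ι ≫ hV.fromSpec
    let P : Over (Spec (CommRingCat.of k)) := Over.mk (pullback.fst (paramProj X Y T) u ≫ ((X ⊗ Y) ⊗ T).hom)
    let π₁ : P ⟶ (X ⊗ Y) ⊗ T := Over.homMk (pullback.fst (paramProj X Y T) u) rfl
    let π₂ : P ⟶ Over.mk s := Over.homMk (pullback.snd (paramProj X Y T) u ≫ W.ι) (by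
      show (pullback.snd (paramProj X Y T) u ≫ W.ι) ≫ hV.fromSpec ≫ T.hom =
        pullback.fst (paramProj X Y T) u ≫ ((X ⊗ Y) ⊗ T).hom
      rw [← Over.w (snd (X ⊗ Y) T), ← Category.assoc, ← Category.assoc, Category.assoc _ W.ι, ← pullback.condition])
    let l : P ⟶ X ⊗ (Y ⊗ Over.mk s) :=
      lift (π₁ ≫ fst _ _ ≫ fst X Y) (lift (π₁ ≫ fst _ _ ≫ snd X Y) π₂)
    have hl2 : π₂ ≫ j = π₁ ≫ snd (X ⊗ Y) T := by
      refine Over.OverMorphism.ext ?_
      show (pullback.snd (paramProj X Y T) u ≫ W.ι) ≫ hV.fromSpec = pullback.fst _ _ ≫ paramProj X Y T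
      rw [Category.assoc, pullback.condition]
    have hl : l ≫ rB = π₁ := by
      ext1
      · ext1 <;> simp [l, rB, Category.assoc]
      · simp [l, rB, Category.assoc, hl2]
    show PicM.pull π₁.left a = 1
    rw [← hl, Over.comp_left, ← PicM.pull_pull, hLb]
    refine pull_eq_one_of_isGen l.left hL hgen (top_le_iff.1 fun z _ => ?_)
    have e : l ≫ toBase (X := X) (Y := Y) B s = π₂ := by simp [l, toBase]
    show (toBase (X := X) (Y := Y) B s).left (l.left z) ∈ W
    rw [← Scheme.Hom.comp_apply, ← Over.comp_left, e]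
    exact (pullback.snd (paramProj X Y T) u z).2

/-- **Cube with a connected parameter.** -/
theorem eq_one_of_axes_of_fibre [ConnectedSpace T.left]
    (x₀ : 𝟙_ (Over (Spec (CommRingCat.of k))) ⟶ X) (y₀ : 𝟙_ (Over (Spec (CommRingCat.of k))) ⟶ Y)
    (a : PicM ((X ⊗ Y) ⊗ T).left)
    (hx : PicM.pull (lift (lift (toUnit (Y ⊗ T) ≫ x₀) (fst Y T)) (snd Y T)).left a = 1)
    (hy : PicM.pull (lift (lift (fst X T) (toUnit (X ⊗ T) ≫ y₀)) (snd X T)).left a = 1)
    (t₀ : T.left) (ht₀ : PicM.pull ((paramProj X Y T).fiberι t₀) a = 1) : a = 1 := by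
  obtain ⟨hproper, hflat, hlfp, hgi⟩ := paramProj_props (X := X) (Y := Y) (T := T)
  have hcl : IsClosed {t : T.left | PicM.pull ((paramProj X Y T).fiberι t) a = 1} := by
    obtain ⟨M, hM, hMa⟩ := PicM.exists_eq_of a
    subst hMa
    haveI : IsLocallyNoetherian ((X ⊗ Y) ⊗ T).left := LocallyOfFiniteType.isLocallyNoetherian (paramProj X Y T)
    exact CubeLib.isClosed_setOf_trivial_fibre (paramProj X Y T) (fun y => inferInstance) hM
  have hloc := exists_open_trivial x₀ y₀ a hx hy hcl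
  have hfib : ∀ {U : Scheme.{u}} (u : U ⟶ T.left), PicM.pull (pullback.fst (paramProj X Y T) u) a = 1 →
      ∀ z ∈ Set.range u, ∀ [IsOpenImmersion u], PicM.pull ((paramProj X Y T).fiberι z) a = 1 := by
    intro U u hu z hz _
    have hr : Set.range (T.left.fromSpecResidueField z) ⊆ Set.range u := by
      rw [Scheme.range_fromSpecResidueField, Set.singleton_subset_iff]
      exact hz
    let w := IsOpenImmersion.lift u (T.left.fromSpecResidueField z) hr
    have hw : w ≫ u = T.left.fromSpecResidueField z := IsOpenImmersion.lift_fac _ _ _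
    let L : (paramProj X Y T).fiber z ⟶ pullback (paramProj X Y T) u :=
      pullback.lift ((paramProj X Y T).fiberι z) ((paramProj X Y T).fiberToSpecResidueField z ≫ w) (by
        rw [Category.assoc, hw]; exact pullback.condition)
    rw [← show L ≫ pullback.fst _ _ = (paramProj X Y T).fiberι z from pullback.lift_fst _ _ _, ← PicM.pull_pull, hu,
      map_one]
  have huniv : {t : T.left | PicM.pull ((paramProj X Y T).fiberι t) a = 1} = Set.univ := by
    refine (isClopen_iff.1 ⟨hcl, isOpen_iff_forall_mem_open.2 fun t ht => ?_⟩).resolve_left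
      (Set.nonempty_iff_ne_empty.1 ⟨t₀, ht₀⟩)
    obtain ⟨U, u, hu, htu, hua⟩ := hloc t ht
    exact ⟨Set.range u, fun z hz => hfib u hua z hz, u.isOpenEmbedding.isOpen_range, htu⟩
  choose U u hu htu hua using fun t => hloc t (huniv.ge (Set.mem_univ t))
  haveI := AbSchLib.geometricallyConnected_of_irreducible (paramProj X Y T)
  have hR : Presieve.ofArrows U u ∈ Scheme.fppfPrecoverage T.left := by
    refine (Scheme.ofArrows_mem_precoverage_iff _).2 ⟨fun x => ⟨x, htu x⟩, fun i => ?_⟩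
    haveI := hu i
    exact ⟨inferInstance, inferInstance⟩
  let e : T ⟶ (X ⊗ Y) ⊗ T := lift (toUnit T ≫ lift x₀ y₀) (𝟙 T)
  have he : e.left ≫ paramProj X Y T = 𝟙 T.left := by
    rw [← Over.comp_left, lift_snd, Over.id_left]
  have hQ := AbDualLib.eq_pull_of_trivial_on_cover (paramProj X Y T) e.left he hR a (fun V v hv => by
    cases hv with
    | mk i => exact hua i)
  rw [hQ]
  have h1 := congrArg (PicM.pull (lift (toUnit T ≫ y₀) (𝟙 T)).left) hx
  rw [map_one, PicM.pull_pull, ← Over.comp_left] at h1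
  have e2 : lift (toUnit T ≫ y₀) (𝟙 T) ≫ lift (lift (toUnit (Y ⊗ T) ≫ x₀) (fst Y T)) (snd Y T) = e := by
    ext1
    · ext1 <;> simp [e]
    · simp [e]
  rw [e2] at h1
  rw [h1, map_one]

end Groth.Agent.AbVarLib
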