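import Groth.Agent.AlgGrpLib.OrbitDim
import Groth.Agent.AbVarLib.GeomIntegralSmooth
import Mathlib.AlgebraicGeometry.Group.Abelian

/-!
# A curve disjoint from a prime divisor on an abelian variety

If a prime divisor `Δ` of an abelian variety misses an irreducible closed set `C`, then it is invariant
under translation by differences of rational points of `C`.  The set `E = Δ - C` is closed and misses
the origin, each translate `Δ - c` is a component of it, and the component does not depend on `c`.
-/

universe u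

open CategoryTheory Limits AlgebraicGeometry MonoidalCategory CartesianMonoidalCategory MonObj GrpObj
  TopologicalSpace

namespace Groth.Agent.AbVarLib

variable {k : Type u} [Field k] {A : Over (Spec (CommRingCat.of k))} [GrpObj A]

/-- Right translation by a rational point. -/
noncomputable def rightTransl (b : 𝟙_ (Over (Spec (CommRingCat.of k))) ⟶ A) : A ⟶ A :=
  𝟙 A * (toUnit A ≫ b)

theorem comp_rightTransl (x b : 𝟙_ (Over (Spec (CommRingCat.of k))) ⟶ A) : x ≫ rightTransl b = x * b := by
  rw [rightTransl, MonObj.comp_mul, Category.comp_id, ← Category.assoc,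
    toUnit_unique (x ≫ toUnit A) (𝟙 _), Category.id_comp]

theorem rightTransl_comp (a b : 𝟙_ (Over (Spec (CommRingCat.of k))) ⟶ A) :
    rightTransl a ≫ rightTransl b = rightTransl (a * b) := by
  rw [rightTransl, rightTransl, MonObj.comp_mul, Category.comp_id, ← Category.assoc,
    toUnit_unique ((𝟙 A * (toUnit A ≫ a)) ≫ toUnit A) (toUnit A), rightTransl, MonObj.comp_mul,
    _root_.mul_assoc]

theorem rightTransl_one : rightTransl (1 : 𝟙_ (Over (Spec (CommRingCat.of k))) ⟶ A) = 𝟙 A := by
  rw [rightTransl, MonObj.comp_one, _root_.mul_one]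

theorem rightTransl_cancel (a : 𝟙_ (Over (Spec (CommRingCat.of k))) ⟶ A) (z : A.left) :
    (rightTransl a).left.base ((rightTransl a⁻¹).left.base z) = z := by
  have h : rightTransl a⁻¹ ≫ rightTransl a = 𝟙 A := by
    rw [rightTransl_comp, inv_mul_cancel, rightTransl_one]
  have h' := congrArg (fun f : A ⟶ A => f.left.base z) h
  simpa using h'

theorem isIso_rightTransl (a : 𝟙_ (Over (Spec (CommRingCat.of k))) ⟶ A) : IsIso (rightTransl a).left := by
  have : IsIso (rightTransl a) := ⟨rightTransl a⁻¹, by rw [rightTransl_comp, mul_inv_cancel, rightTransl_one],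
    by rw [rightTransl_comp, inv_mul_cancel, rightTransl_one]⟩
  exact (Over.forget _).map_isIso (rightTransl a)

variable [IsAlgClosed k]

/-- A closed set containing the rational points of a closed set contains it. -/
theorem subset_of_ratPoints [LocallyOfFiniteType A.hom] {Z T : Set A.left} (hZ : IsClosed Z) (hT : IsClosed T)
    (h : ∀ d : 𝟙_ (Over (Spec (CommRingCat.of k))) ⟶ A, (∀ t, d.left.base t ∈ Z) →
      d.left.base (IsLocalRing.closedPoint k) ∈ T) : Z ⊆ T := by
  intro z hz
  by_contra hzT
  obtain ⟨d, hd⟩ := AlgGrpLib.OrbitDim.exists_ratPoint_mem (X := A) (S := Z ∩ Tᶜ)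
    (hZ.isLocallyClosed.inter hT.isOpen_compl.isLocallyClosed) ⟨z, hz, hzT⟩
  exact (hd _).2 (h d fun t => (hd t).1)

/-- Rational points with the same image coincide. -/
theorem ratPoint_ext [LocallyOfFiniteType A.hom] (d e : 𝟙_ (Over (Spec (CommRingCat.of k))) ⟶ A)
    (h : d.left.base (IsLocalRing.closedPoint k) = e.left.base (IsLocalRing.closedPoint k)) : d = e :=
  Over.OverMorphism.ext (congrArg Subtype.val
    ((pointEquivClosedPoint A.hom).injective (a₁ := ⟨d.left, Over.w d⟩) (a₂ := ⟨e.left, Over.w e⟩)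
      (Subtype.ext h)))

theorem translate_eq_of_disjoint [IsProper A.hom] [GeometricallyIntegral A.hom]
    (ξ : A.left) (hcodim : ringKrullDim (A.left.presheaf.stalk ξ) = 1)
    (C : Set A.left) (hC : IsClosed C) (hCirr : IsIrreducible C) (hdisj : Disjoint C (closure {ξ}))
    (x y : 𝟙_ (Over (Spec (CommRingCat.of k))) ⟶ A)
    (hx : x.left.base (IsLocalRing.closedPoint k) ∈ C) (hy : y.left.base (IsLocalRing.closedPoint k) ∈ C) :
    (rightTransl x⁻¹).left.base ξ = (rightTransl y⁻¹).left.base ξ := by
  classical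
  let pt : Spec (CommRingCat.of k) := IsLocalRing.closedPoint k
  have hsub : ∀ t : Spec (CommRingCat.of k), t = pt := fun t =>
    @Subsingleton.elim _ (inferInstanceAs (Subsingleton (PrimeSpectrum k))) _ _
  haveI : IsProper (A ⊗ A).hom := by
    show IsProper (pullback.fst A.hom A.hom ≫ A.hom)
    infer_instance
  let D : A ⊗ A ⟶ A := fst A A * (snd A A)⁻¹
  haveI : IsProper (D.left ≫ A.hom) := by rw [Over.w]; infer_instance
  haveI : IsProper D.left := IsProper.of_comp D.left A.hom
  haveI := LocallyOfFiniteType.isLocallyNoetherian A.hom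
  haveI : CompactSpace A.left := QuasiCompact.compactSpace_of_compactSpace A.hom
  haveI : IsNoetherian A.left := {}
  haveI : IsIntegral A.left := GeometricallyIntegral.isIntegral_of_subsingleton A.hom
  let Δ : Set A.left := closure {ξ}
  have hΔ : IsClosed Δ := isClosed_closure
  let S : Set (A ⊗ A).left := (fst A A).left.base ⁻¹' Δ ∩ (snd A A).left.base ⁻¹' C
  have hS : IsClosed S := (hΔ.preimage (fst A A).left.continuous).inter (hC.preimage (snd A A).left.continuous)
  let E : Set A.left := D.left.base '' S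
  have hE : IsClosed E := D.left.isClosedMap _ hS
  have hη : (η[A]).left.base pt ∉ E := by
    rintro ⟨w, hwS, hw⟩
    have hc1 : IsClosed ({(η[A]).left.base pt} : Set A.left) :=
      ((pointEquivClosedPoint A.hom) ⟨(η[A]).left, Over.w η[A]⟩).2
    obtain ⟨e, he⟩ := AlgGrpLib.OrbitDim.exists_ratPoint_mem (X := A ⊗ A)
      (S := S ∩ D.left.base ⁻¹' {(η[A]).left.base pt}) (hS.inter (hc1.preimage D.left.continuous)).isLocallyClosed
      ⟨w, hwS, hw⟩
    have h1 : e ≫ (fst A A * (snd A A)⁻¹) = η[A] := ratPoint_ext (A := A) _ _ (he pt).2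
    have hone : η[A] = (1 : 𝟙_ (Over (Spec (CommRingCat.of k))) ⟶ A) := by
      rw [MonObj.one_eq_one]
    rw [MonObj.comp_mul, GrpObj.comp_inv, hone, mul_inv_eq_one] at h1
    have hd : (e ≫ fst A A).left.base pt ∈ Δ := (he pt).1.1
    have hc : (e ≫ snd A A).left.base pt ∈ C := (he pt).1.2
    rw [h1] at hd
    exact Set.disjoint_left.1 hdisj hc hd
  -- translates of the divisor inside `E`
  have hmem : ∀ c : 𝟙_ (Over (Spec (CommRingCat.of k))) ⟶ A, c.left.base pt ∈ C →
      ∀ z ∈ Δ, (rightTransl c⁻¹).left.base z ∈ E := fun c hc z hz => by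
    refine ⟨(lift (𝟙 A) (toUnit A ≫ c)).left.base z, ⟨?_, ?_⟩, ?_⟩
    · show (lift (𝟙 A) (toUnit A ≫ c) ≫ fst A A).left.base z ∈ Δ
      rwa [lift_fst]
    · show (lift (𝟙 A) (toUnit A ≫ c) ≫ snd A A).left.base z ∈ C
      rw [lift_snd]
      show c.left.base ((toUnit A).left.base z) ∈ C
      rw [show (toUnit A).left.base z = pt from hsub _]
      exact hc
    · show (lift (𝟙 A) (toUnit A ≫ c) ≫ (fst A A * (snd A A)⁻¹)).left.base z = _
      rw [MonObj.comp_mul, GrpObj.comp_inv, lift_fst, lift_snd, rightTransl, GrpObj.comp_inv]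
  obtain ⟨𝓕, h𝓕, hcl, hirr, hEU⟩ := NoetherianSpace.exists_finite_set_isClosed_irreducible hE
  -- the point of `C` attached to a component
  let u (d : 𝟙_ (Over (Spec (CommRingCat.of k))) ⟶ A) : A ⟶ A := (toUnit A ≫ d) * (𝟙 A)⁻¹
  let W (F : Set A.left) : Set A.left :=
    ⋂ (d : 𝟙_ (Over (Spec (CommRingCat.of k))) ⟶ A) (_ : ∀ t, d.left.base t ∈ Δ), (u d).left.base ⁻¹' F
  have hW : ∀ F ∈ 𝓕, IsClosed (W F) := fun F hF =>
    isClosed_iInter fun d => isClosed_iInter fun _ => (hcl F hF).preimage (u d).left.continuous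
  have hu : ∀ c d : 𝟙_ (Over (Spec (CommRingCat.of k))) ⟶ A,
      (u d).left.base (c.left.base pt) = (rightTransl c⁻¹).left.base (d.left.base pt) := fun c d => by
    show (c ≫ ((toUnit A ≫ d) * (𝟙 A)⁻¹)).left.base pt = (d ≫ rightTransl c⁻¹).left.base pt
    rw [comp_rightTransl, MonObj.comp_mul, GrpObj.comp_inv, Category.comp_id, ← Category.assoc,
      toUnit_unique (c ≫ toUnit A) (𝟙 _), Category.id_comp]
  -- a component containing a translate is that translate
  have hkey : ∀ F ∈ 𝓕, ∀ c : 𝟙_ (Over (Spec (CommRingCat.of k))) ⟶ A,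
      (rightTransl c⁻¹).left.base ξ ∈ F → IsGenericPoint ((rightTransl c⁻¹).left.base ξ) F := by
    intro F hF c hξF
    obtain ⟨e, he⟩ := QuasiSober.sober (hirr F hF) (hcl F hF)
    suffices (rightTransl c⁻¹).left.base ξ = e by rw [this]; exact he
    by_contra hne
    have h1 : e ⤳ (rightTransl c⁻¹).left.base ξ := he.specializes hξF
    have h2 : genericPoint A.left ⤳ e := (genericPoint_spec A.left).specializes trivial
    have hne2 : e ≠ genericPoint A.left := fun h => by
      apply hη
      rw [hEU]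
      refine ⟨F, hF, ?_⟩
      rw [← he.def, h]
      exact ((genericPoint_spec A.left).specializes (y := (η[A]).left.base pt) trivial).mem_closure
    have hlt1 : (rightTransl c⁻¹).left.base ξ < e :=
      lt_of_le_not_ge (Scheme.le_iff_specializes.2 h1)
        fun h => hne ((Scheme.le_iff_specializes.1 h).antisymm h1).eq
    have hlt2 : e < genericPoint A.left :=
      lt_of_le_not_ge (Scheme.le_iff_specializes.2 h2)
        fun h => hne2 ((Scheme.le_iff_specializes.1 h).antisymm h2).eq
    have hge : (2 : ℕ∞) ≤ Order.coheight ((rightTransl c⁻¹).left.base ξ) :=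
      calc (2 : ℕ∞) = 0 + 1 + 1 := by norm_num
        _ ≤ Order.coheight (genericPoint A.left) + 1 + 1 := by gcongr; exact zero_le
        _ ≤ Order.coheight e + 1 := by gcongr; exact Order.coheight_add_one_le hlt2
        _ ≤ _ := Order.coheight_add_one_le hlt1
    have := isIso_rightTransl c⁻¹
    have heq : Order.coheight ((rightTransl c⁻¹).left.base ξ) = Order.coheight ξ :=
      coheight_eq_of_isOpenImmersion (rightTransl c⁻¹).left
    rw [ringKrullDim_stalk_eq_coheight] at hcodim
    have h1' : Order.coheight ξ = 1 := by exact_mod_cast hcodim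
    rw [heq, h1'] at hge
    exact absurd hge (by norm_num)
  -- the sets `W F` cover `C`
  have hcover : C ⊆ ⋃₀ (W '' 𝓕) := by
    refine subset_of_ratPoints hC ((h𝓕.image W).isClosed_biUnion (f := id) (fun s hs => ?_) |> fun h => by
      rwa [Set.sUnion_eq_biUnion]) fun c hc => ?_
    · obtain ⟨F, hF, rfl⟩ := hs
      exact hW F hF
    · have := hmem c (hc pt) ξ (subset_closure rfl)
      rw [hEU] at this
      obtain ⟨F, hF, hξF⟩ := this
      refine ⟨W F, ⟨F, hF, rfl⟩, Set.mem_iInter₂.2 fun d hd => ?_⟩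
      show (u d).left.base (c.left.base pt) ∈ F
      rw [hu]
      exact (hcl F hF).closure_subset_iff.2 (Set.singleton_subset_iff.2 hξF)
        (((specializes_iff_mem_closure.2 (hd pt)).map (rightTransl c⁻¹).left.continuous).mem_closure)
  obtain ⟨_, hmemW, hCW⟩ := isIrreducible_iff_sUnion_isClosed.1 hCirr (h𝓕.image W).toFinset
    (fun s hs => by
      obtain ⟨F, hF, rfl⟩ := (h𝓕.image W).mem_toFinset.1 hs
      exact hW F hF)
    (by rw [Set.Finite.coe_toFinset]; exact hcover)
  obtain ⟨F, hF, rfl⟩ := (h𝓕.image W).mem_toFinset.1 hmemW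
  have hin : ∀ c : 𝟙_ (Over (Spec (CommRingCat.of k))) ⟶ A, c.left.base pt ∈ C →
      (rightTransl c⁻¹).left.base ξ ∈ F := fun c hc => by
    refine subset_of_ratPoints hΔ ((hcl F hF).preimage (rightTransl c⁻¹).left.continuous) (fun d hd => ?_)
      (subset_closure rfl)
    show (rightTransl c⁻¹).left.base (d.left.base pt) ∈ F
    rw [← hu]
    exact Set.mem_iInter₂.1 (hCW hc) d hd
  exact (hkey F hF x (hin x hx)).eq (hkey F hF y (hin y hy))

end Groth.Agent.AbVarLib
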