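import Groth.Agent.AlgGrpLib.TangentVector
import Groth.Agent.AbVarLib.KernelTorsor
import Groth.Agent.VarietyLib.SmoothStalk
import Groth.Agent.FiniteEt.Trace
import Mathlib.Algebra.Module.SpanRank

/-!
# Tangent vectors of one-dimensional group schemes and non-étale isogenies

A finite flat surjective homomorphism which is not étale kills a nonzero tangent vector at the origin
(over an algebraically closed field); on a smooth group curve any two tangent vectors at the origin are
proportional.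
-/

set_option autoImplicit false
set_option linter.style.haveILetI false
set_option backward.isDefEq.respectTransparency.types false
universe u

open CategoryTheory Limits AlgebraicGeometry MonoidalCategory CartesianMonoidalCategory MonObj GrpObj

namespace Groth.Agent.AbVarLib

open Groth.Agent.LieSLib

variable {K : Type u} [Field K]

/-- A non-étale finite algebra over an algebraically closed field has a nonzero tangent vector at some point. -/
theorem exists_algHom_of_not_etale [IsAlgClosed K] (A : Type u) [CommRing A] [Algebra K A] [Module.Finite K A]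
    (h : ¬ Algebra.Etale K A) :
    ∃ q : A →ₐ[K] TrivSqZeroExt K K, ∃ a, (q a).snd ≠ 0 := by
  haveI : IsNoetherianRing A := IsNoetherianRing.of_finite K A
  have hred : ¬ IsReduced A := fun _ => h (by
    haveI := FiniteEt.formallyEtale_of_isReduced K A
    haveI : Algebra.FinitePresentation K A := Algebra.FinitePresentation.of_finiteType.mp inferInstance
    exact ⟨inferInstance, inferInstance⟩)
  by_contra hcon
  push Not at hcon
  refine hred ⟨fun x hx => ?_⟩
  by_contra hx0
  let J : Ideal A := (Submodule.span A {x}).annihilator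
  have hJ : J ≠ ⊤ := fun ht => hx0 (by
    have := (Submodule.mem_annihilator_span_singleton x (1 : A)).1 (show (1 : A) ∈ J by rw [ht]; trivial)
    rwa [one_smul] at this)
  obtain ⟨m, hm, hJm⟩ := Ideal.exists_le_maximal J hJ
  haveI : Module.Finite K (A ⧸ m) := inferInstance
  letI := Ideal.Quotient.field m
  let e : K ≃ₐ[K] A ⧸ m :=
    AlgEquiv.ofBijective (Algebra.ofId K (A ⧸ m)) IsAlgClosed.algebraMap_bijective_of_isIntegral
  let χ : A →ₐ[K] K := e.symm.toAlgHom.comp (Ideal.Quotient.mkₐ K m)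
  have hχ : ∀ a, χ a = 0 ↔ a ∈ m := fun a => by
    show e.symm (Ideal.Quotient.mk m a) = 0 ↔ _
    rw [map_eq_zero, Ideal.Quotient.eq_zero_iff_mem]
  have hne : ∀ b : A, χ b = 1 → ∃ c, χ c = 0 ∧ b * c ≠ 0 := by
    intro b hb
    by_contra hc
    push Not at hc
    obtain ⟨n, hn⟩ := hx
    have hxm : x ∈ m := hm.isPrime.mem_of_pow_mem n (hn ▸ zero_mem _)
    have hbJ : b ∈ J := (Submodule.mem_annihilator_span_singleton x b).2 (hc x ((hχ x).2 hxm))
    have := (hχ b).2 (hJm hbJ)
    rw [hb] at this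
    exact one_ne_zero this
  obtain ⟨q, -, a, ha⟩ := AlgGrpLib.exists_cotangent_functional χ hne
  exact ha (hcon q a)

variable {X Y : Over (Spec (CommRingCat.of K))} [GrpObj X] [GrpObj Y]

local notation "f₀" => 𝟙 (Spec (CommRingCat.of K))

theorem zsec_tproj_id : zsec (M := K) f₀ ≫ tproj f₀ = 𝟙 _ := by
  refine Over.OverMorphism.ext ?_
  change Spec.map _ ≫ Spec.map _ = 𝟙 _
  rw [LieS.specMap_comp,
    show (TrivSqZeroExt.fstHom K K K).toRingHom.comp (algebraMap K (TrivSqZeroExt K K)) = RingHom.id K from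
      RingHom.ext fun b => by simp [TrivSqZeroExt.algebraMap_eq_inl'],
    CommRingCat.ofHom_id, Spec.map_id]

/-- A finite flat surjective homomorphism which is not étale kills a nonzero tangent vector. -/
theorem exists_tangent_of_not_etale [IsAlgClosed K] [IsSeparated Y.hom] (φ : X ⟶ Y) [IsMonHom φ] [IsFinite φ.left]
    [Flat φ.left] [Surjective φ.left] (h : ¬ Etale φ.left) :
    ∃ w : tpt f₀ K ⟶ X, zsec f₀ ≫ w = 1 ∧ w ≠ 1 ∧ w ≫ φ = 1 := by
  let N : Over (Spec (CommRingCat.of K)) := Over.mk (pullback.snd φ.left (η[Y]).left)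
  let i : N ⟶ X := Over.homMk (pullback.fst φ.left (η[Y]).left) (by
    show pullback.fst φ.left (η[Y]).left ≫ X.hom = pullback.snd φ.left (η[Y]).left
    rw [← Over.w φ, ← Category.assoc, pullback.condition, Category.assoc, Over.w η[Y]]
    exact Category.comp_id _)
  have hsq : IsPullback i.left (toUnit N).left φ.left (η[Y]).left := IsPullback.of_hasPullback φ.left (η[Y]).left
  have hN : AlgGrp.IsKernel i φ := IsPullback.of_map (Over.forget _) (Over.OverMorphism.ext hsq.w) hsq
  have hNet : ¬ Etale N.hom := fun hh => h (of_kernel φ i @Etale hN hh)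
  haveI : IsFinite N.hom := inferInstanceAs (IsFinite (pullback.snd φ.left (η[Y]).left))
  haveI : IsAffine N.left := isAffine_of_isAffineHom N.hom
  let ρ : K →+* Γ(N.left, ⊤) := (Spec.preimage (N.left.isoSpec.inv ≫ N.hom)).hom
  letI : Algebra K Γ(N.left, ⊤) := ρ.toAlgebra
  have e1 : N.hom = N.left.isoSpec.hom ≫ Spec.map (CommRingCat.ofHom (algebraMap K Γ(N.left, ⊤))) := by
    rw [← Iso.inv_comp_eq]
    exact (Spec.map_preimage (N.left.isoSpec.inv ≫ N.hom)).symm
  haveI hsp : IsFinite (Spec.map (CommRingCat.ofHom (algebraMap K Γ(N.left, ⊤)))) := by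
    rw [← MorphismProperty.cancel_left_of_respectsIso (P := @IsFinite.{u}) N.left.isoSpec.hom, ← e1]
    infer_instance
  haveI : Module.Finite K Γ(N.left, ⊤) := by
    rwa [IsFinite.SpecMap_iff, CommRingCat.hom_ofHom, RingHom.finite_algebraMap] at hsp
  have hAet : ¬ Algebra.Etale K Γ(N.left, ⊤) := fun hh => hNet (by
    rw [e1, MorphismProperty.cancel_left_of_respectsIso (P := @Etale.{u}) N.left.isoSpec.hom,
      HasRingHomProperty.Spec_iff (P := @Etale), CommRingCat.hom_ofHom, RingHom.etale_algebraMap]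
    exact hh)
  obtain ⟨q, a, ha⟩ := exists_algHom_of_not_etale Γ(N.left, ⊤) hAet
  let v : tpt f₀ K ⟶ N := Over.homMk (Spec.map (CommRingCat.ofHom q.toRingHom) ≫ N.left.isoSpec.inv) (by
    change (Spec.map _ ≫ _) ≫ N.hom = Spec.map _ ≫ 𝟙 _
    rw [e1, Category.assoc, Iso.inv_hom_id_assoc, ← Spec.map_comp, Category.comp_id]
    congr 1
    exact CommRingCat.hom_ext (RingHom.ext fun c => q.commutes c))
  have hv : (v ≫ i) ≫ φ = 1 := by
    rw [Category.assoc, hN.w, Hom.one_def, ← Category.assoc, toUnit_unique (v ≫ toUnit N) (toUnit _)]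
  let c : LieS.pt K f₀ ⟶ X := zsec f₀ ≫ v ≫ i
  refine ⟨(v ≫ i) * (tproj f₀ ≫ c)⁻¹, ?_, ?_, ?_⟩
  · rw [MonObj.comp_mul, GrpObj.comp_inv, ← Category.assoc (zsec f₀) (tproj f₀) c, zsec_tproj_id, Category.id_comp]
    exact mul_inv_cancel _
  · intro hw
    rw [mul_inv_eq_one] at hw
    -- then `v` factors through the residue field
    haveI : IsSplitMono (η[Y]).left := ⟨⟨Y.hom, Over.w η[Y]⟩⟩
    haveI : Mono i.left := inferInstanceAs (Mono (pullback.fst φ.left (η[Y]).left))
    have h1 : v = tproj f₀ ≫ zsec f₀ ≫ v := by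
      refine Over.OverMorphism.ext ((cancel_mono i.left).1 ?_)
      rw [← Over.comp_left, ← Over.comp_left, hw]
      show _ = ((tproj f₀ ≫ zsec f₀ ≫ v) ≫ i).left
      simp only [c, Category.assoc]
    have h2 := congrArg CommaMorphism.left h1
    change Spec.map _ ≫ _ = Spec.map _ ≫ Spec.map _ ≫ Spec.map _ ≫ _ at h2
    rw [← Category.assoc, ← Category.assoc, LieS.specMap_comp, LieS.specMap_comp] at h2
    have h3 := congrArg CommRingCat.Hom.hom (Spec.map_injective ((cancel_mono N.left.isoSpec.inv).1 h2))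
    have h4 := congrArg TrivSqZeroExt.snd (RingHom.congr_fun h3 a)
    simp [TrivSqZeroExt.algebraMap_eq_inl'] at h4
    exact ha h4
  · rw [MonObj.mul_comp, GrpObj.inv_comp, hv]
    simp only [c, Category.assoc]
    rw [Category.assoc] at hv
    rw [hv, MonObj.comp_one, MonObj.comp_one]
    exact mul_inv_cancel _

/-- Two tangent vectors at the origin of a smooth group curve are proportional. -/
theorem tangent_proportional [Smooth X.hom] [IsSeparated X.hom] (hX : topologicalKrullDim X.left ≤ 1)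
    (w w' : tpt f₀ K ⟶ X) (hw : zsec f₀ ≫ w = 1) (hw' : zsec f₀ ≫ w' = 1) (hne : w' ≠ 1) :
    ∃ r : K, w = tmap f₀ (r • LinearMap.id : K →ₗ[K] K) ≫ w' := by
  classical
  let pK : Spec (CommRingCat.of K) := IsLocalRing.closedPoint K
  have hsub : ∀ y : Spec (CommRingCat.of K), y = pK := fun y =>
    @Subsingleton.elim _ (inferInstanceAs (Subsingleton (PrimeSpectrum K))) _ _
  let one : LieS.pt K f₀ ⟶ X := 1
  let e := one.left pK
  obtain ⟨_, ⟨V, hV, rfl⟩, heV, -⟩ :=
    X.left.isBasis_affineOpens.exists_subset_of_mem_open (Set.mem_univ e) isOpen_univ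
  replace hV : IsAffineOpen V := hV
  obtain ⟨χ₀, hχ₀⟩ := exists_factor hV one.left (by rintro _ ⟨z, rfl⟩; rw [hsub z]; exact heV)
  let ρ : K →+* Γ(X.left, V) := (Spec.preimage (hV.fromSpec ≫ X.hom)).hom
  have hρ : hV.fromSpec ≫ X.hom = Spec.map (CommRingCat.ofHom ρ) := by simp [ρ]
  have hfac : ∀ v : tpt f₀ K ⟶ X, zsec f₀ ≫ v = 1 →
      ∃ q : Γ(X.left, V) →+* TrivSqZeroExt K K, v.left = Spec.map (CommRingCat.ofHom q) ≫ hV.fromSpec ∧
        (∀ x, (q x).fst = χ₀ x) ∧ ∀ c, q (ρ c) = algebraMap K (TrivSqZeroExt K K) c := by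
    intro v hv
    have hzl : (zsec (M := K) f₀).left ≫ v.left = one.left := by rw [← Over.comp_left, hv]
    obtain ⟨q, hq⟩ := exists_factor (C := TrivSqZeroExt K K) hV v.left (by
      rintro _ ⟨y, rfl⟩
      obtain ⟨z, rfl⟩ : ∃ z, (zsec (M := K) f₀).left z = y := comap_fstHom_surjective (B := K) (M := K) y
      show ((zsec (M := K) f₀).left ≫ v.left) z ∈ V
      rw [hzl, hsub z]
      exact heV)
    refine ⟨q, hq, fun x => ?_, fun c => ?_⟩
    · have h := hzl
      rw [hq, hχ₀] at h
      change Spec.map _ ≫ Spec.map _ ≫ _ = _ at h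
      rw [← Category.assoc, LieS.specMap_comp] at h
      exact RingHom.congr_fun (specMap_fromSpec_injective hV h) x
    · have h := Over.w v
      rw [hq] at h
      change (Spec.map _ ≫ _) ≫ X.hom = Spec.map _ ≫ 𝟙 _ at h
      rw [Category.assoc, hρ, ← Spec.map_comp, Category.comp_id] at h
      exact RingHom.congr_fun (congrArg CommRingCat.Hom.hom (Spec.map_injective h)) c
  obtain ⟨q, hq, hqf, hqρ⟩ := hfac w hw
  obtain ⟨q', hq', hqf', hqρ'⟩ := hfac w' hw'
  -- the maximal ideal at the origin is principal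
  let pp : PrimeSpectrum Γ(X.left, V) := hV.primeIdealOf ⟨e, heV⟩
  have hker : pp.asIdeal = RingHom.ker χ₀ := by
    have : hV.fromSpec ⟨RingHom.ker χ₀, RingHom.ker_isPrime χ₀⟩ = e := by
      change _ = one.left pK
      rw [hχ₀, Scheme.Hom.comp_apply]
      congr 1
      exact PrimeSpectrum.ext (by
        change RingHom.ker χ₀ = Ideal.comap χ₀ (IsLocalRing.maximalIdeal K)
        rw [IsLocalRing.maximalIdeal_eq_bot]; rfl)
    exact congrArg PrimeSpectrum.asIdeal
      (hV.fromSpec.isOpenEmbedding.injective ((hV.fromSpec_primeIdealOf ⟨e, heV⟩).trans this.symm))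
  let St := X.left.presheaf.stalk e
  letI : Algebra Γ(X.left, V) St := TopCat.Presheaf.algebra_section_stalk X.left.presheaf (⟨e, heV⟩ : V)
  haveI hloc : IsLocalization.AtPrime St pp.asIdeal := hV.isLocalization_stalk ⟨e, heV⟩
  haveI := Groth.Agent.VarietyLib.isRegularLocalRing_stalk_of_smooth K X.left X.hom e
  obtain ⟨t, ht⟩ : ∃ t : St, IsLocalRing.maximalIdeal St = Ideal.span {t} := by
    have h1 : ((IsLocalRing.maximalIdeal St).spanFinrank : WithBot ℕ∞) ≤ 1 := by
      rw [IsRegularLocalRing.spanFinrank_maximalIdeal, ringKrullDim_stalk_eq_coheight]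
      refine le_trans (Order.coheight_le_krullDim e) ?_
      rw [← Order.krullDim_eq_of_orderIso (irreducibleSetEquivPoints (α := X.left))]
      exact hX
    have h2 : (IsLocalRing.maximalIdeal St).spanFinrank ≤ 1 := by exact_mod_cast h1
    rcases Nat.le_one_iff_eq_zero_or_eq_one.1 h2 with h3 | h3
    · exact ⟨0, by
        rw [Submodule.spanFinrank_eq_zero_iff_eq_bot (IsNoetherian.noetherian _)] at h3
        rw [h3, Ideal.span_singleton_eq_bot.2 rfl]⟩
    · obtain ⟨t, ht⟩ := ((Submodule.spanFinrank_eq_one_iff _).1 h3).1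
      exact ⟨t, ht⟩
  obtain ⟨⟨a₁, s₁⟩, hs₁⟩ := IsLocalization.surj pp.asIdeal.primeCompl t
  have hs₁u : IsUnit (algebraMap Γ(X.left, V) St (s₁ : Γ(X.left, V))) := IsLocalization.map_units St s₁
  have hspan : IsLocalRing.maximalIdeal St = Ideal.span {algebraMap Γ(X.left, V) St a₁} := by
    rw [ht, ← hs₁, Ideal.span_singleton_mul_right_unit hs₁u]
  have ha₁ : χ₀ a₁ = 0 := by
    rw [← RingHom.mem_ker, ← hker, ← IsLocalization.AtPrime.to_map_mem_maximal_iff St pp.asIdeal a₁, hspan]
    exact Ideal.mem_span_singleton_self _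
  have hdecomp : ∀ c, χ₀ c = 0 → ∃ s b, χ₀ s ≠ 0 ∧ s * c = b * a₁ := by
    intro c hc
    have hcm : algebraMap Γ(X.left, V) St c ∈ IsLocalRing.maximalIdeal St := by
      rw [IsLocalization.AtPrime.to_map_mem_maximal_iff St pp.asIdeal c, hker]
      exact hc
    rw [hspan, Ideal.mem_span_singleton] at hcm
    obtain ⟨z, hz⟩ := hcm
    obtain ⟨⟨b, s⟩, hb⟩ := IsLocalization.surj pp.asIdeal.primeCompl z
    have heq : algebraMap Γ(X.left, V) St (s * c) = algebraMap Γ(X.left, V) St (b * a₁) := by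
      rw [map_mul, map_mul, hz, ← hb]
      ring
    obtain ⟨u, hu⟩ := (IsLocalization.eq_iff_exists pp.asIdeal.primeCompl St).1 heq
    refine ⟨(u : Γ(X.left, V)) * s, u * b, ?_, by rw [_root_.mul_assoc, hu, _root_.mul_assoc]⟩
    rw [map_mul]
    refine mul_ne_zero ?_ ?_
    · exact fun h0 => u.2 (hker.ge h0)
    · exact fun h0 => s.2 (hker.ge h0)
  -- a derivation at the origin is determined by its value on `a₁`
  have hder : ∀ (Q : Γ(X.left, V) →+* TrivSqZeroExt K K), (∀ x, (Q x).fst = χ₀ x) →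
      (∀ c, Q (ρ c) = algebraMap K (TrivSqZeroExt K K) c) →
      ∀ x, ∀ s b, χ₀ s ≠ 0 → s * (x - ρ (χ₀ x)) = b * a₁ → (Q x).snd = χ₀ b / χ₀ s * (Q a₁).snd := by
    intro Q hQf hQρ x s b hs hsb
    have hρχ : χ₀ (ρ (χ₀ x)) = χ₀ x := by
      rw [← hQf (ρ (χ₀ x)), hQρ]; simp [TrivSqZeroExt.algebraMap_eq_inl']
    have h := congrArg (fun y => (Q y).snd) hsb
    simp only [map_mul, map_sub, TrivSqZeroExt.snd_mul, TrivSqZeroExt.fst_sub, TrivSqZeroExt.snd_sub, hQf,
      op_smul_eq_smul, smul_eq_mul, hQρ, TrivSqZeroExt.algebraMap_eq_inl', TrivSqZeroExt.fst_inl,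
      TrivSqZeroExt.snd_inl, ha₁, hρχ, sub_self, sub_zero, zero_mul, mul_zero, add_zero, zero_add] at h
    field_simp
    linear_combination h
  have hkey : ∀ x, ∃ s b, χ₀ s ≠ 0 ∧ s * (x - ρ (χ₀ x)) = b * a₁ := fun x => hdecomp _ (by
    rw [map_sub, ← hqf (ρ (χ₀ x)), hqρ]; simp [TrivSqZeroExt.algebraMap_eq_inl'])
  have ha' : (q' a₁).snd ≠ 0 := by
    intro h0
    refine hne (Over.OverMorphism.ext ?_)
    have hone : (1 : tpt f₀ K ⟶ X) = tproj f₀ ≫ one := (MonObj.comp_one _).symm
    rw [hone, hq', Over.comp_left, hχ₀]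
    change _ = Spec.map _ ≫ Spec.map _ ≫ _
    rw [← Category.assoc (Spec.map _), LieS.specMap_comp]
    congr 2
    refine congrArg CommRingCat.ofHom (RingHom.ext fun x => ?_)
    obtain ⟨s, b, hs, hsb⟩ := hkey x
    refine TrivSqZeroExt.ext ?_ ?_
    · simp [hqf', TrivSqZeroExt.algebraMap_eq_inl']
    · rw [hder q' hqf' hqρ' x s b hs hsb, h0, mul_zero]
      simp [TrivSqZeroExt.algebraMap_eq_inl']
  refine ⟨(q a₁).snd / (q' a₁).snd, Over.OverMorphism.ext ?_⟩
  rw [hq, Over.comp_left, hq', tmap_left]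
  show Spec.map _ ≫ _ = Spec.map _ ≫ Spec.map _ ≫ _
  rw [← Category.assoc (Spec.map _), LieS.specMap_comp]
  congr 2
  refine congrArg CommRingCat.ofHom (RingHom.ext fun x => ?_)
  obtain ⟨s, b, hs, hsb⟩ := hkey x
  refine TrivSqZeroExt.ext ?_ ?_
  · simp [hqf, hqf']
  · simp only [RingHom.comp_apply, AlgHom.toRingHom_eq_coe, RingHom.coe_coe, TrivSqZeroExt.snd_map,
      LinearMap.smul_apply, LinearMap.id_apply, smul_eq_mul]
    rw [hder q hqf hqρ x s b hs hsb, hder q' hqf' hqρ' x s b hs hsb]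
    field_simp

end Groth.Agent.AbVarLib
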