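import Groth.Agent.AbVarLib.RigidityTop
import Groth.Agent.AbVarLib.AlgClosedIntegral
import Groth.Agent.AbVarLib.UnitalMulField
import Groth.Agent.DimLib.Maximal
import Groth.Agent.DimLib.BaseChange

/-!
# Fibres of morphisms from abelian varieties are equidimensional
-/

universe u

open CategoryTheory Limits AlgebraicGeometry MonoidalCategory CartesianMonoidalCategory MonObj GrpObj TopologicalSpace

namespace Groth.Agent.AbVarLib

open Groth.Agent.DimLib

section AlgClosed

variable {Ω : Type u} [Field Ω] [IsAlgClosed Ω] {X : Over (Spec (CommRingCat.of Ω))} [GrpObj X]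
  [IsProper X.hom] [IsIntegral X.left] {Y : Scheme.{u}} (q : Y ⟶ Spec (CommRingCat.of Ω)) [IsSeparated q]
  (f : X.left ⟶ Y)

/-- Comparison of two maximal points of fibres over closed points. -/
theorem ptDim_le_of_maximal_in_fibres (hf : f ≫ q = X.hom) {p p' : X.left} (hy : IsClosed ({f p} : Set Y))
    (hy' : IsClosed ({f p'} : Set Y))
    (hmax : ∀ w, w ⤳ p' → f w = f p' → p' = w) : ptDim X.hom p ≤ ptDim X.hom p' := by
  have := LocallyOfFiniteType.jacobsonSpace X.hom
  have : IsLocallyNoetherian X.left := LocallyOfFiniteType.isLocallyNoetherian X.hom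
  have : CompactSpace X.left := QuasiCompact.compactSpace_of_compactSpace X.hom
  have : IsNoetherian X.left := {}
  -- a rational point of the second fibre lying on one component only
  let F : Set X.left := f ⁻¹' {f p'}
  have hF : IsClosed F := hy'.preimage f.continuous
  have : QuasiSober F := hF.isClosedEmbedding_subtypeVal.quasiSober
  let p₁ : F := ⟨p', rfl⟩
  have hC : closure ({p₁} : Set F) ∈ irreducibleComponents F := (mem_components_iff p₁).2 fun w hw => by
    have h : p' = w.1 := hmax _ (hw.map continuous_subtype_val) w.2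
    exact (Subtype.ext h : p₁ = w) ▸ specializes_rfl
  let B : Set F := ⋃₀ (irreducibleComponents F \ {closure {p₁}})
  have hB : IsClosed B := by
    show IsClosed (⋃₀ _)
    rw [Set.sUnion_eq_biUnion]
    exact ((NoetherianSpace.finite_irreducibleComponents).subset Set.sdiff_subset).isClosed_biUnion
      fun D hD => isClosed_of_mem_irreducibleComponents D hD.1
  have hp₁ : p₁ ∉ B := by
    rintro ⟨D, ⟨hD, hne⟩, hpD⟩
    have hsub : closure ({p₁} : Set F) ⊆ D :=
      closure_minimal (Set.singleton_subset_iff.2 hpD) (isClosed_of_mem_irreducibleComponents D hD)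
    exact hne ((hC.2 hD.1 hsub).antisymm hsub)
  obtain ⟨O, hO, hOB⟩ := isOpen_induced_iff.1 hB.isOpen_compl
  obtain ⟨x, hx, hxc⟩ := exists_isClosed_singleton_mem X.hom (S := closure {p'} ∩ O)
    ⟨p', subset_closure rfl, show p' ∈ O from hOB.ge (show p₁ ∈ Bᶜ from hp₁)⟩
    (isClosed_closure.isLocallyClosed.inter hO.isLocallyClosed)
  have hxF : x ∈ F := hF.closure_subset_iff.2 (Set.singleton_subset_iff.2 rfl) hx.1
  obtain ⟨b, hb⟩ := exists_pt x hxc
  -- the reduced closure of the first point
  let Z : Closeds X.left := ⟨closure {p}, isClosed_closure⟩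
  let I := Scheme.IdealSheafData.vanishingIdeal Z
  have hrange : Set.range I.subschemeι = closure {p} := by
    rw [Scheme.IdealSheafData.range_subschemeι]
    rfl
  have : IsReduced I.subscheme := Props12.isReduced_subscheme_vanishingIdeal Z
  obtain ⟨g, hg⟩ : p ∈ Set.range I.subschemeι := hrange.ge (subset_closure rfl)
  have hgen : ∀ z : I.subscheme, g ⤳ z := fun z => by
    rw [← I.subschemeι.isEmbedding.isInducing.specializes_iff, hg]
    exact specializes_iff_mem_closure.2 (hrange.le ⟨z, rfl⟩)
  have : IrreducibleSpace I.subscheme := by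
    rw [irreducibleSpace_def, Set.top_eq_univ]
    have h : closure ({g} : Set I.subscheme) = Set.univ :=
      Set.eq_univ_of_forall fun z => specializes_iff_mem_closure.1 (hgen z)
    rw [← h]
    exact isIrreducible_singleton.closure
  let C : Over (Spec (CommRingCat.of Ω)) := Over.mk (I.subschemeι ≫ X.hom)
  have : IsProper C.hom := inferInstanceAs (IsProper (I.subschemeι ≫ X.hom))
  have : IsIntegral C.left := isIntegral_of_irreducibleSpace_of_isReduced I.subscheme
  have := geometricallyIntegral_of_isAlgClosed C.hom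
  have := AbSchLib.geometricallyConnected_of_irreducible C.hom
  let j : C ⟶ X := Over.homMk I.subschemeι
  obtain ⟨c, -, hcc⟩ := exists_isClosed_singleton_mem C.hom (S := Set.univ) ⟨g, trivial⟩ isClosed_univ.isLocallyClosed
  obtain ⟨a, rfl⟩ := exists_pt c hcc
  have hconst : ∀ z : C.left, f (j.left z) = f p := fun z => by
    have h1 : j.left z ∈ closure {p} := hrange.le ⟨z, rfl⟩
    exact closure_minimal (t := f ⁻¹' {f p}) (Set.singleton_subset_iff.2 rfl) (hy.preimage f.continuous) h1
  have h0 : ((j.left ≫ f) '' Set.univ).Subsingleton := by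
    rintro _ ⟨z, -, rfl⟩ _ ⟨z', -, rfl⟩
    rw [Scheme.Hom.comp_apply, Scheme.Hom.comp_apply, hconst, hconst]
  have key := subsingleton_image_translate q f hf j a h0 b
  let t := b * (a ≫ j)⁻¹
  let τ := (translate t).hom.left
  have htr : j ≫ (translate t).hom = (toUnit C ≫ t) * j := by
    simp only [translate, MonObj.comp_mul, Category.comp_id]
    rw [← Category.assoc, toUnit_unique (j ≫ toUnit X) (toUnit C)]
  have hτ : ∀ z, f (τ (j.left z)) = (((toUnit C ≫ t) * j).left ≫ f) z := fun z => by
    rw [← htr, Over.comp_left]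
    rfl
  have hτa : τ (j.left (a.left (pt0 Ω))) = x := by
    rw [← hb]
    have e1 : a ≫ j ≫ (translate t).hom = b := by
      rw [htr, MonObj.comp_mul, ← Category.assoc, toUnit_unique (a ≫ toUnit C) (𝟙 _), Category.id_comp]
      simp only [t, inv_mul_cancel_right]
    show (a ≫ j ≫ (translate t).hom).left (pt0 Ω) = b.left (pt0 Ω)
    rw [e1]
  have hFτ : τ p ∈ F := by
    have h1 := key ⟨g, trivial, rfl⟩ ⟨a.left (pt0 Ω), trivial, rfl⟩
    rw [← hτ, ← hτ, hτa] at h1
    show f (τ p) ∈ ({f p'} : Set Y)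
    rw [← hg]
    exact h1.trans hxF
  have hsp : τ p ⤳ x := by
    rw [← hτa, ← hg]
    exact ((hgen _).map j.left.continuous).map τ.continuous
  have hxB : (⟨x, hxF⟩ : F) ∉ B := fun h => hOB.le (show (⟨x, hxF⟩ : F) ∈ Subtype.val ⁻¹' O from hx.2) h
  obtain ⟨D, hD, hDsub⟩ : ∃ D ∈ irreducibleComponents F, closure ({⟨τ p, hFτ⟩} : Set F) ⊆ D := by
    obtain ⟨D, hD1, hD2, hD3⟩ := exists_preirreducible (closure ({⟨τ p, hFτ⟩} : Set F)) isIrreducible_singleton.closure.2
    refine ⟨D, ⟨⟨⟨⟨τ p, hFτ⟩, hD2 (subset_closure rfl)⟩, hD1⟩, fun t ht hle => (hD3 t ht.2 hle).le⟩, hD2⟩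
  have hxD : (⟨x, hxF⟩ : F) ∈ D :=
    hDsub (specializes_iff_mem_closure.1 (Topology.IsInducing.subtypeVal.specializes_iff.1 hsp))
  have hDC : D = closure {p₁} := by
    by_contra hne
    exact hxB ⟨D, ⟨hD, hne⟩, hxD⟩
  have hsp' : p' ⤳ τ p :=
    (specializes_iff_mem_closure.2 (hDC ▸ hDsub (subset_closure rfl) : (⟨τ p, hFτ⟩ : F) ∈ closure {p₁})).map
      continuous_subtype_val
  have hiso : IsIso τ := inferInstanceAs (IsIso ((Over.forget _).map (translate t).hom))
  have he := ptDim_comp_preimmersion X.hom τ p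
  rw [show τ ≫ X.hom = X.hom from Over.w (translate t).hom] at he
  rw [he]
  exact ptDim_le_of_specializes X.hom hsp'

end AlgClosed

section Field

variable {k : Type u} [Field k] (X : Over (Spec (CommRingCat.of k))) [GrpObj X] [IsProper X.hom]
  [GeometricallyIntegral X.hom] {Y : Scheme.{u}} (q : Y ⟶ Spec (CommRingCat.of k)) [IsSeparated q]
  (f : X.left ⟶ Y)

omit [GrpObj X] [GeometricallyIntegral X.hom] in
theorem lft_fiber (hf : f ≫ q = X.hom) (y : Y) : LocallyOfFiniteType (f.fiberToSpecResidueField y) := by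
  have : LocallyOfFiniteType (f ≫ q) := by rw [hf]; infer_instance
  have : LocallyOfFiniteType f := locallyOfFiniteType_of_comp f q
  exact inferInstanceAs (LocallyOfFiniteType (pullback.snd f _))

omit [GrpObj X] [GeometricallyIntegral X.hom] [IsProper X.hom] in
theorem exists_geometric_maximal (y : Y) [LocallyOfFiniteType (f.fiberToSpecResidueField y)] (a : f.fiber y)
    (hmax : ∀ w, w ⤳ a → a = w) (Ω : Type u) [Field Ω] (φ : Spec (CommRingCat.of Ω) ⟶ Spec (Y.residueField y)) :
    ∃ w : ↥(pullback (f.fiberToSpecResidueField y) φ), (∀ v, v ⤳ w → w = v) ∧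
      ptDim (k := Ω) (pullback.snd (f.fiberToSpecResidueField y) φ) w =
        ptDim (k := Y.residueField y) (f.fiberToSpecResidueField y) a := by
  obtain ⟨ψ, rfl⟩ := Spec.map_surjective φ
  letI : Algebra (Y.residueField y) Ω := ψ.hom.toAlgebra
  obtain ⟨z, hz1, hz2⟩ := exists_bc_point (k := Y.residueField y) (f.fiberToSpecResidueField y) Ω a
  obtain ⟨w, hw, hwmax⟩ := exists_maximal_specializes z
  refine ⟨w, hwmax, ?_⟩
  have h1 : bcFst (k := Y.residueField y) (f.fiberToSpecResidueField y) Ω w = a := by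
    refine (hmax _ ?_).symm
    have h : bcFst (k := Y.residueField y) (f.fiberToSpecResidueField y) Ω w ⤳
        bcFst (k := Y.residueField y) (f.fiberToSpecResidueField y) Ω z :=
      hw.map (bcFst (k := Y.residueField y) (f.fiberToSpecResidueField y) Ω).continuous
    rw [hz1] at h
    exact h
  have h2 := ptDim_bc_eq_of_maximal (k := Y.residueField y) (f.fiberToSpecResidueField y) Ω
    (z := w) (fun v hv _ => hwmax v hv)
  rw [h1] at h2
  exact h2

/-- The geometric fibre, as the fibre of the base changed morphism over a rational point. -/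
theorem exists_point_over (hf : f ≫ q = X.hom) (Ω : Type u) [Field Ω] [IsAlgClosed Ω]
    (y : Y) (φ : Spec (CommRingCat.of Ω) ⟶ Spec (Y.residueField y)) (s : Spec (CommRingCat.of Ω) ⟶ Spec (CommRingCat.of k))
    (hs : φ ≫ Y.fromSpecResidueField y ≫ q = s) (w : ↥(pullback (f.fiberToSpecResidueField y) φ))
    (hw : ∀ v, v ⤳ w → w = v) :
    ∃ p : ↥(pullback X.hom s),
      (IsClosed ({pullback.map X.hom s q s f (𝟙 _) (𝟙 _) (by rw [hf, Category.comp_id]) (by simp) p} :
          Set ↥(pullback q s))) ∧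
      (∀ v, v ⤳ p → pullback.map X.hom s q s f (𝟙 _) (𝟙 _) (by rw [hf, Category.comp_id]) (by simp) v =
        pullback.map X.hom s q s f (𝟙 _) (𝟙 _) (by rw [hf, Category.comp_id]) (by simp) p → p = v) ∧
      ptDim (k := Ω) (pullback.snd X.hom s) p = ptDim (k := Ω) (pullback.snd (f.fiberToSpecResidueField y) φ) w := by
  let fΩ : pullback X.hom s ⟶ pullback q s :=
    pullback.map X.hom s q s f (𝟙 _) (𝟙 _) (by rw [hf, Category.comp_id]) (by simp)
  have hfs : fΩ ≫ pullback.snd q s = pullback.snd X.hom s := (pullback.lift_snd _ _ _).trans (Category.comp_id _)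
  have hff : fΩ ≫ pullback.fst q s = pullback.fst X.hom s ≫ f := pullback.lift_fst _ _ _
  let σ : Spec (CommRingCat.of Ω) ⟶ pullback q s :=
    pullback.lift (φ ≫ Y.fromSpecResidueField y) (𝟙 _) (by rw [Category.assoc, hs, Category.id_comp])
  have hσ : σ ≫ pullback.snd q s = 𝟙 _ := pullback.lift_snd _ _ _
  have : IsClosedImmersion σ := by
    have : IsClosedImmersion (σ ≫ pullback.snd q s) := by rw [hσ]; infer_instance
    exact IsClosedImmersion.of_comp σ (pullback.snd q s)
  let P := pullback (f.fiberToSpecResidueField y) φ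
  have hcomm : (pullback.fst (f.fiberToSpecResidueField y) φ ≫ f.fiberι y) ≫ X.hom =
      pullback.snd (f.fiberToSpecResidueField y) φ ≫ s := by
    rw [← hf, ← hs, Category.assoc, ← Category.assoc (f.fiberι y), f.fiber_fac, Category.assoc,
      pullback.condition_assoc]
  let J : P ⟶ pullback X.hom s :=
    pullback.lift (pullback.fst (f.fiberToSpecResidueField y) φ ≫ f.fiberι y)
      (pullback.snd (f.fiberToSpecResidueField y) φ) hcomm
  have hJ2 : J ≫ pullback.snd X.hom s = pullback.snd (f.fiberToSpecResidueField y) φ := pullback.lift_snd _ _ _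
  have hJ1 : J ≫ pullback.fst X.hom s = pullback.fst (f.fiberToSpecResidueField y) φ ≫ f.fiberι y :=
    pullback.lift_fst _ _ _
  have hbig : IsPullback (pullback.fst (f.fiberToSpecResidueField y) φ ≫ f.fiberι y)
      (pullback.snd (f.fiberToSpecResidueField y) φ) f (φ ≫ Y.fromSpecResidueField y) :=
    (IsPullback.of_hasPullback (f.fiberToSpecResidueField y) φ).paste_horiz
      (IsPullback.of_hasPullback f (Y.fromSpecResidueField y))
  have hPb : IsPullback J (pullback.snd (f.fiberToSpecResidueField y) φ) fΩ σ := by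
    have hbig' : IsPullback (J ≫ pullback.fst X.hom s) (pullback.snd (f.fiberToSpecResidueField y) φ) f
        (σ ≫ pullback.fst q s) := by
      rw [hJ1, show σ ≫ pullback.fst q s = φ ≫ Y.fromSpecResidueField y from pullback.lift_fst _ _ _]
      exact hbig
    refine IsPullback.of_right hbig' ?_ ?_
    · apply pullback.hom_ext
      · rw [Category.assoc, hff, ← Category.assoc, hJ1, Category.assoc, Category.assoc,
          show σ ≫ pullback.fst q s = φ ≫ Y.fromSpecResidueField y from pullback.lift_fst _ _ _]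
        simpa only [Category.assoc] using hbig.w
      · rw [Category.assoc, hfs, hJ2, Category.assoc, hσ, Category.comp_id]
    · refine IsPullback.of_bot ?_ hff.symm (IsPullback.of_hasPullback q s)
      rw [hfs, hf]
      exact IsPullback.of_hasPullback X.hom s
  have hmem : ∀ v, fΩ v = fΩ (J w) → ∃ u, J u = v := by
    intro v hv
    have h1 : fΩ (J w) = σ (pullback.snd (f.fiberToSpecResidueField y) φ w) := by
      rw [← Scheme.Hom.comp_apply, hPb.w, Scheme.Hom.comp_apply]
    obtain ⟨u, hu, -⟩ := Scheme.Pullback.exists_preimage_pullback (f := fΩ) (g := σ) v _ (hv.trans h1)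
    refine ⟨hPb.isoPullback.inv u, ?_⟩
    rw [← Scheme.Hom.comp_apply, hPb.isoPullback_inv_fst, hu]
  have : IsClosedImmersion J := MorphismProperty.of_isPullback hPb.flip ‹IsClosedImmersion σ›
  refine ⟨J w, ?_, fun v hv hfv => ?_, ?_⟩
  · show IsClosed ({fΩ (J w)} : Set ↥(pullback q s))
    rw [← Scheme.Hom.comp_apply, hPb.w, Scheme.Hom.comp_apply]
    have : Subsingleton ↥(Spec (CommRingCat.of Ω)) := inferInstanceAs (Subsingleton (PrimeSpectrum Ω))
    have h := σ.isClosedEmbedding.isClosed_range
    rwa [show Set.range σ = {σ (pullback.snd (f.fiberToSpecResidueField y) φ w)} from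
      Set.Subset.antisymm (by rintro _ ⟨t, rfl⟩; exact congrArg σ (Subsingleton.elim _ _))
        (Set.singleton_subset_iff.2 ⟨_, rfl⟩)] at h
  · obtain ⟨u, rfl⟩ := hmem v hfv
    rw [hw u (J.isEmbedding.isInducing.specializes_iff.1 hv)]
  · rw [← ptDim_comp_preimmersion (k := Ω) (pullback.snd X.hom s) J w, hJ2]

/-- All maximal points of all fibres have the same dimension. -/
theorem ptDim_maximal_fibre_eq (hf : f ≫ q = X.hom) (y y' : Y) (a : f.fiber y) (a' : f.fiber y')
    (ha : ∀ w, w ⤳ a → a = w) (ha' : ∀ w, w ⤳ a' → a' = w) :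
    ptDim (k := Y.residueField y) (f.fiberToSpecResidueField y) a =
      ptDim (k := Y.residueField y') (f.fiberToSpecResidueField y') a' := by
  have := lft_fiber X q f hf y
  have := lft_fiber X q f hf y'
  -- a common algebraically closed field
  let s₁ := Y.fromSpecResidueField y ≫ q
  let s₂ := Y.fromSpecResidueField y' ≫ q
  obtain ⟨t, -, -⟩ := Scheme.Pullback.exists_preimage_pullback (f := s₁) (g := s₂)
    (IsLocalRing.closedPoint _) (IsLocalRing.closedPoint _) (Subsingleton.elim (α := PrimeSpectrum k) _ _)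
  let Ω := AlgebraicClosure ((pullback s₁ s₂).residueField t)
  let π : Spec (CommRingCat.of Ω) ⟶ pullback s₁ s₂ :=
    Spec.map (CommRingCat.ofHom (algebraMap ((pullback s₁ s₂).residueField t) Ω)) ≫
      (pullback s₁ s₂).fromSpecResidueField t
  let φ := π ≫ pullback.fst s₁ s₂
  let φ' := π ≫ pullback.snd s₁ s₂
  let s := φ ≫ s₁
  have hs : φ ≫ Y.fromSpecResidueField y ≫ q = s := rfl
  have hs' : φ' ≫ Y.fromSpecResidueField y' ≫ q = s := by
    show (π ≫ pullback.snd s₁ s₂) ≫ s₂ = (π ≫ pullback.fst s₁ s₂) ≫ s₁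
    simp only [Category.assoc, pullback.condition]
  obtain ⟨w, hw, hwd⟩ := exists_geometric_maximal X f y a ha Ω φ
  obtain ⟨w', hw', hwd'⟩ := exists_geometric_maximal X f y' a' ha' Ω φ'
  obtain ⟨p, hc, hm, he⟩ := exists_point_over X q f hf Ω y φ s hs w hw
  obtain ⟨p', hc', hm', he'⟩ := exists_point_over X q f hf Ω y' φ' s hs' w' hw'
  let G := Over.pullback s
  letI : GrpObj (G.obj X) := Functor.grpObjObj
  have : IsProper (G.obj X).hom := inferInstanceAs (IsProper (pullback.snd _ _))
  have : IsIntegral (G.obj X).left := GeometricallyIntegral.geometrically_isIntegral (f := X.hom) s _ _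
    (IsPullback.of_hasPullback X.hom _)
  let fΩ : (G.obj X).left ⟶ pullback q s :=
    pullback.map X.hom s q s f (𝟙 _) (𝟙 _) (by rw [hf, Category.comp_id]) (by simp)
  have hfs : fΩ ≫ pullback.snd q s = (G.obj X).hom := (pullback.lift_snd _ _ _).trans (Category.comp_id _)
  have h1 := ptDim_le_of_maximal_in_fibres (pullback.snd q s) fΩ hfs hc hc' hm'
  have h2 := ptDim_le_of_maximal_in_fibres (pullback.snd q s) fΩ hfs hc' hc hm
  rw [← hwd, ← hwd', ← he, ← he']
  exact le_antisymm h1 h2

theorem exists_dim_fibre_components (hf : f ≫ q = X.hom) :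
    ∃ d : ℕ, ∀ (y : Y) (Z : Set ↥(f.fiber y)), Z ∈ irreducibleComponents ↥(f.fiber y) → topologicalKrullDim ↥Z = d := by
  by_cases h : ∃ (y : Y) (a : f.fiber y), ∀ w, w ⤳ a → a = w
  · obtain ⟨y₀, a₀, ha₀⟩ := h
    refine ⟨ptDim (k := Y.residueField y₀) (f.fiberToSpecResidueField y₀) a₀, fun y Z hZ => ?_⟩
    have := lft_fiber X q f hf y
    obtain ⟨p, hp, hmax⟩ := exists_genericPoint_of_mem_components hZ
    rw [topologicalKrullDim_eq_ptDim_of_isGenericPoint (k := Y.residueField y) (f.fiberToSpecResidueField y) hp,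
      ptDim_maximal_fibre_eq X q f hf y y₀ p a₀ hmax ha₀]
  · exact ⟨0, fun y Z hZ => by
      obtain ⟨p, -, hmax⟩ := exists_genericPoint_of_mem_components hZ
      exact (h ⟨y, p, hmax⟩).elim⟩

end Field

end Groth.Agent.AbVarLib
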