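import Groth.Agent.AbCubeLib.DeligneKills
import Groth.Agent.VerschLib29.Basic
import Groth.Agent.AbVarLib.PowEtale
import Mathlib.FieldTheory.Finite.Basic

/-!
# A commutative finite group scheme killed by the `q`-Frobenius is killed by `q`

Over a field with `q` elements: if every `q`-th power of a function on the group is constant then the `q`-th
convolution power of the identity is trivial, since `[p]` factors through the Frobenius.
-/

set_option autoImplicit false
set_option linter.style.haveILetI false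
set_option backward.isDefEq.respectTransparency.types false
universe u

open CategoryTheory CategoryTheory.Limits MonoidalCategory CartesianMonoidalCategory MonObj AlgebraicGeometry Opposite
open WithConv

namespace Groth.Agent.AbVarLib

theorem powConv_card_eq {k : Type u} [Field k] [Finite k] (A : Type u) [CommRing A] [HopfAlgebra k A]
    [Coalgebra.IsCocomm k A] [Module.Finite k A] (h : ∀ a : A, ∃ c : k, a ^ Nat.card k = algebraMap k A c) :
    toConv (AlgHom.id k A) ^ Nat.card k = 1 := by
  haveI := Fintype.ofFinite k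
  obtain ⟨p, hp⟩ := CharP.exists k
  haveI : Fact p.Prime := ⟨CharP.char_is_prime k p⟩
  obtain ⟨n, -, hn⟩ := FiniteField.card k p
  haveI : Nontrivial A := ⟨0, 1, fun h01 => by
    have := congrArg (Bialgebra.counitAlgHom k A) h01
    simp at this⟩
  haveI : CharP A p := charP_of_injective_algebraMap (algebraMap k A).injective p
  -- `[p]` lands in the `p`-th powers
  have hprime : ∀ a : A, ∃ b : A, SGA3b.powConv k A p a = b ^ p := by
    intro a
    obtain ⟨m, φ, e, hid⟩ := VerschLib29.exists_dualBasis k A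
    refine ⟨∑ i, (frobeniusEquiv k p).symm (((φ i) ^ p).ofConv a) • e i, ?_⟩
    rw [VerschLib29.powConv_prime_apply p φ e hid, sum_pow_char p]
    refine Finset.sum_congr rfl fun i _ => ?_
    rw [smul_pow]
    congr 1
    exact (frobenius_def _ _).symm.trans (frobenius_apply_frobeniusEquiv_symm k p _) |>.symm
  have hiter : ∀ (j : ℕ) (a : A), ∃ b : A, SGA3b.powConv k A (p ^ j) a = b ^ (p ^ j) := by
    intro j
    induction j with
    | zero =>
      intro a
      exact ⟨SGA3b.powConv k A (p ^ 0) a, by simp⟩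
    | succ j ih =>
      intro a
      obtain ⟨b, hb⟩ := hprime a
      obtain ⟨c, hc⟩ := ih b
      refine ⟨c, ?_⟩
      rw [pow_succ, VerschLib29.powConv_mul, hb, map_pow, hc, ← pow_mul]
  refine WithConv.ext (AlgHom.ext fun a => ?_)
  show SGA3b.powConv k A (Nat.card k) a = (1 : WithConv (A →ₐ[k] A)) a
  rw [AlgHom.convOne_apply]
  obtain ⟨b, hb⟩ := hiter n a
  obtain ⟨c, hc⟩ := h b
  have hq : Nat.card k = p ^ (n : ℕ) := Nat.card_eq_fintype_card.trans hn
  rw [hq] at hc ⊢
  rw [hb, hc]
  congr 1
  -- compare counits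
  have hε : ∀ (j : ℕ) (x : A), Bialgebra.counitAlgHom k A (SGA3b.powConv k A j x) = Coalgebra.counit x := by
    intro j x
    have h1 : (Bialgebra.counitAlgHom k A).comp (ofConv (toConv (AlgHom.id k A) ^ j)) =
        (toConv ((Bialgebra.counitAlgHom k A).comp (AlgHom.id k A)) ^ j).ofConv :=
      SGA3cLib.pow_ofConv_comp (C := A) (Bialgebra.counitAlgHom k A) (toConv (AlgHom.id k A)) j
    have h2 : toConv ((Bialgebra.counitAlgHom k A).comp (AlgHom.id k A)) = (1 : WithConv (A →ₐ[k] k)) :=
      WithConv.ext (AlgHom.ext fun y => by rw [AlgHom.convOne_apply]; simp)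
    rw [h2, one_pow] at h1
    refine (AlgHom.congr_fun h1 x).trans ?_
    rw [AlgHom.convOne_apply]
    simp
  have h3 := hε (p ^ (n : ℕ)) a
  rw [hb, hc, AlgHom.commutes] at h3
  simpa using h3

/-- The statement for an affine group over the field. -/
theorem id_pow_card_eq_one {R : Type u} [Field R] [Finite R] (P : (CommAlgCat R)ᵒᵖ) [GrpObj P]
    [Module.Finite R (P.unop : Type u)] (hc : ∀ {T : (CommAlgCat R)ᵒᵖ} (a b : T ⟶ P), a * b = b * a)
    (h : ∀ a : (P.unop : Type u), ∃ c : R, a ^ Nat.card R = algebraMap R (P.unop : Type u) c) :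
    (𝟙 P) ^ Nat.card R = 1 := by
  have : Coalgebra.IsCocomm R (P.unop : Type u) := AbCubeLib.isCocomm_of_comm P hc
  have hi : Function.Injective (AbCubeLib.ptHom P (P.unop : Type u)) := fun f g hfg =>
    Quiver.Hom.unop_inj (CommAlgCat.hom_ext (WithConv.toConv_injective hfg))
  refine hi ?_
  rw [map_pow, map_one]
  exact powConv_card_eq (P.unop : Type u) h

variable {k : Type u} [Field k] (G : Over (Spec (CommRingCat.of k))) [GrpObj G] [IsCommMonObj G] [IsFinite G.hom]

/-- The algebra map of the global functions. -/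
noncomputable def structureHom : k →+* Γ(G.left, ⊤) :=
  ((Scheme.ΓSpecIso (CommRingCat.of k)).inv ≫ G.hom.appTop).hom

theorem pow_card_eq_one [Finite k]
    (h : ∀ a : Γ(G.left, ⊤), ∃ c : k, a ^ Nat.card k = structureHom G c) : (𝟙 G) ^ Nat.card k = 1 := by
  have : IsAffine G.left := isAffine_of_isAffineHom G.hom
  let φ : CommRingCat.of k ⟶ Γ(G.left, ⊤) := (Scheme.ΓSpecIso (CommRingCat.of k)).inv ≫ G.hom.appTop
  have hφ : G.left.isoSpec.inv ≫ G.hom = Spec.map φ := by
    rw [Iso.inv_comp_eq]
    simp only [φ, Spec.map_comp, ← Category.assoc, Scheme.isoSpec_hom_naturality]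
    simp [Scheme.isoSpec_Spec_hom]
  letI : Algebra k Γ(G.left, ⊤) := φ.hom.toAlgebra
  let A : Type u := Γ(G.left, ⊤)
  have hfin' : IsFinite (Spec.map φ) := by rw [← hφ]; infer_instance
  have : Module.Finite k A := (IsFinite.SpecMap_iff φ).1 hfin'
  let P : (CommAlgCat (CommRingCat.of k))ᵒᵖ := op (CommAlgCat.of (CommRingCat.of k) A)
  let e : G ≅ (algSpec (CommRingCat.of k)).obj P := Over.isoMk G.left.isoSpec (by
    show G.left.isoSpec.hom ≫ Spec.map φ = G.hom
    rw [← hφ, Iso.hom_inv_id_assoc])
  letI : GrpObj ((algSpec (CommRingCat.of k)).obj P) := GrpObj.ofIso e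
  have : IsMonHom e.hom := isMonHom_ofIso e
  have : IsMonHom e.inv := inferInstance
  letI : GrpObj P := AbCubeLib.algGrpObj P
  have hinj : ∀ T, Function.Injective (AbCubeLib.algSpecHom P T) := fun T a b hab =>
    algSpec.fullyFaithful.map_injective hab
  have hcomm : ∀ {T : (CommAlgCat (CommRingCat.of k))ᵒᵖ} (a b : T ⟶ P), a * b = b * a := fun {T} a b => by
    refine hinj T ?_
    rw [map_mul, map_mul]
    refine (cancel_mono e.inv).1 ?_
    rw [MonObj.mul_comp, MonObj.mul_comp, mul_comm]
  letI : Field (CommRingCat.of k) := ‹Field k›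
  haveI : Finite (CommRingCat.of k) := ‹Finite k›
  haveI : Module.Finite (CommRingCat.of k) (P.unop : Type u) := ‹Module.Finite k A›
  have hP : (𝟙 P) ^ Nat.card k = 1 := id_pow_card_eq_one (R := (CommRingCat.of k)) P hcomm h
  have h2 := congrArg (AbCubeLib.algSpecHom P P) hP
  rw [map_pow, map_one] at h2
  have h3 : (AbCubeLib.algSpecHom P P) (𝟙 P) = 𝟙 _ := (algSpec (CommRingCat.of k)).map_id P
  rw [h3] at h2
  have h4 : (e.hom ≫ 𝟙 _ ≫ e.inv) ^ Nat.card k = 1 := by
    rw [← MonObj.comp_pow, ← MonObj.pow_comp, h2, MonObj.one_comp, MonObj.comp_one]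
  rwa [Category.id_comp, Iso.hom_inv_id] at h4

omit [IsCommMonObj G] [IsFinite G.hom] in
/-- The structure map on functions, read through an affine identification. -/
theorem specMap_structureHom [IsAffine G.left] :
    Spec.map (CommRingCat.ofHom (structureHom G)) = G.left.isoSpec.inv ≫ G.hom := by
  rw [eq_comm, Iso.inv_comp_eq]
  simp only [structureHom, CommRingCat.ofHom_hom, Spec.map_comp, ← Category.assoc, Scheme.isoSpec_hom_naturality]
  simp [Scheme.isoSpec_Spec_hom]

end Groth.Agent.AbVarLib
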