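import Groth.Agent.AbCubeLib.PRankBound
import Mathlib.RingTheory.DiscreteValuationRing.Basic

/-!
# The kernel of reduction has no torsion when the absolute ramification is small

Translation by a section reducing to the origin is congruent to the identity on the local ring at the origin, so the
iterated differences of the evaluations decrease in valuation; the binomial formula then isolates the linear term.
-/

set_option autoImplicit false
set_option backward.isDefEq.respectTransparency.types false
set_option linter.style.haveILetI false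
set_option maxHeartbeats 1000000

universe u

open CategoryTheory CategoryTheory.Limits MonoidalCategory CartesianMonoidalCategory AlgebraicGeometry MonObj

namespace Groth.Agent.AbVarLib.KernelReduction

section Alg

variable {R : Type u} [CommRing R] [IsDomain R] [IsDiscreteValuationRing R]
  {M : Type u} [AddCommGroup M] [Module R M]

open IsLocalRing

/-- If an endomorphism moves everything into `𝔪 ^ i` then its iterates move into the powers. -/
theorem pow_apply_mem (Δ : Module.End R M) (i : ℕ)
    (h : ∀ z, Δ z ∈ (maximalIdeal R ^ i) • (⊤ : Submodule R M)) :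
    ∀ (l : ℕ) (z : M), (Δ ^ l) z ∈ (maximalIdeal R ^ (i * l)) • (⊤ : Submodule R M) := by
  intro l
  induction l with
  | zero =>
    intro z
    rw [Nat.mul_zero, pow_zero (M := Ideal R), Ideal.one_eq_top, Submodule.top_smul]
    trivial
  | succ l ih =>
    intro z
    rw [pow_succ', Module.End.mul_apply]
    have h1 := Submodule.mem_map_of_mem (f := Δ) (ih z)
    rw [Submodule.map_smul''] at h1
    have hsub : (⊤ : Submodule R M).map Δ ≤ (maximalIdeal R ^ i) • ⊤ := by
      rintro _ ⟨w, -, rfl⟩
      exact h w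
    have h2 := Submodule.smul_mono (le_refl (maximalIdeal R ^ (i * l))) hsub h1
    rw [← Submodule.mul_smul, ← pow_add] at h2
    rwa [Nat.mul_succ]

/-- Evaluations preserve the filtration. -/
theorem apply_mem (ev : M →ₗ[R] R) {j : ℕ} {z : M} (h : z ∈ (maximalIdeal R ^ j) • (⊤ : Submodule R M)) :
    ev z ∈ maximalIdeal R ^ j := by
  have h1 := Submodule.mem_map_of_mem (f := ev) h
  rw [Submodule.map_smul''] at h1
  have h2 : (maximalIdeal R ^ j) • ((⊤ : Submodule R M).map ev) ≤ maximalIdeal R ^ j := by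
    rw [Submodule.smul_le]
    intro r hr w _
    exact Ideal.mul_mem_right w _ hr
  exact h2 h1

/-- The linear term survives. -/
theorem linear_vanish (Δ : Module.End R M) (ev : M →ₗ[R] R) {ℓ : ℕ} (hℓ : ℓ.Prime) (hℓ0 : (ℓ : R) ≠ 0)
    (hv : (ℓ : R) ∉ maximalIdeal R ^ (ℓ - 1)) {i : ℕ} (hi : 1 ≤ i)
    (hΔ : ∀ z, Δ z ∈ (maximalIdeal R ^ i) • (⊤ : Submodule R M)) (z : M)
    (hp : ev (((1 + Δ) ^ ℓ) z) = ev z) : ev (Δ z) ∈ maximalIdeal R ^ (i + 1) := by
  obtain ⟨π, hπ⟩ := IsDiscreteValuationRing.exists_irreducible R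
  obtain ⟨e, u, hu⟩ := IsDiscreteValuationRing.eq_unit_mul_pow_irreducible hℓ0 hπ
  have hmax : ∀ j, maximalIdeal R ^ j = Ideal.span {π ^ j} := fun j => by
    rw [hπ.maximalIdeal_eq, Ideal.span_singleton_pow]
  have he : e + 1 ≤ ℓ - 1 := by
    by_contra h
    refine hv ?_
    rw [hmax, Ideal.mem_span_singleton, hu]
    exact dvd_mul_of_dvd_right (pow_dvd_pow _ (by omega)) _
  have hℓe : (ℓ : R) ∈ maximalIdeal R ^ e := by
    rw [hmax, Ideal.mem_span_singleton, hu]
    exact dvd_mul_left _ _
  -- binomial expansion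
  have hexp : ev (((1 + Δ) ^ ℓ) z) = ∑ l ∈ Finset.range (ℓ + 1), (Nat.choose ℓ l : R) * ev ((Δ ^ l) z) := by
    rw [add_comm 1 Δ, (Commute.one_right Δ).add_pow, LinearMap.sum_apply, map_sum]
    refine Finset.sum_congr rfl fun l _ => ?_
    rw [one_pow, _root_.mul_one, (Nat.cast_commute _ _).symm.eq, Module.End.mul_apply, Module.End.natCast_apply,
      map_nsmul, nsmul_eq_mul]
  rw [hexp, Finset.sum_range_succ', Nat.choose_zero_right, Nat.cast_one, _root_.one_mul, pow_zero,
    Module.End.one_apply, add_eq_right] at hp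
  obtain ⟨ℓ', rfl⟩ : ∃ ℓ', ℓ = ℓ' + 1 := ⟨ℓ - 1, (Nat.succ_pred_eq_of_pos hℓ.pos).symm⟩
  rw [Finset.sum_range_succ', Nat.choose_one_right, pow_one] at hp
  have hrest : ∑ l ∈ Finset.range ℓ', (Nat.choose (ℓ' + 1) (l + 1 + 1) : R) * ev ((Δ ^ (l + 1 + 1)) z) ∈
      maximalIdeal R ^ (e + i + 1) := by
    refine Ideal.sum_mem _ fun l hl => ?_
    rw [Finset.mem_range] at hl
    have hev := apply_mem ev (pow_apply_mem Δ i hΔ (l + 1 + 1) z)
    by_cases hll : l + 1 + 1 < ℓ' + 1
    · obtain ⟨c, hc⟩ := hℓ.dvd_choose_self (Nat.succ_ne_zero _) hll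
      rw [hc, Nat.cast_mul]
      refine Ideal.pow_le_pow_right (m := e + i + 1) (n := e + i * (l + 1 + 1)) ?_ ?_
      · have h1 : i * 2 ≤ i * (l + 1 + 1) := Nat.mul_le_mul_left i (by omega)
        omega
      · rw [pow_add]
        exact Ideal.mul_mem_mul (Ideal.mul_mem_right _ _ hℓe) hev
    · refine Ideal.mul_mem_left _ _ (Ideal.pow_le_pow_right (m := e + i + 1) ?_ hev)
      have hl' : l + 1 + 1 = ℓ' + 1 := by omega
      rw [hl', Nat.mul_succ]
      have h1 : 1 * ℓ' ≤ i * ℓ' := Nat.mul_le_mul_right ℓ' hi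
      omega
  have hlin : ((ℓ' + 1 : ℕ) : R) * ev (Δ z) ∈ maximalIdeal R ^ (e + i + 1) := by
    rw [eq_neg_of_add_eq_zero_right hp]
    exact Ideal.neg_mem_iff _ |>.2 hrest
  have hv1 := apply_mem ev (hΔ z)
  rw [hmax, Ideal.mem_span_singleton] at hv1 hlin ⊢
  obtain ⟨c, hc⟩ := hv1
  obtain ⟨d, hd⟩ := hlin
  rw [hc, hu] at hd
  have : (u : R) * c = π * d := by
    have hne : π ^ (e + i) ≠ 0 := pow_ne_zero _ hπ.ne_zero
    refine mul_left_cancel₀ hne ?_
    rw [pow_succ] at hd
    rw [pow_add] at hd ⊢
    calc π ^ e * π ^ i * ((u : R) * c) = (u : R) * π ^ e * (π ^ i * c) := by ring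
      _ = _ := hd
      _ = _ := by ring
  rw [hc, pow_succ]
  refine mul_dvd_mul_left _ ?_
  exact (Units.dvd_mul_left (u := u)).1 ⟨d, this⟩

end Alg

section Geo

variable {R : Type u} [CommRing R] {A : Over (Spec (CommRingCat.of R))} [GrpObj A]

local notation "U" => (𝟙_ (Over (Spec (CommRingCat.of R))))

theorem comp_translate {T : Over (Spec (CommRingCat.of R))} (w : T ⟶ A) (x : U ⟶ A) :
    w ≫ (𝟙 A * (toUnit A ≫ x)) = w * (toUnit T ≫ x) := by
  rw [MonObj.comp_mul, Category.comp_id, ← Category.assoc, toUnit_unique (w ≫ toUnit A) (toUnit T)]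

variable [IsDomain R] [IsDiscreteValuationRing R] [IsCommMonObj A]

open IsLocalRing

theorem eq_one_of_pow_prime (x : U ⟶ A) {ℓ : ℕ} (hℓ : ℓ.Prime) (hℓ0 : (ℓ : R) ≠ 0)
    (hv : (ℓ : R) ∉ maximalIdeal R ^ (ℓ - 1)) (hx : x ^ ℓ = 1)
    (hred : x.left (closedPoint R) = η[A].left (closedPoint R)) : x = 1 := by
  let c₀ := η[A].left (closedPoint R)
  let O := A.left.presheaf.stalk c₀
  obtain ⟨φ, hφ⟩ := Spec.map_surjective (A.left.fromSpecStalk c₀ ≫ A.hom)
  letI : Algebra R O := φ.hom.toAlgebra
  have halg : Spec.map (CommRingCat.ofHom (algebraMap R O)) = A.left.fromSpecStalk c₀ ≫ A.hom := hφ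
  -- evaluations at sections through the closed origin
  have hev : ∀ y : U ⟶ A, y.left (closedPoint R) = c₀ → ∃ ev : O →ₐ[R] R,
      Spec.map (CommRingCat.ofHom ev.toRingHom) ≫ A.left.fromSpecStalk c₀ = y.left ∧ IsLocalHom ev.toRingHom := by
    intro y hy
    obtain ⟨Ψ, hΨ⟩ := AbCubeLib.exists_stalk_factor (R := CommRingCat.of R) y.left hy
    have hc : ∀ r, Ψ.hom (algebraMap R O r) = r := by
      have h : Spec.map (CommRingCat.ofHom (Ψ.hom.comp (algebraMap R O))) = Spec.map (𝟙 (CommRingCat.of R)) := by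
        rw [← LieS.specMap_comp, halg, CommRingCat.ofHom_hom, ← Category.assoc, hΨ, Spec.map_id]
        exact Over.w y
      intro r
      exact congrArg (fun f : CommRingCat.of R ⟶ CommRingCat.of R => f.hom r) (Spec.map_injective h)
    let ev : O →ₐ[R] R := { Ψ.hom with commutes' := hc }
    refine ⟨ev, hΨ, ?_⟩
    have h2 : A.left.fromSpecStalk c₀ (Spec.map Ψ (closedPoint R)) = A.left.fromSpecStalk c₀ (closedPoint O) := by
      rw [Scheme.fromSpecStalk_closedPoint]
      show (Spec.map Ψ ≫ A.left.fromSpecStalk c₀) (closedPoint R) = c₀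
      rw [hΨ, hy]
    have h3 := (A.left.fromSpecStalk c₀).isEmbedding.injective h2
    exact (isLocalHom_iff_comap_closedPoint (R := (O : Type u)) (S := R) Ψ.hom).2 h3
  obtain ⟨εe, hεe, hεel⟩ := hev η[A] rfl
  obtain ⟨εx, hεx, hεxl⟩ := hev x hred
  have hone : (1 : U ⟶ A) = η[A] := by rw [MonObj.one_eq_one]
  by_contra hne
  -- the differences lie in the maximal ideal
  have hD1 : ∀ f, εx f - εe f ∈ maximalIdeal R := by
    intro f
    have hm : f - algebraMap R O (εe f) ∈ maximalIdeal O := by
      refine (mem_maximalIdeal _).2 fun hu => ?_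
      have := hu.map εe
      rw [map_sub, AlgHom.commutes, Algebra.algebraMap_self, RingHom.id_apply, sub_self] at this
      exact not_isUnit_zero this
    have h := map_nonunit εx.toRingHom _ hm
    rw [AlgHom.toRingHom_eq_coe, RingHom.coe_coe, map_sub, AlgHom.commutes, Algebra.algebraMap_self,
      RingHom.id_apply] at h
    exact h
  have hex : ∃ j f, εx f - εe f ∉ maximalIdeal R ^ (j + 1) := by
    by_contra hall
    push Not at hall
    refine hne ?_
    rw [hone]
    refine Over.OverMorphism.ext ?_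
    rw [← hεx, ← hεe]
    congr 3
    refine RingHom.ext fun f => sub_eq_zero.1 ?_
    show εx f - εe f = 0
    rw [← Ideal.mem_bot, ← Ideal.iInf_pow_eq_bot_of_isLocalRing (maximalIdeal R) (maximalIdeal.isMaximal R).ne_top,
      Ideal.mem_iInf]
    intro j
    exact Ideal.pow_le_pow_right (Nat.le_succ j) (hall j f)
  classical
  let i := Nat.find hex
  obtain ⟨f₀, hf₀⟩ : ∃ f, εx f - εe f ∉ maximalIdeal R ^ (i + 1) := Nat.find_spec hex
  have hi : 1 ≤ i := by
    by_contra h
    rw [show i = 0 by omega] at hf₀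
    exact hf₀ (by simpa using hD1 f₀)
  have hDi : ∀ f, εx f - εe f ∈ maximalIdeal R ^ i := by
    intro f
    have := Nat.find_min hex (show i - 1 < i by omega)
    push Not at this
    simpa [show i - 1 + 1 = i by omega] using this f
  -- the translation
  let t : A ⟶ A := 𝟙 A * (toUnit A ≫ x)
  have hyt : ∀ y : U ⟶ A, y ≫ t = y * x := fun y => by
    show y ≫ (𝟙 A * (toUnit A ≫ x)) = _
    rw [comp_translate, toUnit_unique (toUnit U) (𝟙 U), Category.id_comp]
  have ht0 : (A.left.fromSpecStalk c₀ ≫ t.left) (closedPoint O) = c₀ := by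
    show t.left (A.left.fromSpecStalk c₀ (closedPoint O)) = c₀
    rw [Scheme.fromSpecStalk_closedPoint]
    show (η[A] ≫ t).left (closedPoint R) = c₀
    rw [hyt, ← hone, _root_.one_mul]
    exact hred
  obtain ⟨T', hT'⟩ := AbCubeLib.exists_stalk_factor (R := O) (A.left.fromSpecStalk c₀ ≫ t.left) ht0
  have hTc : ∀ r, T'.hom (algebraMap R O r) = algebraMap R O r := by
    have h : Spec.map (CommRingCat.ofHom (T'.hom.comp (algebraMap R O))) =
        Spec.map (CommRingCat.ofHom (algebraMap R O)) := by
      rw [← LieS.specMap_comp, halg, CommRingCat.ofHom_hom, ← Category.assoc, hT', Category.assoc, Over.w]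
    intro r
    exact congrArg (fun f : CommRingCat.of R ⟶ O => f.hom r) (Spec.map_injective h)
  let τ : O →ₐ[R] O := { T'.hom with commutes' := hTc }
  -- the translation is congruent to the identity
  have hτ : ∀ f, τ f - f ∈ (maximalIdeal R ^ i).map (algebraMap R O) := by
    intro f
    let I := (maximalIdeal R ^ i).map (algebraMap R O)
    let Q := CommRingCat.of (O ⧸ I)
    let q : O ⟶ Q := CommRingCat.ofHom (Ideal.Quotient.mk I)
    let W : Over (Spec (CommRingCat.of R)) := Over.mk (Spec.map q ≫ A.left.fromSpecStalk c₀ ≫ A.hom)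
    let w : W ⟶ A := Over.homMk (Spec.map q ≫ A.left.fromSpecStalk c₀) (Category.assoc _ _ _)
    have hWhom : W.hom = Spec.map (CommRingCat.ofHom ((Ideal.Quotient.mk I).comp (algebraMap R O))) := by
      show Spec.map q ≫ A.left.fromSpecStalk c₀ ≫ A.hom = _
      rw [← halg, show q = CommRingCat.ofHom (Ideal.Quotient.mk I) from rfl, LieS.specMap_comp]
    have hyW : ∀ (y : U ⟶ A) (ev : O →ₐ[R] R),
        Spec.map (CommRingCat.ofHom ev.toRingHom) ≫ A.left.fromSpecStalk c₀ = y.left →
        (toUnit W ≫ y).left = Spec.map (CommRingCat.ofHom (((Ideal.Quotient.mk I).comp (algebraMap R O)).comp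
          ev.toRingHom)) ≫ A.left.fromSpecStalk c₀ := by
      intro y ev hy
      rw [← LieS.specMap_comp, Category.assoc, hy, ← hWhom, Over.comp_left]
      exact congrArg (· ≫ y.left) ((Over.w (toUnit W)).symm.trans (Category.comp_id _))
    have hconst : toUnit W ≫ x = 1 := by
      rw [← MonObj.comp_one (toUnit W), hone]
      refine Over.OverMorphism.ext ?_
      rw [hyW x εx hεx, hyW η[A] εe hεe]
      congr 3
      refine RingHom.ext fun g => (Ideal.Quotient.eq).2 ?_
      rw [← map_sub]
      exact Ideal.mem_map_of_mem _ (hDi g)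
    have hwt : w ≫ t = w := by
      show w ≫ (𝟙 A * (toUnit A ≫ x)) = w
      rw [comp_translate, hconst, _root_.mul_one]
    have h : Spec.map (T' ≫ q) ≫ A.left.fromSpecStalk c₀ = Spec.map q ≫ A.left.fromSpecStalk c₀ := by
      rw [Spec.map_comp, Category.assoc, hT', ← Category.assoc]
      exact congrArg CommaMorphism.left hwt
    have h2 := congrArg (fun g : O ⟶ Q => g.hom f) (Spec.map_injective ((cancel_mono _).1 h))
    exact (Ideal.Quotient.eq).1 h2
  -- evaluation of the iterates
  have hcomp : ∀ (y : U ⟶ A) (ev : O →ₐ[R] R), Spec.map (CommRingCat.ofHom ev.toRingHom) ≫ A.left.fromSpecStalk c₀ = y.left →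
      Spec.map (CommRingCat.ofHom (ev.comp τ).toRingHom) ≫ A.left.fromSpecStalk c₀ = (y * x).left := by
    intro y ev hy
    rw [show (ev.comp τ).toRingHom = ev.toRingHom.comp τ.toRingHom from rfl, ← LieS.specMap_comp, Category.assoc]
    refine (congrArg (_ ≫ ·) hT').trans ?_
    rw [← Category.assoc, hy, ← Over.comp_left, hyt]
  have hiter : ∀ m : ℕ, Spec.map (CommRingCat.ofHom ((εe.comp (τ ^ m)).toRingHom)) ≫ A.left.fromSpecStalk c₀ =
      (x ^ m).left := by
    intro m
    induction m with
    | zero => rw [pow_zero, pow_zero, hone]; exact hεe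
    | succ m ih =>
      rw [pow_succ x, ← hcomp (x ^ m) _ ih]
      congr 3
  have hτℓ : ∀ f, εe ((τ ^ ℓ) f) = εe f := by
    intro f
    have h := hiter ℓ
    rw [hx, hone, ← hεe] at h
    exact RingHom.congr_fun (congrArg CommRingCat.Hom.hom (Spec.map_injective ((cancel_mono _).1 h))) f
  have hεx' : ∀ f, εe (τ f) = εx f := by
    intro f
    have h := hcomp η[A] εe hεe
    rw [← hone, _root_.one_mul, ← hεx] at h
    exact RingHom.congr_fun (congrArg CommRingCat.Hom.hom (Spec.map_injective ((cancel_mono _).1 h))) f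
  let Δ : Module.End R O := τ.toLinearMap - 1
  have hΔ : ∀ z, Δ z ∈ (maximalIdeal R ^ i) • (⊤ : Submodule R O) := by
    intro z
    rw [Ideal.smul_top_eq_map]
    exact hτ z
  have hpowτ : ∀ m : ℕ, ∀ z, ((1 + Δ) ^ m) z = (τ ^ m) z := by
    intro m
    have h1 : (1 + Δ : Module.End R O) = τ.toLinearMap := add_sub_cancel _ _
    rw [h1]
    induction m with
    | zero => intro z; rfl
    | succ m ih => intro z; rw [pow_succ, pow_succ, Module.End.mul_apply, ih]; rfl
  have key := linear_vanish Δ εe.toLinearMap hℓ hℓ0 hv hi hΔ f₀ (by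
    show εe (((1 + Δ) ^ ℓ) f₀) = εe f₀
    rw [hpowτ, hτℓ])
  refine hf₀ ?_
  have e : εe.toLinearMap (Δ f₀) = εx f₀ - εe f₀ := by
    show εe (τ f₀ - f₀) = _
    rw [map_sub, hεx']
  rwa [e] at key

theorem eq_one_of_pow (x : U ⟶ A) (hv : ∀ ℓ : ℕ, ℓ.Prime → (ℓ : R) ≠ 0 ∧ (ℓ : R) ∉ maximalIdeal R ^ (ℓ - 1)) :
    ∀ n : ℕ, 0 < n → x ^ n = 1 → x.left (closedPoint R) = η[A].left (closedPoint R) → x = 1 := by
  intro n
  induction n using Nat.strong_induction_on generalizing x with
  | _ n ih =>
    intro hn hx hred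
    rcases Nat.lt_or_ge n 2 with h | h
    · rw [show n = 1 by omega, pow_one] at hx
      exact hx
    obtain ⟨ℓ, hℓ, hdvd⟩ := Nat.exists_prime_and_dvd (show n ≠ 1 by omega)
    obtain ⟨m, rfl⟩ := hdvd
    have hm : 0 < m := Nat.pos_of_mul_pos_left hn
    refine ih m ?_ x hm ?_ hred
    · have := hℓ.two_le
      nlinarith
    obtain ⟨hℓ0, hℓv⟩ := hv ℓ hℓ
    refine eq_one_of_pow_prime (x ^ m) hℓ hℓ0 hℓv (by rw [← pow_mul, mul_comm, hx]) ?_
    -- the power reduces to the origin
    have key : ∀ a b : U ⟶ A, a.left (closedPoint R) = η[A].left (closedPoint R) →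
        b.left (closedPoint R) = η[A].left (closedPoint R) → (a * b).left (closedPoint R) = η[A].left (closedPoint R) := by
      intro a b ha hb
      let k := ResidueField R
      let W : Over (Spec (CommRingCat.of R)) := Over.mk (Spec.map (CommRingCat.ofHom (residue R)))
      have hclosed : W.hom (closedPoint k) = closedPoint R := comap_closedPoint (residue R)
      have hW : ∀ a : U ⟶ A, a.left (closedPoint R) = η[A].left (closedPoint R) → toUnit W ≫ a = 1 := by
        intro a ha
        rw [← MonObj.comp_one (toUnit W), ← MonObj.one_eq_one]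
        refine Over.OverMorphism.ext ?_
        obtain ⟨Ψa, hΨa⟩ := AbCubeLib.exists_stalk_factor (R := CommRingCat.of R) a.left ha
        obtain ⟨Ψe, hΨe⟩ := AbCubeLib.exists_stalk_factor (R := CommRingCat.of R) η[A].left
          (x := η[A].left (closedPoint R)) rfl
        have htw : (toUnit W).left = W.hom := (Category.comp_id _).symm.trans (Over.w (toUnit W))
        rw [Over.comp_left, Over.comp_left, htw]
        refine (congrArg (W.hom ≫ ·) hΨa.symm).trans (Eq.trans ?_ (congrArg (W.hom ≫ ·) hΨe))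
        rw [← Category.assoc, ← Category.assoc]
        congr 1
        show Spec.map _ ≫ _ = Spec.map _ ≫ _
        rw [← Spec.map_comp, ← Spec.map_comp]
        congr 1
        refine CommRingCat.hom_ext (RingHom.ext fun f => ?_)
        obtain ⟨φ, hφ⟩ := Spec.map_surjective (A.left.fromSpecStalk (η[A].left (closedPoint R)) ≫ A.hom)
        have hs : ∀ (Ψ : A.left.presheaf.stalk (η[A].left (closedPoint R)) ⟶ CommRingCat.of R) (y : U ⟶ A),
            Spec.map Ψ ≫ A.left.fromSpecStalk _ = y.left → y.left (closedPoint R) = η[A].left (closedPoint R) →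
            IsLocalHom Ψ.hom ∧ ∀ r, Ψ.hom (φ.hom r) = r := by
          intro Ψ y hΨ hy
          constructor
          · have h2 : A.left.fromSpecStalk (η[A].left (closedPoint R)) (Spec.map Ψ (closedPoint R)) =
                A.left.fromSpecStalk (η[A].left (closedPoint R))
                  (closedPoint (A.left.presheaf.stalk (η[A].left (closedPoint R)))) := by
              rw [Scheme.fromSpecStalk_closedPoint]
              show (Spec.map Ψ ≫ A.left.fromSpecStalk _) (closedPoint R) = _
              rw [hΨ, hy]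
            exact (isLocalHom_iff_comap_closedPoint
              (R := (A.left.presheaf.stalk (η[A].left (closedPoint R)) : Type u)) (S := R) Ψ.hom).2
              ((A.left.fromSpecStalk _).isEmbedding.injective h2)
          · have h : Spec.map (φ ≫ Ψ) = Spec.map (𝟙 (CommRingCat.of R)) := by
              rw [Spec.map_comp, hφ, ← Category.assoc, hΨ, Spec.map_id]
              exact Over.w y
            intro r
            exact congrArg (fun f : CommRingCat.of R ⟶ CommRingCat.of R => f.hom r) (Spec.map_injective h)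
        obtain ⟨hla, hca⟩ := hs Ψa a hΨa ha
        obtain ⟨hle, hce⟩ := hs Ψe η[A] hΨe rfl
        show residue R (Ψa.hom f) = residue R (Ψe.hom f)
        have hm : f - φ.hom (Ψe.hom f) ∈ maximalIdeal _ := by
          refine (mem_maximalIdeal _).2 fun hu => ?_
          have := hu.map Ψe.hom
          rw [map_sub, hce, sub_self] at this
          exact not_isUnit_zero this
        have h := map_nonunit Ψa.hom _ hm
        rw [map_sub, hca] at h
        exact (Ideal.Quotient.eq).2 h
      have h1 : toUnit W ≫ (a * b) = toUnit W ≫ η[A] := by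
        rw [MonObj.comp_mul, hW a ha, hW b hb, _root_.one_mul, MonObj.one_eq_one, MonObj.comp_one]
      have htw : (toUnit W).left = W.hom := (Category.comp_id _).symm.trans (Over.w (toUnit W))
      have h2 := congrArg (fun g : W ⟶ A => g.left (closedPoint k)) h1
      simp only [Over.comp_left, htw, Scheme.Hom.comp_apply, hclosed] at h2
      exact h2
    clear ih hn hm hx h
    induction m with
    | zero => rw [pow_zero, ← MonObj.one_eq_one]
    | succ m ihm => rw [pow_succ]; exact key _ _ ihm hred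

end Geo

end Groth.Agent.AbVarLib.KernelReduction
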