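import Groth.Agent.AbSchLib.RigidityOver
import Groth.Agent.AbVarLib.HomFlat

/-!
# Rigidity without finiteness assumptions on the target, and translates of contracted subschemes
-/

universe u

open CategoryTheory Limits AlgebraicGeometry MonoidalCategory CartesianMonoidalCategory MonObj GrpObj TopologicalSpace

namespace Groth.Agent.AbVarLib

open Groth.Agent.AbSchLib (collapsedLocus)

variable {S X T Y : Scheme.{u}}

/-- If a fibre is contracted to a point then the morphism factors through the section near that fibre. -/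
theorem exists_opens_eq_comp_section_of_separated (p₀ : T ⟶ S) (q₀ : Y ⟶ S) (g : X ⟶ T) [Flat g]
    [LocallyOfFinitePresentation g] [UniversallyClosed g] [IsSeparated g] [GeometricallyConnected g]
    [GeometricallyReduced g] (e : T ⟶ X) (he : e ≫ g = 𝟙 T) (f : X ⟶ Y) (t : T)
    (ht : t ∈ collapsedLocus g f) :
    ∃ W : T.Opens, t ∈ W ∧ (g ⁻¹ᵁ W).ι ≫ f = (g ⁻¹ᵁ W).ι ≫ g ≫ e ≫ f := by
  set h := g ≫ e ≫ f with hh
  have hget : ∀ a, g (e a) = a := fun a => by rw [← Scheme.Hom.comp_apply, he]; rfl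
  have hconst : ∀ x, g x = t → f x = f (e t) ∧ h x = f (e t) := by
    intro x hx
    refine ⟨ht ⟨x, hx, rfl⟩ ⟨e t, hget t, rfl⟩, ?_⟩
    simp [hh, hx]
  obtain ⟨_, ⟨U, hU, rfl⟩, hyU, -⟩ :=
    Y.isBasis_affineOpens.exists_subset_of_mem_open (Set.mem_univ (f (e t))) isOpen_univ
  let G : X.Opens := f ⁻¹ᵁ U ⊓ h ⁻¹ᵁ U
  have hGc : IsClosed (g '' (G : Set X)ᶜ) := g.isClosedMap _ G.isOpen.isClosed_compl
  have htG : t ∉ g '' (G : Set X)ᶜ := by
    rintro ⟨x, hxG, hxt⟩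
    exact hxG ⟨show f x ∈ U from (hconst x hxt).1 ▸ hyU, show h x ∈ U from (hconst x hxt).2 ▸ hyU⟩
  obtain ⟨_, ⟨V, hV, rfl⟩, htV, hVG⟩ :=
    T.isBasis_affineOpens.exists_subset_of_mem_open (Set.mem_compl htG) hGc.isOpen_compl
  have hVG' : g ⁻¹ᵁ V ≤ G := fun x hx => by
    by_contra hc
    exact hVG hx ⟨x, hc, rfl⟩
  have hle : V ≤ e ⁻¹ᵁ (g ⁻¹ᵁ V) := fun a ha => show g (e a) ∈ V by rw [hget]; exact ha
  have heq : f.appLE U (g ⁻¹ᵁ V) (hVG'.trans inf_le_left) = h.appLE U (g ⁻¹ᵁ V) (hVG'.trans inf_le_right) := by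
    ext a
    rw [← sub_eq_zero]
    apply TopCat.Presheaf.section_ext X.sheaf
    intro x hx
    have hker : e.appLE (g ⁻¹ᵁ V) V hle
        (f.appLE U (g ⁻¹ᵁ V) (hVG'.trans inf_le_left) a - h.appLE U (g ⁻¹ᵁ V) (hVG'.trans inf_le_right) a) = 0 := by
      rw [map_sub, ← CommRingCat.comp_apply, ← CommRingCat.comp_apply, Scheme.Hom.appLE_comp_appLE,
        Scheme.Hom.appLE_comp_appLE, sub_eq_zero]
      congr 2
      simp [hh, reassoc_of% he]
    have hq := Groth.Agent.AbSchLib.germ_eq_zero_of_sectionG g e he V hle _ hker x hx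
    exact hq.trans (map_zero _).symm
  refine ⟨V, htV, ?_⟩
  have : IsAffine (U : Scheme.{u}) := hU
  have hf' : g ⁻¹ᵁ V ≤ f ⁻¹ᵁ U := hVG'.trans inf_le_left
  have hh' : g ⁻¹ᵁ V ≤ h ⁻¹ᵁ U := hVG'.trans inf_le_right
  rw [← Scheme.Hom.resLE_comp_ι f hf', ← Scheme.Hom.resLE_comp_ι h hh']
  congr 1
  apply ext_of_isAffine
  simp only [Scheme.Hom.appTop, Scheme.Hom.resLE_app_top]
  rw [heq]

theorem isClopen_collapsedLocus_of_separated (p₀ : T ⟶ S) (q₀ : Y ⟶ S) [IsSeparated q₀] (g : X ⟶ T) [Flat g]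
    [LocallyOfFinitePresentation g] [UniversallyClosed g] [IsSeparated g] [GeometricallyConnected g]
    [GeometricallyReduced g] (e : T ⟶ X) (he : e ≫ g = 𝟙 T) (f : X ⟶ Y) (hf : f ≫ q₀ = g ≫ p₀) :
    IsClopen (collapsedLocus g f) :=
  (Groth.Agent.AbSchLib.isClopen_collapsedLocus_of_local q₀ g e he f
    (by simp only [Category.assoc, hf, reassoc_of% he])
    fun t ht => exists_opens_eq_comp_section_of_separated p₀ q₀ g e he f t ht).1

section Translate

variable {K : Type u} [Field K] {X Z : Over (Spec (CommRingCat.of K))} [GrpObj X]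
  [IsProper Z.hom] [GeometricallyConnected Z.hom] [GeometricallyReduced Z.hom] [ConnectedSpace X.left]
  {Y : Scheme.{u}} (q : Y ⟶ Spec (CommRingCat.of K)) [IsSeparated q] (f : X.left ⟶ Y)

/-- Every translate of a contracted connected subscheme is contracted. -/
theorem subsingleton_image_translate (hf : f ≫ q = X.hom) (j : Z ⟶ X)
    (a : 𝟙_ (Over (Spec (CommRingCat.of K))) ⟶ Z) (hZ : ((j.left ≫ f) '' Set.univ).Subsingleton)
    (b : 𝟙_ (Over (Spec (CommRingCat.of K))) ⟶ X) :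
    (((((toUnit Z ≫ (b * (a ≫ j)⁻¹)) * j) : Z ⟶ X).left ≫ f) '' Set.univ).Subsingleton := by
  have : LocallyOfFinitePresentation Z.hom := inferInstance
  let g : (Z ⊗ X).left ⟶ X.left := pullback.snd Z.hom X.hom
  let d : Z ⊗ X ⟶ X := (snd Z X * (toUnit (Z ⊗ X) ≫ (a ≫ j)⁻¹)) * (fst Z X ≫ j)
  let e : X ⟶ Z ⊗ X := lift (toUnit X ≫ a) (𝟙 X)
  have he : e.left ≫ g = 𝟙 _ := by
    show e.left ≫ (snd Z X).left = _
    rw [← Over.comp_left, lift_snd]; rfl
  have hdq : (d.left ≫ f) ≫ q = g ≫ X.hom := by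
    rw [Category.assoc, hf, Over.w d]
    exact pullback.condition
  have hcl := isClopen_collapsedLocus_of_separated X.hom q g e.left he (d.left ≫ f) hdq
  have hline : ∀ (t : 𝟙_ (Over (Spec (CommRingCat.of K))) ⟶ X),
      lift (𝟙 Z) (toUnit Z ≫ t) ≫ d = (toUnit Z ≫ (t * (a ≫ j)⁻¹)) * j := by
    intro t
    simp only [d, MonObj.comp_mul, lift_snd, ← Category.assoc, lift_fst, Category.id_comp]
    rw [toUnit_unique (lift (𝟙 Z) (toUnit Z ≫ t) ≫ toUnit (Z ⊗ X)) (toUnit Z)]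
  have hfib : ∀ (t : 𝟙_ (Over (Spec (CommRingCat.of K))) ⟶ X) (w : (Z ⊗ X).left),
      g w = t.left (IsLocalRing.closedPoint K) →
      ∃ z : Z.left, (lift (𝟙 Z) (toUnit Z ≫ t)).left z = w := by
    intro t w hw
    obtain ⟨v, hv1, hv2⟩ := Scheme.Pullback.exists_preimage_pullback (f := g) (g := t.left) w _ hw
    let J := (lift (𝟙 Z) (toUnit Z ≫ t)).left
    have ht : t.left ≫ X.hom = 𝟙 _ := Over.w t
    have hsnd : pullback.snd g t.left = pullback.fst g t.left ≫ pullback.fst Z.hom X.hom ≫ Z.hom := by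
      rw [pullback.condition (f := Z.hom) (g := X.hom)]
      change _ = pullback.fst g t.left ≫ g ≫ X.hom
      rw [pullback.condition_assoc, ht]
      exact (Category.comp_id _).symm
    have hA1 : J ≫ pullback.fst Z.hom X.hom = 𝟙 Z.left := by
      show J ≫ (fst Z X).left = _
      rw [← Over.comp_left, lift_fst]; rfl
    have hA2 : J ≫ g = Z.hom ≫ t.left := by
      show J ≫ (snd Z X).left = _
      rw [← Over.comp_left, lift_snd]; rfl
    have hfac : pullback.fst g t.left = (pullback.fst g t.left ≫ pullback.fst Z.hom X.hom) ≫ J := by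
      apply pullback.hom_ext
      · rw [Category.assoc, hA1]
        exact (Category.comp_id _).symm
      · change pullback.fst g t.left ≫ g = (_ ≫ _) ≫ g
        rw [Category.assoc, hA2, pullback.condition, hsnd]
        simp only [Category.assoc]
    refine ⟨(pullback.fst g t.left ≫ pullback.fst Z.hom X.hom) v, ?_⟩
    rw [← hv1, ← Scheme.Hom.comp_apply, ← hfac]
  have h0 : (a ≫ j).left (IsLocalRing.closedPoint K) ∈ collapsedLocus g (d.left ≫ f) := by
    rintro _ ⟨w, hw, rfl⟩ _ ⟨w', hw', rfl⟩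
    obtain ⟨z, rfl⟩ := hfib (a ≫ j) w hw
    obtain ⟨z', rfl⟩ := hfib (a ≫ j) w' hw'
    have e1 : lift (𝟙 Z) (toUnit Z ≫ a ≫ j) ≫ d = j := by
      rw [hline, _root_.mul_inv_cancel, MonObj.comp_one, _root_.one_mul]
    have e2 : ∀ z, (d.left ≫ f) ((lift (𝟙 Z) (toUnit Z ≫ a ≫ j)).left z) = (j.left ≫ f) z := fun z => by
      rw [← Scheme.Hom.comp_apply, ← Category.assoc, ← Over.comp_left, e1]
    rw [e2, e2]
    exact hZ ⟨z, trivial, rfl⟩ ⟨z', trivial, rfl⟩
  have hb : b.left (IsLocalRing.closedPoint K) ∈ collapsedLocus g (d.left ≫ f) := by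
    rw [hcl.eq_univ ⟨_, h0⟩]
    trivial
  rintro _ ⟨z, -, rfl⟩ _ ⟨z', -, rfl⟩
  have e2 : ∀ z, ((((toUnit Z ≫ (b * (a ≫ j)⁻¹)) * j) : Z ⟶ X).left ≫ f) z =
      (d.left ≫ f) ((lift (𝟙 Z) (toUnit Z ≫ b)).left z) := fun z => by
    rw [← hline b, Over.comp_left, Category.assoc, Scheme.Hom.comp_apply]
  have e3 : ∀ z, g ((lift (𝟙 Z) (toUnit Z ≫ b)).left z) = b.left (IsLocalRing.closedPoint K) := fun z => by
    show ((lift (𝟙 Z) (toUnit Z ≫ b)).left ≫ (snd Z X).left) z = _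
    rw [← Over.comp_left, lift_snd, Over.comp_left, Scheme.Hom.comp_apply]
    exact congrArg b.left (Subsingleton.elim (α := ↥(Spec (CommRingCat.of K))) _ _)
  rw [e2, e2]
  exact hb ⟨_, e3 z, rfl⟩ ⟨_, e3 z', rfl⟩

end Translate

end Groth.Agent.AbVarLib
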