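import Groth.Agent.AbVarLib.PowEtale
import Groth.Agent.AbVarLib.MulIsogeny
import Groth.Agent.FEtLib.EqLocus
import Groth.Agent.FlatMorWeight.Comp
import Groth.Agent.CAlgH3.RegularLocal
import Groth.Prelude.Def_AbDual

/-!
# Torsion points of an abelian scheme over a normal local domain inject into those of the special fibre
-/

set_option autoImplicit false
set_option backward.isDefEq.respectTransparency.types false
set_option linter.style.haveILetI false

universe u

open CategoryTheory CategoryTheory.Limits MonoidalCategory CartesianMonoidalCategory AlgebraicGeometry MonObj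

namespace Groth.Agent.AbVarLib.TorsReduction

section Alg

variable {R B : Type u} [CommRing R] [CommRing B] [Algebra R B] [Module.Finite R B]

theorem finite_algHom (L : Type u) [Field L] [Algebra R L] : Finite (B →ₐ[R] L) := by
  haveI : Fintype ((TensorProduct R L B) →ₐ[L] L) := minpoly.AlgHom.fintype L (TensorProduct R L B) L
  refine Finite.of_injective
    (fun f : B →ₐ[R] L => Algebra.TensorProduct.lift (AlgHom.id L L) f fun _ _ => mul_comm _ _) fun f g h => ?_
  refine AlgHom.ext fun b => ?_
  have := DFunLike.congr_fun h ((1 : L) ⊗ₜ[R] b)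
  simpa using this

variable [IsDomain R] [IsIntegrallyClosed R]

theorem exists_algHom_lift (f : B →ₐ[R] FractionRing R) :
    ∃ f₀ : B →ₐ[R] R, (Algebra.ofId R (FractionRing R)).comp f₀ = f := by
  have h : ∀ b, ∃ r : R, algebraMap R (FractionRing R) r = f b := fun b =>
    IsIntegrallyClosed.algebraMap_eq_of_integral ((Algebra.IsIntegral.isIntegral (R := R) b).map f)
  choose r hr using h
  have hinj := IsFractionRing.injective R (FractionRing R)
  refine ⟨{ toFun := r, map_one' := hinj (by rw [hr, map_one, map_one]),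
            map_mul' := fun a b => hinj (by rw [hr, map_mul, map_mul, hr, hr]),
            map_zero' := hinj (by rw [hr, map_zero, map_zero]),
            map_add' := fun a b => hinj (by rw [hr, map_add, map_add, hr, hr]),
            commutes' := fun c => hinj (by rw [hr, AlgHom.commutes]; rfl) }, AlgHom.ext hr⟩

theorem natCard_algHom_le [IsLocalRing R] (hB : Etale (Spec.map (CommRingCat.ofHom (algebraMap R B)))) :
    Nat.card (B →ₐ[R] FractionRing R) ≤ Nat.card (B →ₐ[R] IsLocalRing.ResidueField R) := by
  choose f₀ hf₀ using exists_algHom_lift (R := R) (B := B)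
  haveI := finite_algHom (R := R) (B := B) (IsLocalRing.ResidueField R)
  refine Nat.card_le_card_of_injective
    (fun f => (Algebra.ofId R (IsLocalRing.ResidueField R)).comp (f₀ f)) fun f g h => ?_
  let q : Spec (CommRingCat.of B) ⟶ Spec (CommRingCat.of R) := Spec.map (CommRingCat.ofHom (algebraMap R B))
  haveI : Etale q := hB
  let res : Spec (CommRingCat.of (IsLocalRing.ResidueField R)) ⟶ Spec (CommRingCat.of R) :=
    Spec.map (CommRingCat.ofHom (algebraMap R (IsLocalRing.ResidueField R)))
  let pt : (B →ₐ[R] R) → (Spec (CommRingCat.of R) ⟶ Spec (CommRingCat.of B)) :=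
    fun φ => Spec.map (CommRingCat.ofHom φ.toRingHom)
  have hpt : ∀ φ, pt φ ≫ q = 𝟙 _ := fun φ => by
    show Spec.map _ ≫ Spec.map _ = _
    rw [← Spec.map_comp, ← CommRingCat.ofHom_comp, show φ.toRingHom.comp (algebraMap R B) = RingHom.id R from
      RingHom.ext fun r => φ.commutes r, CommRingCat.ofHom_id, Spec.map_id]
  haveI : PreconnectedSpace (Spec (CommRingCat.of R)) := inferInstance
  have hres : res ≫ pt (f₀ f) = res ≫ pt (f₀ g) := by
    show Spec.map _ ≫ Spec.map _ = Spec.map _ ≫ Spec.map _
    rw [← Spec.map_comp, ← Spec.map_comp, ← CommRingCat.ofHom_comp, ← CommRingCat.ofHom_comp]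
    exact congrArg (fun k : B →ₐ[R] IsLocalRing.ResidueField R => Spec.map (CommRingCat.ofHom k.toRingHom)) h
  have e := FEtLib.eq_of_preconnected q (pt (f₀ f)) (pt (f₀ g)) res hres ((hpt _).trans (hpt _).symm)
  have e' : f₀ f = f₀ g := AlgHom.ext fun b =>
    RingHom.congr_fun (congrArg CommRingCat.Hom.hom (Spec.map_injective e)) b
  rw [← hf₀ f, ← hf₀ g, e']

end Alg

variable {R : Type u} [CommRing R] (A : Over (Spec (CommRingCat.of R))) [GrpObj A] [IsCommMonObj A]

/-- The point spectrum. -/
noncomputable abbrev pt (L : Type u) [Field L] [Algebra R L] : Over (Spec (CommRingCat.of R)) :=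
  Over.mk (Spec.map (CommRingCat.ofHom (algebraMap R L)))

theorem exists_algebra [IsProper A.hom] [Smooth A.hom] (m : ℕ) (hm : IsUnit (m : R)) :
    ∃ (B : Type u) (_ : CommRing B) (_ : Algebra R B), Module.Finite R B ∧
      Etale (Spec.map (CommRingCat.ofHom (algebraMap R B))) ∧
      ∀ (L : Type u) [Field L] [Algebra R L],
        Nonempty (AbDual.torsPts A m (pt (R := R) L) ≃ (B →ₐ[R] L)) := by
  let S := Spec (CommRingCat.of R)
  have hu : IsUnit (((m : ℤ)) : Γ(S, ⊤)) := by
    have := hm.map (Scheme.ΓSpecIso (CommRingCat.of R)).inv.hom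
    simpa using this
  have het := etale_zpow A (m : ℤ) hu
  rw [zpow_natCast] at het
  let f := (𝟙 A ^ m : A ⟶ A)
  let e := (1 : Over.mk (𝟙 S) ⟶ A)
  let P := Limits.pullback e.left f.left
  let p : P ⟶ S := Limits.pullback.fst e.left f.left
  haveI : Etale f.left := het
  haveI : IsProper f.left := by
    haveI : IsProper (f.left ≫ A.hom) := by rw [Over.w]; infer_instance
    exact IsProper.of_comp f.left A.hom
  haveI hp : Etale p := MorphismProperty.pullback_fst (P := @Etale) _ _ het
  haveI : IsProper p := MorphismProperty.pullback_fst (P := @IsProper) _ _ inferInstance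
  haveI : LocallyQuasiFinite p := FlatMorWeight.locallyQuasiFinite_of_etale p
  haveI : IsFinite p := (IsFinite.iff_isProper_and_locallyQuasiFinite p).2 ⟨inferInstance, inferInstance⟩
  haveI : IsAffine P := isAffine_of_isAffineHom p
  obtain ⟨φ, hφ⟩ := Spec.map_surjective (P.isoSpec.inv ≫ p)
  letI : Algebra R Γ(P, ⊤) := φ.hom.toAlgebra
  have hφ' : Spec.map (CommRingCat.ofHom (algebraMap R Γ(P, ⊤))) = P.isoSpec.inv ≫ p := hφ
  have hfin : IsFinite (Spec.map (CommRingCat.ofHom (algebraMap R Γ(P, ⊤)))) := by rw [hφ']; infer_instance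
  refine ⟨Γ(P, ⊤), inferInstance, inferInstance, RingHom.finite_algebraMap.1 ((IsFinite.SpecMap_iff _).1 hfin),
    by rw [hφ']; infer_instance, fun L _ _ => ⟨?_⟩⟩
  have hpow : ∀ a : pt (R := R) L ⟶ A, a.left ≫ f.left = (a ^ m).left := fun a => by
    rw [← Over.comp_left, MonObj.comp_pow, Category.comp_id]
  have hone : (1 : pt (R := R) L ⟶ A).left = (pt (R := R) L).hom ≫ e.left := by
    let q : pt (R := R) L ⟶ Over.mk (𝟙 S) := Over.homMk (pt (R := R) L).hom (Category.comp_id _)
    rw [← show q ≫ e = 1 from MonObj.comp_one q]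
    rfl
  have hlift : ∀ a : AbDual.torsPts A m (pt (R := R) L), (pt (R := R) L).hom ≫ e.left = a.1.left ≫ f.left := fun a => by
    rw [hpow, (AbDual.mem_torsPts A _).1 a.2, hone]
  have hsnd : ∀ (s : Spec (CommRingCat.of L) ⟶ P), s ≫ p = Spec.map (CommRingCat.ofHom (algebraMap R L)) →
      (s ≫ Limits.pullback.snd e.left f.left) ≫ A.hom = Spec.map (CommRingCat.ofHom (algebraMap R L)) := by
    intro s hs
    rw [Category.assoc, ← Over.w f, ← Limits.pullback.condition_assoc, Over.w e]
    show s ≫ p ≫ 𝟙 _ = _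
    rw [Category.comp_id, hs]
  let toSec : AbDual.torsPts A m (pt (R := R) L) ≃
      {s : Spec (CommRingCat.of L) ⟶ P // s ≫ p = Spec.map (CommRingCat.ofHom (algebraMap R L))} :=
    { toFun := fun a => ⟨Limits.pullback.lift _ a.1.left (hlift a), Limits.pullback.lift_fst _ _ _⟩
      invFun := fun s => ⟨Over.homMk (s.1 ≫ Limits.pullback.snd e.left f.left) (hsnd s.1 s.2), by
        refine (AbDual.mem_torsPts A _).2 (Over.OverMorphism.ext ?_)
        rw [← hpow, hone]
        show (s.1 ≫ Limits.pullback.snd e.left f.left) ≫ f.left = _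
        rw [Category.assoc, ← Limits.pullback.condition, ← Category.assoc]
        exact congrArg (· ≫ e.left) s.2⟩
      left_inv := fun a => Subtype.ext (Over.OverMorphism.ext (Limits.pullback.lift_snd _ _ _))
      right_inv := fun s => Subtype.ext (Limits.pullback.hom_ext
        ((Limits.pullback.lift_fst _ _ _).trans s.2.symm) (Limits.pullback.lift_snd _ _ _)) }
  refine toSec.trans (Equiv.symm ?_)
  refine Equiv.ofBijective (fun g : Γ(P, ⊤) →ₐ[R] L =>
    (⟨Spec.map (CommRingCat.ofHom g.toRingHom) ≫ P.isoSpec.inv, by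
      rw [Category.assoc, ← hφ', ← Spec.map_comp, ← CommRingCat.ofHom_comp,
        show g.toRingHom.comp (algebraMap R Γ(P, ⊤)) = algebraMap R L from RingHom.ext g.commutes]⟩ :
      {s : Spec (CommRingCat.of L) ⟶ P // s ≫ p = Spec.map (CommRingCat.ofHom (algebraMap R L))})) ⟨?_, ?_⟩
  · intro g g' h
    have := Spec.map_injective ((cancel_mono _).1 (congrArg Subtype.val h))
    exact AlgHom.ext fun b => RingHom.congr_fun (congrArg CommRingCat.Hom.hom this) b
  · rintro ⟨s, hs⟩
    obtain ⟨ψ, hψ⟩ := Spec.map_surjective (s ≫ P.isoSpec.hom)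
    have hc : ψ.hom.comp (algebraMap R Γ(P, ⊤)) = algebraMap R L := by
      have : Spec.map (CommRingCat.ofHom (ψ.hom.comp (algebraMap R Γ(P, ⊤)))) =
          Spec.map (CommRingCat.ofHom (algebraMap R L)) := by
        rw [CommRingCat.ofHom_comp, Spec.map_comp, CommRingCat.ofHom_hom, hψ, hφ', Category.assoc,
          Iso.hom_inv_id_assoc, hs]
      exact congrArg CommRingCat.Hom.hom (Spec.map_injective this)
    refine ⟨{ ψ.hom with commutes' := RingHom.congr_fun hc }, Subtype.ext ?_⟩
    show Spec.map ψ ≫ P.isoSpec.inv = s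
    rw [hψ, Category.assoc, Iso.hom_inv_id, Category.comp_id]

/-- Over a normal local domain in which `m` is a unit the torsion of the generic fibre is at most that of the special one. -/
theorem natCard_torsPts_le [IsDomain R] [IsLocalRing R] [IsIntegrallyClosed R] [IsProper A.hom] [Smooth A.hom] (m : ℕ)
    (hm : IsUnit (m : R)) :
    Nat.card (AbDual.torsPts A m (pt (R := R) (FractionRing R))) ≤
      Nat.card (AbDual.torsPts A m (pt (R := R) (IsLocalRing.ResidueField R))) := by
  obtain ⟨B, _, _, hfin, het, he⟩ := exists_algebra A m hm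
  obtain ⟨e₁⟩ := he (FractionRing R)
  obtain ⟨e₂⟩ := he (IsLocalRing.ResidueField R)
  rw [Nat.card_congr e₁, Nat.card_congr e₂]
  exact natCard_algHom_le het

end Groth.Agent.AbVarLib.TorsReduction
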