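import Groth.Agent.AbVarLib.RigidityTop
import Groth.Agent.AbVarLib.AlgClosedIntegral
import Groth.Agent.AbVarLib.PerfectReduced
import Groth.Agent.SGA3cLib.GeomConn
import Groth.Agent.Props12.KerReduced

/-!
# Translates of connected components of fibres
-/

universe u

open CategoryTheory Limits AlgebraicGeometry MonoidalCategory CartesianMonoidalCategory MonObj GrpObj TopologicalSpace

namespace Groth.Agent.AbVarLib

variable {k : Type u} [Field k]

theorem isClosed_singleton_point {Y : Scheme.{u}} (q : Y ⟶ Spec (CommRingCat.of k)) [IsSeparated q]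
    (y : Spec (CommRingCat.of k) ⟶ Y) (hy : y ≫ q = 𝟙 _) (t : Spec (CommRingCat.of k)) : IsClosed ({y t} : Set Y) := by
  have : IsClosedImmersion (y ≫ q) := by rw [hy]; infer_instance
  have : IsClosedImmersion y := IsClosedImmersion.of_comp y q
  have : Subsingleton ↥(Spec (CommRingCat.of k)) := inferInstanceAs (Subsingleton (PrimeSpectrum k))
  have h := y.isClosedEmbedding.isClosed_range
  rwa [show Set.range y = {y t} from Set.Subset.antisymm (by rintro _ ⟨a, rfl⟩; exact congrArg y (Subsingleton.elim _ _))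
    (Set.singleton_subset_iff.2 ⟨_, rfl⟩)] at h

variable [PerfectField k] {X : Over (Spec (CommRingCat.of k))} [GrpObj X] [IsProper X.hom]
  [GeometricallyIntegral X.hom] {Y : Scheme.{u}} (q : Y ⟶ Spec (CommRingCat.of k)) [IsSeparated q] (f : X.left ⟶ Y)

/-- Translation carries the component of one rational point into that of another. -/
theorem translate_connectedComponentIn_subset (hf : f ≫ q = X.hom)
    (a b : 𝟙_ (Over (Spec (CommRingCat.of k))) ⟶ X) (t : Spec (CommRingCat.of k)) :
    ((toUnit X ≫ (b * a⁻¹)) * 𝟙 X).left '' connectedComponentIn (f ⁻¹' {f (a.left t)}) (a.left t) ⊆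
      connectedComponentIn (f ⁻¹' {f (b.left t)}) (b.left t) := by
  have ha : a.left ≫ X.hom = 𝟙 _ := Over.w a
  have : IsIntegral X.left := GeometricallyIntegral.isIntegral_of_subsingleton X.hom
  let F := f ⁻¹' {f (a.left t)}
  have hF : IsClosed F := by
    refine IsClosed.preimage f.continuous ?_
    rw [← Scheme.Hom.comp_apply]
    exact isClosed_singleton_point q (a.left ≫ f) (by rw [Category.assoc, hf, ha]; rfl) t
  have haF : a.left t ∈ F := rfl
  let C := connectedComponentIn F (a.left t)
  have hC : IsClosed C := by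
    show IsClosed (connectedComponentIn F (a.left t))
    rw [connectedComponentIn_eq_image haF]
    exact hF.isClosedMap_subtype_val _ isClosed_connectedComponent
  let Zc : Closeds X.left := ⟨C, hC⟩
  let I := Scheme.IdealSheafData.vanishingIdeal Zc
  have hr : Set.range I.subschemeι = C := by
    rw [Scheme.IdealSheafData.range_subschemeι]
    exact Scheme.IdealSheafData.coe_support_vanishingIdeal Zc
  have hCc : _root_.IsConnected C := isConnected_connectedComponentIn_iff.2 haF
  have : IsReduced I.subscheme := Props12.isReduced_subscheme_vanishingIdeal Zc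
  have : ConnectedSpace ↥I.subscheme := by
    have hn : Nonempty ↥I.subscheme := by
      obtain ⟨d, -⟩ := hr.ge (mem_connectedComponentIn haF)
      exact ⟨d⟩
    have hp : _root_.IsPreconnected (Set.univ : Set ↥I.subscheme) := by
      rw [← I.subschemeι.isEmbedding.isInducing.isPreconnected_image, Set.image_univ, hr]
      exact hCc.isPreconnected
    exact { toPreconnectedSpace := ⟨hp⟩, toNonempty := hn }
  have : GeometricallyConnected (I.subschemeι ≫ X.hom) :=
    SGA3cLib.geometricallyConnected_of_rational_point k X.hom I.subschemeι a.left ha (by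
      have : Subsingleton ↥(Spec (CommRingCat.of k)) := inferInstanceAs (Subsingleton (PrimeSpectrum k))
      rintro _ ⟨s, rfl⟩
      rw [Subsingleton.elim s t]
      exact hr.ge (mem_connectedComponentIn haF))
  have : GeometricallyReduced (I.subschemeι ≫ X.hom) := geometricallyReduced_of_perfectField _
  let Z : Over (Spec (CommRingCat.of k)) := Over.mk (I.subschemeι ≫ X.hom)
  let j : Z ⟶ X := Over.homMk I.subschemeι
  have : IsProper Z.hom := inferInstanceAs (IsProper (I.subschemeι ≫ X.hom))
  have : GeometricallyConnected Z.hom := ‹GeometricallyConnected (I.subschemeι ≫ X.hom)›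
  have : GeometricallyReduced Z.hom := ‹GeometricallyReduced (I.subschemeι ≫ X.hom)›
  -- the rational point of the component
  have hpre : IsReduced (Spec (CommRingCat.of k)) := inferInstance
  have hrange : Set.range a.left ⊆ Set.range I.subschemeι := by
    have : Subsingleton ↥(Spec (CommRingCat.of k)) := inferInstanceAs (Subsingleton (PrimeSpectrum k))
    rintro _ ⟨s, rfl⟩
    rw [Subsingleton.elim (α := ↥(Spec (CommRingCat.of k))) s t]
    exact hr.ge (mem_connectedComponentIn haF)
  obtain ⟨a', ha'⟩ : ∃ a' : 𝟙_ (Over (Spec (CommRingCat.of k))) ⟶ Z, a' ≫ j = a := by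
    have hfac : ∃ g, g ≫ I.subschemeι = a.left := by
      have hS : Surjective (pullback.snd I.subschemeι a.left) := by
        rw [surjective_iff, ← Set.range_eq_univ, Scheme.Pullback.range_snd, Set.eq_univ_iff_forall]
        exact fun s => hrange ⟨s, rfl⟩
      have := hS
      have : IsIso (pullback.snd I.subschemeι a.left) := @isIso_of_isClosedImmersion_of_surjective _ _ _ _ hS hpre
      exact ⟨inv (pullback.snd I.subschemeι a.left) ≫ pullback.fst I.subschemeι a.left, by
        rw [Category.assoc, pullback.condition, IsIso.inv_hom_id_assoc]⟩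
    obtain ⟨g, hg⟩ := hfac
    refine ⟨Over.homMk g ?_, ?_⟩
    · show g ≫ I.subschemeι ≫ X.hom = _
      rw [reassoc_of% hg]
      exact Over.w a
    · ext1; exact hg
  have hZ : ((j.left ≫ f) '' Set.univ).Subsingleton := by
    rintro _ ⟨z, -, rfl⟩ _ ⟨z', -, rfl⟩
    have h1 : ∀ z : Z.left, f (j.left z) = f (a.left t) := fun z =>
      connectedComponentIn_subset F (a.left t) (hr.le ⟨z, rfl⟩)
    rw [Scheme.Hom.comp_apply, Scheme.Hom.comp_apply, h1, h1]
  have key := subsingleton_image_translate q f hf j a' hZ b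
  rw [ha'] at key
  let τ := ((toUnit X ≫ (b * a⁻¹)) * 𝟙 X).left
  have hjτ : j ≫ ((toUnit X ≫ (b * a⁻¹)) * 𝟙 X) = (toUnit Z ≫ (b * a⁻¹)) * j := by
    rw [MonObj.comp_mul, Category.comp_id, ← Category.assoc, toUnit_unique (j ≫ toUnit X) (toUnit Z)]
  have hτ : ∀ z, f (τ (j.left z)) = (((toUnit Z ≫ (b * a⁻¹)) * j).left ≫ f) z := fun z => by
    rw [← hjτ, Over.comp_left]; rfl
  have hτa : τ (a.left t) = b.left t := by
    have e1 : a ≫ ((toUnit X ≫ (b * a⁻¹)) * 𝟙 X) = b := by
      rw [MonObj.comp_mul, Category.comp_id, ← Category.assoc, toUnit_unique (a ≫ toUnit X) (𝟙 _), Category.id_comp,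
        inv_mul_cancel_right]
    show (a ≫ ((toUnit X ≫ (b * a⁻¹)) * 𝟙 X)).left t = _
    rw [e1]
  have hb : b.left t ∈ τ '' C := ⟨_, mem_connectedComponentIn haF, hτa⟩
  refine (hCc.image τ τ.continuous.continuousOn).isPreconnected.subset_connectedComponentIn hb ?_
  rintro _ ⟨c, hc, rfl⟩
  obtain ⟨z, rfl⟩ := hr.ge hc
  obtain ⟨z₀, hz₀⟩ := hr.ge (mem_connectedComponentIn haF)
  show f (τ (j.left z)) = f (b.left t)
  rw [← hτa, ← hz₀]
  show f (τ (j.left z)) = f (τ (j.left z₀))
  rw [hτ, hτ]
  exact key ⟨z, trivial, rfl⟩ ⟨z₀, trivial, rfl⟩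

theorem translate_connectedComponentIn_eq (hf : f ≫ q = X.hom)
    (a b : 𝟙_ (Over (Spec (CommRingCat.of k))) ⟶ X) (t : Spec (CommRingCat.of k)) :
    ((toUnit X ≫ (b * a⁻¹)) * 𝟙 X).left '' connectedComponentIn (f ⁻¹' {f (a.left t)}) (a.left t) =
      connectedComponentIn (f ⁻¹' {f (b.left t)}) (b.left t) := by
  refine (translate_connectedComponentIn_subset q f hf a b t).antisymm fun c hc => ?_
  have h := translate_connectedComponentIn_subset q f hf b a t ⟨c, hc, rfl⟩
  refine ⟨_, h, ?_⟩
  have e : ((toUnit X ≫ (a * b⁻¹)) * 𝟙 X) ≫ ((toUnit X ≫ (b * a⁻¹)) * 𝟙 X) = 𝟙 X := by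
    rw [MonObj.comp_mul, Category.comp_id, ← Category.assoc, toUnit_unique (_ ≫ toUnit X) (toUnit X), ← _root_.mul_assoc,
      ← MonObj.comp_mul, show b * a⁻¹ * (a * b⁻¹) = 1 by group]
    simp
  show (((toUnit X ≫ (a * b⁻¹)) * 𝟙 X) ≫ ((toUnit X ≫ (b * a⁻¹)) * 𝟙 X)).left c = c
  rw [e]
  rfl

end Groth.Agent.AbVarLib
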